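import Cfsg.Agent.Lib.Helper21.Cover2
import Cfsg.Agent.Lib.Helper19.CliffordDeg

set_option autoImplicit false
open Cfsg
open scoped ComplexConjugate
open Cfsg.Agent.Lib.Helper20 Cfsg.Agent.Lib.Helper81 Cfsg.Agent.Lib.Helper5

namespace Cfsg.Agent.Lib.Helper21

variable {G : Type*} [Group G] [Fintype G] {N : Subgroup G} [Fintype N] {p : ℕ} {M : Ideal AlgInt}

/-- `B` covers `b`. -/
def Covers (N : Subgroup G) [Fintype N] (B : Set (IrrCharacter G)) (b : Set (IrrCharacter N)) :
    Prop :=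
  ∃ χ ∈ B, ∃ θ ∈ b, classInner (fun n : N => (χ : G → ℂ) n) (θ : N → ℂ) ≠ 0

theorem omega_ext0_conjClosure (hN : N.Normal) (b : Set (IrrCharacter N)) (χ : IrrCharacter G)
    (ψ : IrrCharacter N) (hcon : classInner (fun n : N => (χ : G → ℂ) n) (ψ : N → ℂ) ≠ 0)
    [DecidablePred (· ∈ conjClosure hN b)] :
    omega (χ : G → ℂ) (ext0 N (blockCoeff (conjClosure hN b)))
      = if ψ ∈ conjClosure hN b then 1 else 0 := by
  rw [omega_ext0_eq_of_constituent hN χ ψ hcon (blockCoeff_conjClosure_invariant hN b),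
    omega_blockCoeff]

theorem ext0_conjClosure_classFunction (hN : N.Normal) (b : Set (IrrCharacter N)) :
    IsClassFunction G (ext0 N (blockCoeff (conjClosure hN b))) :=
  ext0_classFunction hN (blockCoeff_conjClosure_invariant hN b)

theorem ext0_conjClosure_memLocalRing (hM : IsPModular p M) (hN : N.Normal)
    {b : Set (IrrCharacter N)} (hb : IsPBlock M b) (g : G) :
    MemLocalRing M (ext0 N (blockCoeff (conjClosure hN b)) g) := by
  by_cases hg : g ∈ N
  · rw [ext0_of_mem N _ hg]; exact blockCoeff_conjClosure_memLocalRing hM hN hb _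
  · rw [ext0_of_not_mem N _ hg]; exact memLocalRing_zero hM

theorem exists_constituent_res (N : Subgroup G) [Fintype N] (χ : IrrCharacter G) :
    ∃ ψ : IrrCharacter N, classInner (fun n : N => (χ : G → ℂ) n) (ψ : N → ℂ) ≠ 0 := by
  obtain ⟨φ, hφ, h⟩ := exists_constituent
    (isCharacter_restrict (isCharacter_of_isIrrCharacter χ.2) N) (irr_one_ne_zero χ.2)
  exact ⟨⟨φ, hφ⟩, h⟩

theorem constituent_cjIrr (hN : N.Normal) (χ : IrrCharacter G) (ψ : IrrCharacter N) (g : G) :
    classInner (fun n : N => (χ : G → ℂ) n) (cjIrr hN g ψ : N → ℂ)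
      = classInner (fun n : N => (χ : G → ℂ) n) (ψ : N → ℂ) :=
  clifford_inner_conj hN (irr_classFunction χ) _ g

/-- S0964 in `cjIrr` form: constituents of the members of a block covering `b` lie in conjugates
of `b`. -/
theorem mem_conjClosure_of_covers (hM : IsPModular p M) (hN : N.Normal)
    {B : Set (IrrCharacter G)} (hB : IsPBlock M B) {b : Set (IrrCharacter N)} (hb : IsPBlock M b)
    (hcov : Covers N B b) {χ' : IrrCharacter G} (hχ' : χ' ∈ B) {ψ : IrrCharacter N}
    (hψ : classInner (fun n : N => (χ' : G → ℂ) n) (ψ : N → ℂ) ≠ 0) :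
    ψ ∈ conjClosure hN b := by
  classical
  obtain ⟨χ, hχ, θ, hθ, hcon⟩ := hcov
  have h1 := omega_sub_memLocalIdeal hM (isPBlock_sameBlock hM hB hχ hχ')
    (ext0_conjClosure_classFunction hN b) (ext0_conjClosure_memLocalRing hM hN hb)
  rw [omega_ext0_conjClosure hN b χ θ hcon, omega_ext0_conjClosure hN b χ' ψ hψ,
    if_pos (subset_conjClosure hN b hθ)] at h1
  by_contra hcon'
  rw [if_neg hcon', sub_zero] at h1
  exact not_memLocalIdeal_one hM h1

/-- S0965 (Passman). -/
theorem covers_iff (hM : IsPModular p M) (hN : N.Normal)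
    {B : Set (IrrCharacter G)} (hB : IsPBlock M B) {b : Set (IrrCharacter N)} (hb : IsPBlock M b) :
    Covers N B b ↔ ∀ χ ∈ B, ∀ θ ∈ b, ∀ n : N, MemLocalIdeal M
      (centralChar (χ : G → ℂ) (n : G) - inducedCentralChar N (θ : N → ℂ) (n : G)) := by
  classical
  haveI : Fintype (ConjClasses G) := Fintype.ofFinite _
  constructor
  · rintro ⟨χ, hχ, θ, hθ, hcon⟩ χ' hχ' θ' hθ' n
    have h1 := (constituent_iff_centralChar_eq hN χ θ).1 hcon n
    have h2 : MemLocalIdeal M (centralChar (χ' : G → ℂ) (n : G) - centralChar (χ : G → ℂ) (n : G)) :=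
      isPBlock_sameBlock hM hB hχ' hχ n
    have h3 := inducedCentralChar_sub_of_sameBlock hM (isPBlock_sameBlock hM hb hθ hθ') (n : G)
    have h4 := memLocalIdeal_add hM h2 h3
    rw [h1] at h4
    rwa [sub_add_sub_cancel] at h4
  · intro h
    obtain ⟨χ, hχ⟩ := isPBlock_nonempty hM hB
    obtain ⟨θ, hθ⟩ := isPBlock_nonempty hM hb
    set z := ext0 N (blockCoeff (conjClosure hN b)) with hz
    have hzc := ext0_conjClosure_classFunction hN b
    have hzR := ext0_conjClosure_memLocalRing hM hN hb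
    have h1 : MemLocalIdeal M (omega (χ : G → ℂ) z - omega (θ : N → ℂ) (fun n : N => z n)) := by
      rw [omega_res_eq_sum_classes N _ hzc, omega_eq_sum_classes (irr_classFunction χ) hzc,
        ← Finset.sum_sub_distrib]
      apply memLocalIdeal_sum hM
      intro C _
      rw [← mul_sub]
      by_cases hC : Quotient.out C ∈ N
      · exact memLocalIdeal_mul_left hM (hzR _) (h χ hχ θ hθ ⟨_, hC⟩)
      · rw [ext0_of_not_mem N _ hC, zero_mul]; exact memLocalIdeal_zero hM
    have h2 : (fun n : N => z n) = blockCoeff (conjClosure hN b) := by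
      funext n; rw [hz, ext0_coe]
    rw [h2, omega_blockCoeff, if_pos (subset_conjClosure hN b hθ)] at h1
    obtain ⟨ψ, hψ⟩ := exists_constituent_res N χ
    rw [hz, omega_ext0_conjClosure hN b χ ψ hψ] at h1
    have h3 : ψ ∈ conjClosure hN b := by
      by_contra hcon
      rw [if_neg hcon, zero_sub] at h1
      exact not_memLocalIdeal_one hM (by simpa using memLocalIdeal_neg h1)
    obtain ⟨g, hg⟩ := (mem_conjClosure hN b ψ).1 h3
    exact ⟨χ, hχ, _, hg, by rw [constituent_cjIrr]; exact hψ⟩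

theorem exists_covers (hM : IsPModular p M) {b : Set (IrrCharacter N)} (hb : IsPBlock M b) :
    ∃ B : Set (IrrCharacter G), IsPBlock M B ∧ Covers N B b := by
  obtain ⟨θ, hθ⟩ := isPBlock_nonempty hM hb
  obtain ⟨χ, hχ, hcon⟩ := Cfsg.Agent.Lib.Helper19.exists_irr_over N θ.2
  exact ⟨blockOf M χ, ⟨⟨χ, hχ⟩, rfl⟩, ⟨χ, hχ⟩, mem_blockOf_self hM ⟨χ, hχ⟩, θ, hθ, hcon⟩

omit [Fintype G] [Fintype N] in
theorem dvd_orderOf_of_not_mem [Finite G] (hp : p.Prime) [N.Normal] (hidx : ∃ k : ℕ, N.index = p ^ k)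
    {g : G} (hg : g ∉ N) : p ∣ orderOf g := by
  obtain ⟨k, hk⟩ := hidx
  have h1 : orderOf (QuotientGroup.mk' N g) ∣ orderOf g := orderOf_map_dvd _ g
  have h2 : orderOf (QuotientGroup.mk' N g) ∣ p ^ k := by
    rw [← hk, Subgroup.index_eq_card]
    exact orderOf_dvd_natCard _
  obtain ⟨j, _, hj⟩ := (Nat.dvd_prime_pow hp).1 h2
  rcases Nat.eq_zero_or_pos j with h0 | h0
  · exfalso
    rw [h0, pow_zero, orderOf_eq_one_iff] at hj
    exact hg ((QuotientGroup.eq_one_iff g).1 hj)
  · exact (dvd_pow_self p h0.ne').trans (hj ▸ h1)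

/-- S0966, uniqueness. -/
theorem covers_unique_of_index_pow (hM : IsPModular p M) (hN : N.Normal)
    (hidx : ∃ k : ℕ, N.index = p ^ k)
    {B B' : Set (IrrCharacter G)} (hB : IsPBlock M B) (hB' : IsPBlock M B')
    {b : Set (IrrCharacter N)} (hb : IsPBlock M b) (h : Covers N B b) (h' : Covers N B' b) :
    B = B' := by
  classical
  haveI : Fintype (ConjClasses G) := Fintype.ofFinite _
  have e1 := (covers_iff hM hN hB hb).1 h
  have e2 := (covers_iff hM hN hB' hb).1 h'
  obtain ⟨χ, hχ⟩ := isPBlock_nonempty hM hB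
  obtain ⟨χ', hχ'⟩ := isPBlock_nonempty hM hB'
  obtain ⟨θ, hθ⟩ := isPBlock_nonempty hM hb
  have key : MemLocalIdeal M (omega (χ' : G → ℂ) (blockCoeff B) - omega (χ : G → ℂ) (blockCoeff B)) := by
    rw [omega_eq_sum_classes (irr_classFunction χ') (blockCoeff_classFunction B),
      omega_eq_sum_classes (irr_classFunction χ) (blockCoeff_classFunction B),
      ← Finset.sum_sub_distrib]
    apply memLocalIdeal_sum hM
    intro C _
    rw [← mul_sub]
    by_cases hC : Quotient.out C ∈ N
    · apply memLocalIdeal_mul_left hM (osima hM B hB _)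
      have := memLocalIdeal_sub hM (e2 χ' hχ' θ hθ ⟨_, hC⟩) (e1 χ hχ θ hθ ⟨_, hC⟩)
      rwa [sub_sub_sub_cancel_right] at this
    · rw [blockCoeff_eq_zero_of_singular hM B hB (dvd_orderOf_of_not_mem hM.1 hidx hC), zero_mul]
      exact memLocalIdeal_zero hM
  rw [omega_blockCoeff, omega_blockCoeff, if_pos hχ] at key
  have h3 : χ' ∈ B := by
    by_contra hcon
    rw [if_neg hcon, zero_sub] at key
    exact not_memLocalIdeal_one hM (by simpa using memLocalIdeal_neg key)
  rw [isPBlock_eq_blockOf hM hB h3, isPBlock_eq_blockOf hM hB' hχ']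

omit [Fintype G] [Fintype N] in
theorem inducedCentralChar_eq_zero_of_not_mem (hN : N.Normal) (θ : N → ℂ) {g : G} (hg : g ∉ N) :
    inducedCentralChar N θ g = 0 := by
  rw [inducedCentralChar]
  apply finsum_mem_eq_zero_of_forall_eq_zero
  intro h hh
  exfalso
  obtain ⟨c, hc⟩ := isConj_iff.1 (hh : IsConj g (h : G))
  apply hg
  have : g = c⁻¹ * (h : G) * c⁻¹⁻¹ := by rw [← hc]; group
  rw [this]
  exact hN.conj_mem _ h.2 _

/-- blocks of a `p'`-group are singletons. -/
theorem eq_of_sameBlock_of_not_dvd_card {K : Type*} [Group K] [Fintype K] (hM : IsPModular p M)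
    (hK : ¬ p ∣ Nat.card K) {θ θ' : IrrCharacter K}
    (h : SameBlock M (θ : K → ℂ) (θ' : K → ℂ)) : θ = θ' := by
  classical
  have hR : ∀ g, MemLocalRing M (blockCoeff {θ} g) := by
    intro g
    rw [blockCoeff_singleton]
    apply memLocalRing_mul hM
    · apply memLocalRing_inv (memLocalRing_natCast hM _)
      rw [memLocalIdeal_natCast_iff hM]; exact hK
    · apply memLocalRing_mul hM
      · exact memLocalRing_of_isIntegral hM
          (isCharacter_isIntegral (isCharacter_of_isIrrCharacter θ.2) 1)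
      · exact memLocalRing_of_isIntegral hM
          (isCharacter_isIntegral (isCharacter_conj (isCharacter_of_isIrrCharacter θ.2)) g)
  have h1 := omega_sub_memLocalIdeal hM h (blockCoeff_classFunction {θ}) hR
  rw [omega_blockCoeff, omega_blockCoeff, if_pos (Set.mem_singleton θ)] at h1
  by_contra hne
  rw [if_neg (fun h2 => hne (Set.mem_singleton_iff.1 h2).symm), sub_zero] at h1
  exact not_memLocalIdeal_one hM h1

end Cfsg.Agent.Lib.Helper21
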