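import Cfsg.Agent.Lib.Helper21.FirstMain
import Cfsg.Agent.Lib.Helper20.CharCongr

set_option autoImplicit false
open Cfsg
open scoped ComplexConjugate
open Cfsg.Agent.Lib.Helper20 Cfsg.Agent.Lib.Helper81

namespace Cfsg.Agent.Lib.Helper21

variable {G : Type*} [Group G] [Fintype G] {p : ℕ} {M : Ideal AlgInt}

/-- When the class size and the degree have the same `p`-part, the central character is a unit iff
the character value is. -/
theorem centralChar_memLocalIdeal_iff_of_factorization_eq (hM : IsPModular p M)
    (χ : IrrCharacter G) (g : G)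
    (h : (Subgroup.centralizer ({g} : Set G)).index.factorization p
      = (charDegree (χ : G → ℂ)).factorization p) :
    MemLocalIdeal M (centralChar (χ : G → ℂ) g) ↔ MemLocalIdeal M ((χ : G → ℂ) g) := by
  have hp := hM.1
  set C := Subgroup.centralizer ({g} : Set G) with hC
  have hi0 : C.index ≠ 0 := Subgroup.index_ne_zero_of_finite
  have hd0 : charDegree (χ : G → ℂ) ≠ 0 := by
    intro h0
    have := irr_one_ne_zero χ.2
    rw [irr_one_eq_charDegree, h0] at this
    exact this (by simp)
  set m := (charDegree (χ : G → ℂ)).factorization p with hm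
  have h5 : p ^ m * (charDegree (χ : G → ℂ) / p ^ m) = charDegree (χ : G → ℂ) :=
    Nat.ordProj_mul_ordCompl_eq_self _ p
  have h6 : ¬ p ∣ charDegree (χ : G → ℂ) / p ^ m := Nat.not_dvd_ordCompl hp hd0
  have h7 : p ^ m * (C.index / p ^ m) = C.index := by
    rw [← h]; exact Nat.ordProj_mul_ordCompl_eq_self _ p
  have h8 : ¬ p ∣ C.index / p ^ m := by
    rw [← h]; exact Nat.not_dvd_ordCompl hp hi0
  set c := charDegree (χ : G → ℂ) / p ^ m with hc
  set i := C.index / p ^ m with hi
  have hp0 : (p : ℂ) ≠ 0 := by exact_mod_cast hp.ne_zero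
  have hc0 : (c : ℂ) ≠ 0 := by
    intro h0
    apply h6
    have : c = 0 := by exact_mod_cast h0
    rw [this]; exact dvd_zero p
  have h9 : centralChar (χ : G → ℂ) g = ((i : ℂ) / (c : ℂ)) * (χ : G → ℂ) g := by
    rw [centralChar, ← hC, irr_one_eq_charDegree, ← h5, ← h7]
    push_cast
    field_simp
  have hcu : ¬ MemLocalIdeal M (c : ℂ) := by rw [memLocalIdeal_natCast_iff hM]; exact h6
  have hiu : ¬ MemLocalIdeal M (i : ℂ) := by rw [memLocalIdeal_natCast_iff hM]; exact h8
  have hR : MemLocalRing M ((i : ℂ) / (c : ℂ)) :=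
    memLocalRing_div hM (memLocalRing_natCast hM i) (memLocalRing_natCast hM c) hcu
  have hu : ¬ MemLocalIdeal M ((i : ℂ) / (c : ℂ)) := by
    intro h10
    apply hiu
    have := memLocalIdeal_mul_right hM h10 (memLocalRing_natCast hM c)
    rwa [div_mul_cancel₀ _ hc0] at this
  have hχR : MemLocalRing M ((χ : G → ℂ) g) :=
    memLocalRing_of_isIntegral hM (isCharacter_isIntegral (isCharacter_of_isIrrCharacter χ.2) g)
  rw [h9, memLocalIdeal_mul_iff hM hR hχR]
  constructor
  · rintro (h10 | h10)
    · exact absurd h10 hu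
    · exact h10
  · exact Or.inr

/-- numerical facts at a defect class. -/
theorem defectClass_numerics (hM : IsPModular p M) (B : Set (IrrCharacter G)) (hB : IsPBlock M B)
    (y : G) (hy : IsDefectClass M B y) (χ : IrrCharacter G) (hχ : χ ∈ B)
    (hht : blockHeight p B (χ : G → ℂ) = 0) :
    (Nat.card (Subgroup.centralizer ({y} : Set G))).factorization p
      + (charDegree (χ : G → ℂ)).factorization p = (Nat.card G).factorization p := by
  obtain ⟨χ₀, hχ₀, h1, h2⟩ := exists_height_zero p B (isPBlock_nonempty hM hB)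
  have h3 : (charDegree (χ : G → ℂ)).factorization p = (charDegree (χ₀ : G → ℂ)).factorization p := by
    rw [blockHeight, ← h1] at hht
    have := h2 χ hχ
    omega
  have h4 := factorization_centralizer_add_le hM B hB y hy.2.1 _ (fun ψ hψ =>
    (pow_dvd_pow p (h2 ψ hψ)).trans (Nat.ordProj_dvd _ p))
  have h5 := factorization_card_le_of_centralChar_unit hM χ₀ y (hy.2.2 χ₀ hχ₀)
  omega

omit [Fintype G] in
theorem factorization_index_add [Finite G] (p : ℕ) (C : Subgroup G) :
    (Nat.card C).factorization p + C.index.factorization p = (Nat.card G).factorization p := by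
  have h1 : Nat.card C * C.index = Nat.card G := C.card_mul_index
  have hC0 : Nat.card C ≠ 0 := Nat.card_pos.ne'
  have hi0 : C.index ≠ 0 := Subgroup.index_ne_zero_of_finite
  rw [← h1, Nat.factorization_mul hC0 hi0]; rfl

/-- A height zero character is a unit at `x * y`, `y` a defect class and `x` a `p`-element
commuting with `y`. -/
theorem height_zero_unit_at_defectClass (hM : IsPModular p M) (B : Set (IrrCharacter G))
    (hB : IsPBlock M B) (y : G) (hy : IsDefectClass M B y) (χ : IrrCharacter G) (hχ : χ ∈ B)
    (hht : blockHeight p B (χ : G → ℂ) = 0) (x : G) (hc : Commute x y) {k : ℕ}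
    (hx : x ^ (p ^ k) = 1) : ¬ MemLocalIdeal M ((χ : G → ℂ) (x * y)) := by
  have hreg : ¬ p ∣ orderOf y := by
    intro hs
    apply hy.2.1
    rw [blockCoeff_eq_zero_of_singular hM B hB hs]
    exact memLocalIdeal_zero hM
  have h1 := defectClass_numerics hM B hB y hy χ hχ hht
  have h2 := factorization_index_add p (Subgroup.centralizer ({y} : Set G))
  have h3 := (centralChar_memLocalIdeal_iff_of_factorization_eq hM χ y (by omega)).not.1
    (hy.2.2 χ hχ)
  intro h4
  apply h3
  have h5 := isCharacter_mul_sub_memLocalIdeal hM (isCharacter_of_isIrrCharacter χ.2) hc hx hreg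
  have := memLocalIdeal_sub hM h4 h5
  rwa [sub_sub_cancel] at this

/-- The central character of `B` is a unit at `x * y`, `y` a defect class, `x` central in a Sylow
`p`-subgroup of `C(y)`. -/
theorem centralChar_unit_at_center [Fact p.Prime] (hM : IsPModular p M) (B : Set (IrrCharacter G))
    (hB : IsPBlock M B) (y : G) (hy : IsDefectClass M B y) (P : Subgroup G)
    (hP : SylowIn p (Subgroup.centralizer ({y} : Set G)) P) (x : G) (hx : x ∈ P)
    (hxc : ∀ w ∈ P, x * w = w * x) :
    ∀ χ ∈ B, ¬ MemLocalIdeal M (centralChar (χ : G → ℂ) (x * y)) := by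
  have hp := hM.1
  have hreg : ¬ p ∣ orderOf y := by
    intro hs
    apply hy.2.1
    rw [blockCoeff_eq_zero_of_singular hM B hB hs]
    exact memLocalIdeal_zero hM
  have hc : Commute x y := by
    have := hP.le hx
    rwa [Subgroup.mem_centralizer_singleton_iff] at this
  obtain ⟨k, hk⟩ := hP.isPGroup ⟨x, hx⟩
  have hxk : x ^ (p ^ k) = 1 := by
    have := congrArg Subtype.val hk
    simpa using this
  obtain ⟨χ₀, hχ₀, h1, h2⟩ := exists_height_zero p B (isPBlock_nonempty hM hB)
  have hht : blockHeight p B (χ₀ : G → ℂ) = 0 := by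
    rw [blockHeight, ← h1, Nat.sub_self]
  apply centralChar_unit_of_exists hM B hB
  refine ⟨χ₀, hχ₀, ?_⟩
  have hPC : P ≤ Subgroup.centralizer ({x * y} : Set G) := by
    intro w hw
    rw [Subgroup.mem_centralizer_singleton_iff]
    have h3 := hP.le hw
    rw [Subgroup.mem_centralizer_singleton_iff] at h3
    rw [← mul_assoc, ← hxc w hw, mul_assoc, h3, mul_assoc]
  have hCC : Subgroup.centralizer ({x * y} : Set G) ≤ Subgroup.centralizer ({y} : Set G) := by
    intro t ht
    rw [Subgroup.mem_centralizer_singleton_iff] at ht ⊢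
    have h3 : Commute t (x * y) := ht
    have h4 : Commute t ((x * y) ^ (p ^ k)) := h3.pow_right _
    rw [hc.mul_pow, hxk, one_mul] at h4
    obtain ⟨m, hm⟩ := exists_pow_eq_self_of_coprime
      (Nat.Coprime.pow_left k ((Nat.Prime.coprime_iff_not_dvd hp).2 hreg) : (p ^ k).Coprime (orderOf y))
    have h5 := h4.pow_right m
    rw [hm] at h5
    exact h5
  have hcardP : Nat.card P = p ^ (Nat.card (Subgroup.centralizer ({y} : Set G))).factorization p := by
    obtain ⟨S, rfl⟩ := hP
    rw [Subgroup.card_map_of_injective (Subgroup.subtype_injective _), S.card_eq_multiplicity]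
  have e1 : (Nat.card (Subgroup.centralizer ({y} : Set G))).factorization p
      ≤ (Nat.card (Subgroup.centralizer ({x * y} : Set G))).factorization p := by
    rw [← hp.pow_dvd_iff_le_factorization Nat.card_pos.ne', ← hcardP]
    exact Subgroup.card_dvd_of_le hPC
  have e2 : (Nat.card (Subgroup.centralizer ({x * y} : Set G))).factorization p
      ≤ (Nat.card (Subgroup.centralizer ({y} : Set G))).factorization p :=
    (Nat.factorization_le_iff_dvd Nat.card_pos.ne' Nat.card_pos.ne').2
      (Subgroup.card_dvd_of_le hCC) p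
  have e3 := defectClass_numerics hM B hB y hy χ₀ hχ₀ hht
  have e4 := factorization_index_add p (Subgroup.centralizer ({x * y} : Set G))
  rw [centralChar_memLocalIdeal_iff_of_factorization_eq hM χ₀ (x * y) (by omega)]
  exact height_zero_unit_at_defectClass hM B hB y hy χ₀ hχ₀ hht x hc hxk

end Cfsg.Agent.Lib.Helper21
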