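import Cfsg.Agent.Lib.Helper21.Fong2
import Cfsg.Agent.Lib.Helper21.DefectCenter

set_option autoImplicit false
open Cfsg
open scoped ComplexConjugate
open Cfsg.Agent.Lib.Helper20 Cfsg.Agent.Lib.Helper81 Cfsg.Agent.Lib.Helper5

namespace Cfsg.Agent.Lib.Helper21

variable {G : Type*} [Group G] [Fintype G] {N : Subgroup G} [Fintype N] {p : ℕ} {M : Ideal AlgInt}

/-- For a `G`-invariant block `b` of `N` there is `x ∈ N`, a defect class of `b`, with
`ν|C_G(x)| = d(b) + ν|G:N|`, at which the induced central character of `b` is a unit. -/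
theorem exists_good_class_of_invariant (hM : IsPModular p M) (hN : N.Normal)
    {b : Set (IrrCharacter N)} (hb : IsPBlock M b) (hinv : ∀ g : G, ∀ θ ∈ b, cjIrr hN g θ ∈ b) :
    ∃ x : N, ¬ MemLocalIdeal M (blockCoeff b x) ∧
      (∀ θ ∈ b, ¬ MemLocalIdeal M (inducedCentralChar N (θ : N → ℂ) (x : G))) ∧
      (Nat.card (Subgroup.centralizer ({(x : G)} : Set G))).factorization p
        = blockDefect p b + N.index.factorization p := by
  classical
  haveI : Fintype (ConjClasses G) := Fintype.ofFinite _
  haveI : Fintype (ConjClasses N) := Fintype.ofFinite _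
  have hp := hM.1
  have hcl := conjClosure_eq_of_invariant hN hinv
  set z := ext0 N (blockCoeff b) with hz
  have hzc : IsClassFunction G z := by
    have := ext0_conjClosure_classFunction hN b
    rwa [hcl] at this
  have hzR : ∀ g, MemLocalRing M (z g) := by
    have := ext0_conjClosure_memLocalRing hM hN hb
    rwa [hcl] at this
  obtain ⟨θ, hθ⟩ := isPBlock_nonempty hM hb
  have h1 : omega (θ : N → ℂ) (fun n : N => z n) = 1 := by
    have h2 : (fun n : N => z n) = blockCoeff b := by funext n; rw [hz, ext0_coe]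
    rw [h2, omega_blockCoeff, if_pos hθ]
  rw [omega_res_eq_sum_classes N _ hzc] at h1
  obtain ⟨y, hy1, hy2⟩ : ∃ y : G, ¬ MemLocalIdeal M (z y) ∧
      ¬ MemLocalIdeal M (inducedCentralChar N (θ : N → ℂ) y) := by
    by_contra hcon
    push Not at hcon
    apply not_memLocalIdeal_one hM
    rw [← h1]
    apply memLocalIdeal_sum hM
    intro C _
    by_cases h3 : MemLocalIdeal M (z (Quotient.out C))
    · exact memLocalIdeal_mul_right hM h3 (inducedCentralChar_memLocalRing hM θ _)
    · exact memLocalIdeal_mul_left hM (hzR _) (hcon _ h3)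
  have hyN : y ∈ N := by
    by_contra h
    apply hy1
    rw [hz, ext0_of_not_mem N _ h]
    exact memLocalIdeal_zero hM
  obtain ⟨x, hx⟩ : ∃ x : N, (x : G) = y := ⟨⟨y, hyN⟩, rfl⟩
  subst hx
  have hax : ¬ MemLocalIdeal M (blockCoeff b x) := by
    rw [hz, ext0_coe] at hy1
    exact hy1
  have hsame : ∀ g : G, SameBlock M (θ : N → ℂ) (cjF hN (θ : N → ℂ) g) := by
    intro g
    have h9 := isPBlock_sameBlock hM hb hθ (hinv g θ hθ)
    rw [cjIrr_coe] at h9
    exact h9
  have h4 := inducedCentralChar_sub_numClasses_mul hM hN θ hsame x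
  have h5 : ¬ MemLocalIdeal M ((numClasses N (x : G) : ℂ) * centralChar (θ : N → ℂ) x) := by
    intro h6
    apply hy2
    have := memLocalIdeal_add hM h4 h6
    rwa [sub_add_cancel] at this
  rw [memLocalIdeal_mul_iff hM (memLocalRing_natCast hM _) (centralChar_memLocalRing hM θ x)] at h5
  push Not at h5
  obtain ⟨h6, h7⟩ := h5
  rw [memLocalIdeal_natCast_iff hM] at h6
  have e1 := blockDefect_le_factorization_centralizer hM b hb x
    (centralChar_unit_of_exists hM b hb x ⟨θ, hθ, h7⟩)
  have e2 := factorization_centralizer_le_blockDefect hM b hb x hax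
  have e3 := index_centralizer_eq_numClasses_mul hN x
  have e4 : (Subgroup.centralizer ({(x : G)} : Set G)).index.factorization p
      = (Subgroup.centralizer ({x} : Set N)).index.factorization p := by
    rw [e3, Nat.factorization_mul (fun h0 => h6 (by rw [h0]; exact dvd_zero p))
      Subgroup.index_ne_zero_of_finite]
    simp [Nat.factorization_eq_zero_of_not_dvd h6]
  have e5 := factorization_index_add p (Subgroup.centralizer ({(x : G)} : Set G))
  have e6 := factorization_index_add p (Subgroup.centralizer ({x} : Set N))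
  have e7 := factorization_index_add p N
  refine ⟨x, hax, ?_, by omega⟩
  intro θ' hθ' hcon
  apply hy2
  have := memLocalIdeal_add hM
    (inducedCentralChar_sub_of_sameBlock hM (isPBlock_sameBlock hM hb hθ hθ') (x : G)) hcon
  rwa [sub_add_cancel] at this

/-- Fong's theorem on the defect groups of the blocks of maximal defect covering an invariant
block. -/
theorem fong_invariant [Fact p.Prime] (hM : IsPModular p M) (hN : N.Normal)
    {b : Set (IrrCharacter N)} (hb : IsPBlock M b) (hinv : ∀ g : G, ∀ θ ∈ b, cjIrr hN g θ ∈ b)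
    {B : Set (IrrCharacter G)} (hB : IsPBlock M B) (hcov : Covers N B b)
    (hmax : ∀ B' : Set (IrrCharacter G), IsPBlock M B' → Covers N B' b →
      blockDefect p B' ≤ blockDefect p B)
    (P : Subgroup G) (hP : IsDefectGroup p M B P) :
    ¬ p ∣ (P ⊔ N).index ∧ IsDefectGroup p M b ((P ⊓ N).subgroupOf N) ∧
      blockDefect p B = blockDefect p b + N.index.factorization p := by
  classical
  have hp := hM.1
  have hcl := conjClosure_eq_of_invariant hN hinv
  obtain ⟨x, hax, hix, hcx⟩ := exists_good_class_of_invariant hM hN hb hinv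
  obtain ⟨θ, hθ⟩ := isPBlock_nonempty hM hb
  -- upper bound for all covering blocks
  have hup : ∀ B' : Set (IrrCharacter G), IsPBlock M B' → Covers N B' b →
      blockDefect p B' ≤ (Nat.card (Subgroup.centralizer ({(x : G)} : Set G))).factorization p := by
    intro B' hB' hcov'
    apply blockDefect_le_factorization_centralizer hM B' hB'
    intro χ' hχ' hcon
    apply hix θ hθ
    have h1 := (covers_iff hM hN hB' hb).1 hcov' χ' hχ' θ hθ x
    have := memLocalIdeal_sub hM hcon h1
    rwa [sub_sub_cancel] at this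
  -- the idempotent
  have hzA := ext0_conjClosure_eq_blockCoeff_overSet hN b
  rw [hcl] at hzA
  have hA : ∀ χ ∈ overSet N b, ∀ ψ : IrrCharacter G, SameBlock M (χ : G → ℂ) (ψ : G → ℂ) →
      ψ ∈ overSet N b := by
    intro χ hχ ψ h
    have := overSet_union_of_blocks hM hN hb (χ := χ) (ψ := ψ) (by rw [hcl]; exact hχ) h
    rwa [hcl] at this
  obtain ⟨B₀, hB₀, hB₀A, hB₀x⟩ := exists_block_unit_coeff_of_union hM (overSet N b) hA (x : G) (by
    rw [← hzA, ext0_coe]; exact hax)
  have hcov₀ : Covers N B₀ b := by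
    obtain ⟨χ, hχ⟩ := isPBlock_nonempty hM hB₀
    obtain ⟨ψ, hψ, hc⟩ := hB₀A hχ
    exact ⟨χ, hχ, ψ, hψ, hc⟩
  have hlow := factorization_centralizer_le_blockDefect hM B₀ hB₀ (x : G) hB₀x
  have hdB : blockDefect p B = blockDefect p b + N.index.factorization p := by
    have h1 := hup B hB hcov
    have h2 := hmax B₀ hB₀ hcov₀
    omega
  -- P ∩ N is contained in a defect group of b
  have hBA : B ⊆ overSet N b := by
    obtain ⟨χ, hχ, ψ, hψ, hc⟩ := hcov
    intro χ' hχ'
    exact hA χ ⟨ψ, hψ, hc⟩ χ' (isPBlock_sameBlock hM hB hχ hχ')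
  have hzc : IsClassFunction G (ext0 N (blockCoeff b)) := by
    rw [hzA]; exact blockCoeff_classFunction _
  have hzR : ∀ g, MemLocalRing M (ext0 N (blockCoeff b) g) := by
    have := ext0_conjClosure_memLocalRing hM hN hb
    rwa [hcl] at this
  have hconv : conv (ext0 N (blockCoeff b)) (blockCoeff B) = blockCoeff B := by
    apply eq_of_omega_eq (conv_classFunction hzc (blockCoeff_classFunction B))
      (blockCoeff_classFunction B)
    intro χ
    rw [omega_conv χ.2 _ _ (blockCoeff_classFunction B), hzA, omega_blockCoeff, omega_blockCoeff]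
    by_cases hχ : χ ∈ B
    · rw [if_pos hχ, if_pos (hBA hχ), one_mul]
    · rw [if_neg hχ, mul_zero]
  have hP' := hP
  rw [isDefectGroup_iff] at hP'
  obtain ⟨k, hk, hkP⟩ := hP'
  obtain ⟨g, hg1, hg2, -⟩ := exists_fixed_of_conv_unit hM hzc (blockCoeff_classFunction B) hzR
    (osima hM B hB) k (by rw [hconv]; exact hk.2.1) P hkP.isPGroup hkP.le
  have hgN : g ∈ N := by
    by_contra h
    apply hg2
    rw [ext0_of_not_mem N _ h]
    exact memLocalIdeal_zero hM
  rw [ext0_of_mem N _ hgN] at hg2
  set Q : Subgroup N := (P ⊓ N).subgroupOf N with hQ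
  have hQp : IsPGroup p Q := (hkP.isPGroup.to_le inf_le_left).comap_subtype
  have hQg : Q ≤ Subgroup.centralizer ({(⟨g, hgN⟩ : N)} : Set N) := by
    intro u hu
    rw [hQ, Subgroup.mem_subgroupOf] at hu
    have h1 := hg1 hu.1
    rw [Subgroup.mem_centralizer_singleton_iff] at h1 ⊢
    exact Subtype.ext h1
  obtain ⟨Db, hDb⟩ := exists_isDefectGroup hM b hb
  have hDb' := hDb
  rw [isDefectGroup_iff] at hDb'
  obtain ⟨y, hy, hyD⟩ := hDb'
  obtain ⟨n, hn⟩ := minmax_le_conj hM b hb y ⟨g, hgN⟩ hy.2.2 hg2 Db hyD Q hQp hQg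
  -- cardinalities
  have cP := card_defectGroup hM B hB P hP
  have cD := card_defectGroup hM b hb Db hDb
  have cQ : Nat.card Q = Nat.card (P ⊓ N : Subgroup G) := by
    rw [← Subgroup.card_map_of_injective N.subtype_injective, hQ,
      Subgroup.map_subgroupOf_eq_of_le inf_le_right]
  have cQle : Nat.card Q ≤ p ^ blockDefect p b := by
    rw [← cD, ← card_map_conj Q n]
    exact Subgroup.card_le_of_le hn
  have r1 : Nat.card (P ⊓ N : Subgroup G) * N.relIndex (P ⊔ N) = Nat.card P := by
    have := Subgroup.relIndex_mul_relIndex ⊥ (P ⊓ N) P bot_le inf_le_left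
    rw [Subgroup.relIndex_bot_left, Subgroup.relIndex_bot_left, Subgroup.inf_relIndex_left] at this
    rw [Subgroup.relIndex_sup_right]
    exact this
  have r2 : N.relIndex (P ⊔ N) * (P ⊔ N).index = N.index := Subgroup.relIndex_mul_index le_sup_right
  have hidx0 : N.index ≠ 0 := Subgroup.index_ne_zero_of_finite
  have hj0 : (P ⊔ N).index ≠ 0 := Subgroup.index_ne_zero_of_finite
  obtain ⟨s, -, hs⟩ := (Nat.dvd_prime_pow hp).1 (cP ▸ Dvd.intro_left _ r1 :
    N.relIndex (P ⊔ N) ∣ p ^ blockDefect p B)
  obtain ⟨u, -, hu⟩ := (Nat.dvd_prime_pow hp).1 (cP ▸ Dvd.intro _ r1 :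
    Nat.card (P ⊓ N : Subgroup G) ∣ p ^ blockDefect p B)
  have hs' : s ≤ N.index.factorization p := by
    rw [← hp.pow_dvd_iff_le_factorization hidx0, ← hs]
    exact Dvd.intro _ r2
  have hu' : u ≤ blockDefect p b := by
    rw [cQ, hu] at cQle
    exact (Nat.pow_le_pow_iff_right hp.one_lt).1 cQle
  have hsum : u + s = blockDefect p b + N.index.factorization p := by
    rw [hu, hs, cP, ← pow_add, hdB] at r1
    exact Nat.pow_right_injective hp.two_le r1
  have hu'' : u = blockDefect p b := by omega
  have hs'' : s = N.index.factorization p := by omega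
  refine ⟨?_, ?_, hdB⟩
  · intro hdvd
    have h1 : (N.relIndex (P ⊔ N) * (P ⊔ N).index).factorization p = N.index.factorization p := by
      rw [r2]
    rw [Nat.factorization_mul (by rw [hs]; exact pow_ne_zero _ hp.ne_zero) hj0, hs,
      hp.factorization_pow] at h1
    have h2 : 1 ≤ (P ⊔ N).index.factorization p :=
      (hp.dvd_iff_one_le_factorization hj0).1 hdvd
    simp only [Finsupp.coe_add, Pi.add_apply, Finsupp.single_eq_same] at h1
    omega
  · have h1 : Q.map (MulAut.conj n).toMonoidHom = Db :=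
      Subgroup.eq_of_le_of_card_ge hn (by rw [card_map_conj, cD, cQ, hu, hu''])
    have h2 := isDefectGroup_conj hDb n⁻¹
    rw [← h1] at h2
    convert h2 using 1
    ext v
    rw [mem_map_conj, mem_map_conj]
    simp [mul_assoc]

end Cfsg.Agent.Lib.Helper21
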