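import Cfsg.Agent.Lib.Helper21.ExtFirstMain
import Cfsg.Agent.Lib.Helper21.Fong3
import Cfsg.Agent.S4435
import Cfsg.Agent.S4436

set_option autoImplicit false
open Cfsg
open scoped ComplexConjugate
open Cfsg.Agent.Lib.Helper20 Cfsg.Agent.Lib.Helper81 Cfsg.Agent.Lib.Helper5

namespace Cfsg.Agent.Lib.Helper21

variable {p : ℕ} {M : Ideal AlgInt}

section transport

variable {K K' : Type*} [Group K] [Group K']

theorem charDegree_comp_equiv (e : K' ≃* K) (θ : K → ℂ) : charDegree (θ ∘ e) = charDegree θ := by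
  simp [charDegree]

theorem blockDefect_image_irrCongr [Finite K] [Finite K'] (e : K' ≃* K) (p : ℕ)
    (b : Set (IrrCharacter K)) : blockDefect p (irrCongr e '' b) = blockDefect p b := by
  rw [blockDefect, blockDefect, Nat.card_congr e.toEquiv, Set.image_image]
  simp only [irrCongr_coe, charDegree_comp_equiv]

theorem classInner_comp_equiv [Fintype K] [Fintype K'] (e : K' ≃* K) (φ ψ : K → ℂ) :
    classInner (φ ∘ e) (ψ ∘ e) = classInner φ ψ := by
  simp only [classInner, Function.comp_apply]
  rw [Nat.card_congr e.toEquiv]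
  congr 1
  exact Equiv.sum_comp e.toEquiv (fun x => φ x * conj (ψ x))

end transport

variable {G : Type*} [Group G] [Fintype G]

omit [Fintype G] in
/-- Two blocks induced by the same block coincide. -/
theorem isInducedBlock_unique (hM : IsPModular p M) {H : Subgroup G} {b : Set (IrrCharacter H)}
    {B B' : Set (IrrCharacter G)} (h : IsInducedBlock M H b B) (h' : IsInducedBlock M H b B') :
    B = B' := by
  obtain ⟨ξ, hξ⟩ := isPBlock_nonempty hM h.1
  obtain ⟨χ, hχ⟩ := isPBlock_nonempty hM h.2.1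
  obtain ⟨χ', hχ'⟩ := isPBlock_nonempty hM h'.2.1
  have hs : SameBlock M (χ : G → ℂ) (χ' : G → ℂ) := by
    intro g
    have := memLocalIdeal_sub hM (h'.2.2 ξ hξ χ' hχ' g) (h.2.2 ξ hξ χ hχ g)
    rwa [sub_sub_sub_cancel_left] at this
  rw [isPBlock_eq_blockOf hM h.2.1 hχ, isPBlock_eq_blockOf hM h'.2.1 hχ']
  exact (blockOf_eq_of_mem hM hs).symm

/-- Uniqueness of the covering block when the normal subgroup contains the centraliser of a normal
`p`-subgroup. -/
theorem covers_unique_of_centralizer_le (hM : IsPModular p M) (Q : Subgroup G) [Q.Normal]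
    (hQ : IsPGroup p Q) {K : Subgroup G} [Fintype K] (hK : K.Normal)
    (hCK : Subgroup.centralizer (Q : Set G) ≤ K) {b : Set (IrrCharacter K)} (hb : IsPBlock M b)
    {B B' : Set (IrrCharacter G)} (hB : IsPBlock M B) (hB' : IsPBlock M B')
    (h : Covers K B b) (h' : Covers K B' b) : B = B' :=
  isInducedBlock_unique hM (isInducedBlock_of_covers hM Q hQ hK hCK hb hB h)
    (isInducedBlock_of_covers hM Q hQ hK hCK hb hB' h')

omit [Fintype G] in
theorem cjIrr_of_mem {K : Subgroup G} [Finite K] (hK : K.Normal) {k : G} (hk : k ∈ K)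
    (θ : IrrCharacter K) : cjIrr hK k θ = θ := by
  haveI : Fintype K := Fintype.ofFinite _
  apply Subtype.ext
  funext n
  exact irr_classFunction θ n ⟨k, hk⟩

/-- The defect of the block covering `β`, when `K` contains the centraliser of the normal
`p`-subgroup `Q ≤ K`: it is the defect of `β` plus the `p`-part of the index of `K` in the
stabiliser of `β`. -/
theorem blockDefect_of_covers_stabilizer [Fact p.Prime] (hM : IsPModular p M)
    (Q : Subgroup G) [Q.Normal] (hQ : IsPGroup p Q) (K : Subgroup G) [Fintype K] (hK : K.Normal)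
    (hQK : Q ≤ K) (hCK : Subgroup.centralizer (Q : Set G) ≤ K)
    (β : Set (IrrCharacter K)) (hβ : IsPBlock M β) (T : Subgroup G)
    (hT : ∀ g : G, g ∈ T ↔ ∀ θ ∈ β, cjIrr hK g θ ∈ β)
    (B : Set (IrrCharacter G)) (hB : IsPBlock M B) (hcov : Covers K B β) :
    blockDefect p B = blockDefect p β + (K.relIndex T).factorization p := by
  classical
  haveI : Fintype T := Fintype.ofFinite _
  haveI := hK
  have hKT : K ≤ T := by
    intro k hk
    rw [hT]
    intro θ hθ
    rw [cjIrr_of_mem hK hk]; exact hθ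
  have hT' : ∀ g : G, g ∈ T ↔ ∀ θ ∈ β, ∀ θ' : IrrCharacter K,
      (∀ n : K, (θ' : K → ℂ) n = (θ : K → ℂ) ⟨g * n * g⁻¹, hK.conj_mem n n.2 g⟩) → θ' ∈ β := by
    intro g
    rw [hT]
    constructor
    · intro h θ hθ θ' h'
      have : θ' = cjIrr hK g θ := Subtype.ext (funext h')
      rw [this]; exact h θ hθ
    · intro h θ hθ
      exact h θ hθ _ (fun n => rfl)
  obtain ⟨B', hB', hcov', hind⟩ := (Cfsg.Agent.S4435.result p M hM K β hβ T hT' hKT).2.2 B hB hcov
  have hdef := (Cfsg.Agent.S4436.result p M hM K β hβ T hT' hKT B' hB' hcov' B hind).1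
  obtain ⟨D, hD⟩ := exists_isDefectGroup hM B' hB'
  have e1 : blockDefect p B = blockDefect p B' := by
    have c1 := card_defectGroup hM B' hB' D hD
    have c2 := card_defectGroup hM B hB _ (hdef D hD)
    rw [Subgroup.card_map_of_injective (Subgroup.subtype_injective _), c1] at c2
    exact (Nat.pow_right_injective hM.1.two_le c2).symm
  -- inside `T`
  haveI : Fintype (K.subgroupOf T) := Fintype.ofFinite _
  have hK' : (K.subgroupOf T).Normal := hK.subgroupOf T
  have hβ' := isPBlock_downBlock (M := M) hKT hβ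
  have hc' : Covers (K.subgroupOf T) B' (downBlock hKT β) := by
    obtain ⟨ψ, hψ, θ, hθ, hne⟩ := hcov'
    refine ⟨ψ, hψ, _, ⟨θ, hθ, rfl⟩, ?_⟩
    rw [irrCongr_coe]
    have : (fun n : K.subgroupOf T => (ψ : T → ℂ) n)
        = (fun n : K => (ψ : T → ℂ) ⟨(n : G), hKT n.2⟩) ∘ (Subgroup.subgroupOfEquivOfLe hKT) := by
      funext n; rfl
    rw [this, classInner_comp_equiv]
    exact hne
  have hinv : ∀ g : T, ∀ θ ∈ downBlock hKT β, cjIrr hK' g θ ∈ downBlock hKT β := by
    rintro g _ ⟨θ, hθ, rfl⟩
    refine ⟨cjIrr hK (g : G) θ, (hT g).1 g.2 θ hθ, ?_⟩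
    apply Subtype.ext
    funext n
    rfl
  haveI hQn : (Q.subgroupOf T).Normal := Subgroup.Normal.subgroupOf inferInstance T
  have hQp : IsPGroup p (Q.subgroupOf T) := hQ.comap_subtype
  have hCK' : Subgroup.centralizer ((Q.subgroupOf T : Subgroup T) : Set T) ≤ K.subgroupOf T := by
    intro x hx
    rw [Subgroup.mem_subgroupOf]
    apply hCK
    rw [Subgroup.mem_centralizer_iff] at hx ⊢
    intro u hu
    have := hx ⟨u, hKT (hQK hu)⟩ (by
      show (⟨u, _⟩ : T) ∈ Q.subgroupOf T
      rw [Subgroup.mem_subgroupOf]; exact hu)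
    exact congrArg Subtype.val this
  have hmax : ∀ B'' : Set (IrrCharacter T), IsPBlock M B'' →
      Covers (K.subgroupOf T) B'' (downBlock hKT β) → blockDefect p B'' ≤ blockDefect p B' := by
    intro B'' hB'' hc''
    rw [covers_unique_of_centralizer_le hM _ hQp hK' hCK' hβ' hB'' hB' hc'' hc']
  have hf := (fong_invariant hM hK' hβ' hinv hB' hc' hmax D hD).2.2
  rw [e1, hf]
  congr 1
  exact blockDefect_image_irrCongr _ p β

/-- Extended first main theorem, the index condition: for a block `b` of `H = P C_G(P)` with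
defect group `P`, the induced block of `G` has defect group `P` iff `p` does not divide the index of
`H` in the stabiliser of `b` in `N_G(P)`. -/
theorem isDefectGroup_iff_not_dvd_relIndex_stabilizer [Fact p.Prime] (hM : IsPModular p M)
    (P : Subgroup G) (hP : IsPGroup p P) (H : Subgroup G) [Fintype H]
    (hH : H = P ⊔ Subgroup.centralizer (P : Set G)) (b : Set (IrrCharacter H))
    (hb : IsPBlock M b) (hbP : IsDefectGroup p M b (P.subgroupOf H)) (B : Set (IrrCharacter G))
    (hind : IsInducedBlock M H b B) (T : Subgroup G)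
    (hT : ∀ g : G, g ∈ T ↔ (g ∈ Subgroup.normalizer (P : Set G) ∧ ∀ θ ∈ b,
      ∀ θ' : IrrCharacter H, (∀ h h' : H, (h' : G) = g * h * g⁻¹ →
        (θ' : H → ℂ) h' = (θ : H → ℂ) h) → θ' ∈ b)) :
    IsDefectGroup p M B P ↔ ¬ p ∣ H.relIndex T := by
  classical
  have hPH : P ≤ H := by rw [hH]; exact le_sup_left
  have hHN : H ≤ Subgroup.normalizer (P : Set G) := by
    rw [hH]; exact sup_le Subgroup.le_normalizer (Subgroup.centralizer_le_normalizer _)
  have hTN : T ≤ Subgroup.normalizer (P : Set G) := fun g hg => ((hT g).1 hg).1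
  haveI : Fintype (Subgroup.normalizer (P : Set G)) := Fintype.ofFinite _
  haveI : Fintype (H.subgroupOf (Subgroup.normalizer (P : Set G))) := Fintype.ofFinite _
  have hK : (H.subgroupOf (Subgroup.normalizer (P : Set G))).Normal := by
    rw [hH]; exact normal_sup_centralizer_subgroupOf_normalizer P
  haveI hQn : (P.subgroupOf (Subgroup.normalizer (P : Set G))).Normal :=
    Subgroup.normal_in_normalizer
  have hQp : IsPGroup p (P.subgroupOf (Subgroup.normalizer (P : Set G))) := hP.comap_subtype
  have hQK : P.subgroupOf (Subgroup.normalizer (P : Set G))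
      ≤ H.subgroupOf (Subgroup.normalizer (P : Set G)) := by
    intro x hx
    rw [Subgroup.mem_subgroupOf] at hx ⊢
    exact hPH hx
  have hCK : Subgroup.centralizer ((P.subgroupOf (Subgroup.normalizer (P : Set G)) :
      Subgroup (Subgroup.normalizer (P : Set G))) : Set (Subgroup.normalizer (P : Set G)))
      ≤ H.subgroupOf (Subgroup.normalizer (P : Set G)) := by
    intro x hx
    rw [Subgroup.mem_subgroupOf, hH]
    apply le_sup_right (a := P)
    rw [Subgroup.mem_centralizer_iff] at hx ⊢
    intro u hu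
    have := hx ⟨u, Subgroup.le_normalizer hu⟩ (by
      show (⟨u, _⟩ : Subgroup.normalizer (P : Set G)) ∈ P.subgroupOf _
      rw [Subgroup.mem_subgroupOf]; exact hu)
    exact congrArg Subtype.val this
  have hβ := isPBlock_downBlock (M := M) hHN hb
  obtain ⟨𝓑, h𝓑, hcov⟩ := exists_covers (G := Subgroup.normalizer (P : Set G)) hM hβ
  have i1 := isInducedBlock_of_covers hM _ hQp hK hCK hβ h𝓑 hcov
  have j1 := isInducedBlock_tower hM hHN i1 hind
  have hTΓ : ∀ g : Subgroup.normalizer (P : Set G),
      g ∈ T.subgroupOf (Subgroup.normalizer (P : Set G)) ↔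
        ∀ θ ∈ downBlock hHN b, cjIrr hK g θ ∈ downBlock hHN b := by
    intro g
    rw [Subgroup.mem_subgroupOf, ← T.inv_mem_iff, hT]
    constructor
    · rintro ⟨-, hstab⟩ _ ⟨θ, hθ, rfl⟩
      refine ⟨(irrCongr (Subgroup.subgroupOfEquivOfLe hHN)).symm
        (cjIrr hK g (irrCongr (Subgroup.subgroupOfEquivOfLe hHN) θ)), ?_, by simp⟩
      apply hstab θ hθ
      intro h h' hh'
      show (θ : H → ℂ) _ = (θ : H → ℂ) h
      apply congrArg
      apply Subtype.ext
      show (g : G) * (h' : G) * (g : G)⁻¹ = (h : G)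
      rw [hh']; group
    · intro hst
      refine ⟨(Subgroup.normalizer (P : Set G)).inv_mem g.2, ?_⟩
      intro θ hθ θ' hcond
      obtain ⟨θ'', hθ'', he⟩ := hst _ ⟨θ, hθ, rfl⟩
      have : θ' = θ'' := by
        apply Subtype.ext
        funext h'
        have h5 := congrFun (congrArg Subtype.val he) ((Subgroup.subgroupOfEquivOfLe hHN).symm h')
        rw [irrCongr_coe, cjIrr_coe, cjF_apply, irrCongr_coe] at h5
        simp only [Function.comp_apply, MulEquiv.apply_symm_apply] at h5
        rw [h5]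
        apply hcond
        show (h' : G) = (g : G)⁻¹ * ((g : G) * (h' : G) * (g : G)⁻¹) * ((g : G)⁻¹)⁻¹
        group
      rw [this]; exact hθ''
  have num := blockDefect_of_covers_stabilizer hM _ hQp _ hK hQK hCK _ hβ _ hTΓ 𝓑 h𝓑 hcov
  rw [Subgroup.relIndex_subgroupOf hTN] at num
  have e1 : blockDefect p (downBlock hHN b) = blockDefect p b := blockDefect_image_irrCongr _ p b
  rw [e1] at num
  have c1 := card_defectGroup hM b hb _ hbP
  have c2 : Nat.card (P.subgroupOf H) = Nat.card P :=
    Nat.card_congr (Subgroup.subgroupOfEquivOfLe hPH).toEquiv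
  have c3 : Nat.card (P.subgroupOf (Subgroup.normalizer (P : Set G))) = Nat.card P :=
    Nat.card_congr (Subgroup.subgroupOfEquivOfLe Subgroup.le_normalizer).toEquiv
  have hrel0 : H.relIndex T ≠ 0 := Subgroup.index_ne_zero_of_finite
  constructor
  · intro hBP
    have d1 := isDefectGroup_subgroupOf_of_induced hM Subgroup.le_normalizer le_rfl j1 hBP
    have c4 := card_defectGroup hM 𝓑 h𝓑 _ d1
    rw [c3, ← c2, c1] at c4
    have c5 := Nat.pow_right_injective hM.1.two_le c4
    have c6 : (H.relIndex T).factorization p = 0 := by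
      have c5' : blockDefect p b = blockDefect p 𝓑 := c5
      omega
    rcases (Nat.factorization_eq_zero_iff _ _).1 c6 with h | h | h
    · exact absurd hM.1 h
    · exact h
    · exact absurd h hrel0
  · intro hnd
    have c6 : (H.relIndex T).factorization p = 0 := Nat.factorization_eq_zero_of_not_dvd hnd
    rw [c6, add_zero] at num
    obtain ⟨E, hE⟩ := exists_isDefectGroup hM 𝓑 h𝓑
    have h1 : P.subgroupOf (Subgroup.normalizer (P : Set G)) ≤ E :=
      normal_pSubgroup_le_defectGroup hM 𝓑 h𝓑 E hE _ hQp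
    have h2 : P.subgroupOf (Subgroup.normalizer (P : Set G)) = E := by
      apply Subgroup.eq_of_le_of_card_ge h1
      rw [card_defectGroup hM 𝓑 h𝓑 E hE, num, c3, ← c2, c1]
    exact isDefectGroup_of_induced_normalizer hM P hP j1 (h2 ▸ hE)

end Cfsg.Agent.Lib.Helper21
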