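import Cfsg.Agent.Lib.Helper21.CoverDefect
import Cfsg.Agent.Lib.Helper21.StabDefect
import Cfsg.Agent.Lib.Helper14.PConstrained
import Cfsg.Agent.Lib.Helper31.ElemAb
import Cfsg.Agent.Lib.Helper73.PSolvSub
import Cfsg.Agent.Lib.Helper80.PSolv
import Cfsg.Agent.Lib.Helper79.DegreeRatio

set_option autoImplicit false
open Cfsg
open scoped ComplexConjugate
open Cfsg.Agent.Lib.Helper20 Cfsg.Agent.Lib.Helper81 Cfsg.Agent.Lib.Helper5

namespace Cfsg.Agent.Lib.Helper21

section group

variable {G : Type*} [Group G] {p : ℕ}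

/-- In a `p`-soluble group every proper normal subgroup lies in a proper normal subgroup whose
index is a power of `p` or prime to `p`. -/
theorem exists_normal_index_of_isPSolvable [hp : Fact p.Prime] (hG : IsPSolvable p G)
    (N : Subgroup G) [hN : N.Normal] (hNt : N ≠ ⊤) :
    ∃ G₁ : Subgroup G, G₁.Normal ∧ N ≤ G₁ ∧ G₁ ≠ ⊤ ∧
      ((∃ m : ℕ, G₁.index = p ^ m) ∨ G₁.index.Coprime p) := by
  obtain ⟨n, H, h0, hlast, hmono, hnorm, hfac⟩ := hG
  have key : ∀ k : Fin (n + 1), N ⊔ H k = ⊤ →
      ∃ G₁ : Subgroup G, G₁.Normal ∧ N ≤ G₁ ∧ G₁ ≠ ⊤ ∧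
        ((∃ m : ℕ, G₁.index = p ^ m) ∨ G₁.index.Coprime p) := by
    intro k
    induction k using Fin.induction with
    | zero =>
      intro h
      rw [h0, sup_bot_eq] at h
      exact absurd h hNt
    | succ j ih =>
      intro h
      by_cases hj : N ⊔ H j.castSucc = ⊤
      · exact ih hj
      · haveI := hnorm j.castSucc
        refine ⟨N ⊔ H j.castSucc, inferInstance, le_sup_left, hj, ?_⟩
        have hle : H j.castSucc ≤ H j.succ := hmono (Fin.castSucc_le_succ j)
        have hdvd : (N ⊔ H j.castSucc).index ∣ (H j.castSucc).relIndex (H j.succ) := by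
          have h1 : (N ⊔ H j.castSucc).index = (N ⊔ H j.castSucc).relIndex (H j.succ) := by
            have h2 : (N ⊔ H j.castSucc).relIndex (H j.succ ⊔ (N ⊔ H j.castSucc))
                = (N ⊔ H j.castSucc).relIndex (H j.succ) := Subgroup.relIndex_sup_right _ _
            have h3 : H j.succ ⊔ (N ⊔ H j.castSucc) = ⊤ := by
              rw [eq_top_iff, ← h]
              exact sup_le (le_sup_left.trans le_sup_right) le_sup_left
            rw [h3, Subgroup.relIndex_top_right] at h2
            exact h2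
          rw [h1]
          exact Subgroup.relIndex_dvd_of_le_left _ le_sup_right
        rcases hfac j with ⟨m, hm⟩ | hc
        · left
          rw [hm] at hdvd
          obtain ⟨b, -, hb⟩ := (Nat.dvd_prime_pow hp.out).mp hdvd
          exact ⟨b, hb⟩
        · right
          exact Nat.Coprime.coprime_dvd_left hdvd hc
  exact key (Fin.last n) (by rw [hlast, sup_top_eq])

/-- In a `p`-soluble group the class of a `p`-regular element outside `O_{p'}(G)` has length
divisible by `p`. -/
theorem dvd_index_centralizer_of_regular [Finite G] [hp : Fact p.Prime] (hG : IsPSolvable p G)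
    (x : G) (hx : ¬ p ∣ orderOf x) (hxN : x ∉ pPrimeCore p G) :
    p ∣ (Subgroup.centralizer ({x} : Set G)).index := by
  by_contra hcon
  obtain ⟨S, hS⟩ := Cfsg.Agent.Lib.Helper80.exists_sylow_le_of_not_dvd_index p _ hcon
  apply hxN
  apply Cfsg.Agent.Lib.Helper31.le_pPrimeCore_of_le_centralizer_sylow hG S (Subgroup.zpowers x)
  · rw [Subgroup.zpowers_le, Subgroup.mem_centralizer_iff]
    intro s hs
    have := hS hs
    rw [Subgroup.mem_centralizer_singleton_iff] at this
    exact this
  · rw [Nat.card_zpowers]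
    exact ((Nat.Prime.coprime_iff_not_dvd hp.out).2 hx).symm
  · exact Subgroup.mem_zpowers x

theorem subgroupOf_eq_pPrimeCore [Finite G] (G₁ : Subgroup G) [G₁.Normal]
    (h : pPrimeCore p G ≤ G₁) : (pPrimeCore p G).subgroupOf G₁ = pPrimeCore p G₁ := by
  haveI := Cfsg.Agent.Lib.Helper14.pPrimeCore_characteristic p G
  haveI : (pPrimeCore p G).Normal := inferInstance
  apply le_antisymm
  · apply Cfsg.Agent.Lib.Helper14.le_pPrimeCore inferInstance
    rw [Nat.card_congr (Subgroup.subgroupOfEquivOfLe h).toEquiv]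
    exact Cfsg.Agent.Lib.Helper14.card_pPrimeCore_coprime
  · have h1 := Cfsg.Agent.Lib.Helper14.map_subtype_pPrimeCore_le (p := p) G₁
    rw [Subgroup.map_le_iff_le_comap] at h1
    exact h1

end group

section transport

variable {G : Type*} [Group G] [Fintype G] {N G₁ : Subgroup G} [Fintype N] [Fintype G₁]
  [Fintype (N.subgroupOf G₁)]

/-- restriction from `G₁` to `N ≤ G₁`. -/
def resN (hNG : N ≤ G₁) (η : G₁ → ℂ) : N → ℂ := fun n => η ⟨n, hNG n.2⟩

omit [Fintype G] [Fintype G₁] in
theorem classInner_subgroupOf (hNG : N ≤ G₁) (η : G₁ → ℂ) (θ : N → ℂ) :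
    classInner (fun n : N.subgroupOf G₁ => η n) (θ ∘ (Subgroup.subgroupOfEquivOfLe hNG))
      = classInner (resN hNG η) θ := by
  have h1 : (fun n : N.subgroupOf G₁ => η n) = resN hNG η ∘ (Subgroup.subgroupOfEquivOfLe hNG) := by
    funext n
    rfl
  rw [h1, classInner_comp_equiv]

theorem mem_overSet_subgroupOf (hNG : N ≤ G₁) (θ : IrrCharacter N) (η : IrrCharacter G₁) :
    η ∈ overSet (N.subgroupOf G₁) {irrCongr (Subgroup.subgroupOfEquivOfLe hNG) θ}
      ↔ classInner (resN hNG (η : G₁ → ℂ)) (θ : N → ℂ) ≠ 0 := by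
  constructor
  · rintro ⟨ψ, hψ, h⟩
    rw [Set.mem_singleton_iff.1 hψ, irrCongr_coe, classInner_subgroupOf] at h
    exact h
  · intro h
    refine ⟨_, rfl, ?_⟩
    rw [irrCongr_coe, classInner_subgroupOf]
    exact h

theorem overSet_subgroupOf_invariant (hN : N.Normal) (hG₁ : G₁.Normal) (hNG : N ≤ G₁)
    (θ : IrrCharacter N) (hinv : ∀ g : G, cjF hN (θ : N → ℂ) g = (θ : N → ℂ)) (g : G)
    (η : IrrCharacter G₁)
    (hη : η ∈ overSet (N.subgroupOf G₁) {irrCongr (Subgroup.subgroupOfEquivOfLe hNG) θ}) :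
    cjIrr hG₁ g η ∈ overSet (N.subgroupOf G₁) {irrCongr (Subgroup.subgroupOfEquivOfLe hNG) θ} := by
  rw [mem_overSet_subgroupOf] at hη ⊢
  have h1 : resN hNG (cjIrr hG₁ g η : G₁ → ℂ) = cjF hN (resN hNG (η : G₁ → ℂ)) g := by
    funext n
    rfl
  rw [h1, ← hinv g, classInner_cjF]
  exact hη

theorem overSet_overSet_subgroupOf (hNG : N ≤ G₁) (θ : IrrCharacter N) :
    overSet G₁ (overSet (N.subgroupOf G₁) {irrCongr (Subgroup.subgroupOfEquivOfLe hNG) θ})
      = overSet N {θ} := by
  ext χ
  constructor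
  · rintro ⟨η, hη, hcon⟩
    rw [mem_overSet_subgroupOf] at hη
    refine ⟨θ, rfl, ?_⟩
    have hχc : IsCharacter G₁ (fun x : G₁ => (χ : G → ℂ) x) :=
      isCharacter_restrict (isCharacter_of_isIrrCharacter χ.2) G₁
    obtain ⟨Δ, hΔ, e⟩ := exists_add_of_constituent hχc η.2 hcon
    have e1 : (fun n : N => (χ : G → ℂ) n) = resN hNG (η : G₁ → ℂ) + resN hNG Δ := by
      funext n
      exact congrFun e ⟨n, hNG n.2⟩
    have hc1 : IsCharacter N (resN hNG (η : G₁ → ℂ)) :=
      isCharacter_comp_hom (isCharacter_of_isIrrCharacter η.2) (Subgroup.inclusion hNG)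
    have hc2 : IsCharacter N (resN hNG Δ) := isCharacter_comp_hom hΔ (Subgroup.inclusion hNG)
    obtain ⟨a, ha⟩ := isCharacter_classInner_nat hc1 θ.2
    obtain ⟨b, hb⟩ := isCharacter_classInner_nat hc2 θ.2
    rw [e1, classInner_add_left, ha, hb]
    rw [ha] at hη
    have h1 : a ≠ 0 := by exact_mod_cast hη
    have h2 : a + b ≠ 0 := by omega
    exact_mod_cast h2
  · rintro ⟨ψ, hψ, hcon⟩
    rw [Set.mem_singleton_iff.1 hψ] at hcon
    have hχc : IsCharacter G₁ (fun x : G₁ => (χ : G → ℂ) x) :=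
      isCharacter_restrict (isCharacter_of_isIrrCharacter χ.2) G₁
    obtain ⟨β, hβ, h1, h2⟩ := Cfsg.Agent.Lib.Helper79.exists_irr_constituent_over
      (N.subgroupOf G₁) hχc ((θ : N → ℂ) ∘ (Subgroup.subgroupOfEquivOfLe hNG)) (by
        rw [classInner_subgroupOf hNG (fun x : G₁ => (χ : G → ℂ) x)]
        exact hcon)
    refine ⟨⟨β, hβ⟩, ?_, h1⟩
    rw [mem_overSet_subgroupOf, ← classInner_subgroupOf]
    exact h2

end transport

/-- Blocks of a `p'`-group are singletons. -/
theorem isPBlock_singleton_of_not_dvd_card {K : Type*} [Group K] [Fintype K] {p : ℕ}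
    {M : Ideal AlgInt} (hM : IsPModular p M) (hK : ¬ p ∣ Nat.card K) (θ : IrrCharacter K) :
    IsPBlock M ({θ} : Set (IrrCharacter K)) := by
  refine ⟨θ, ?_⟩
  ext ψ
  constructor
  · intro h
    rw [Set.mem_singleton_iff.1 h]
    exact mem_blockOf_self hM θ
  · intro h
    exact (eq_of_sameBlock_of_not_dvd_card hM hK h).symm

/-- Fong: over an invariant character of `O_{p'}(G)`, `G` `p`-soluble, there is exactly one block,
and it has full defect. -/
theorem psolv_block_aux.{u} {p : ℕ} [Fact p.Prime] {M : Ideal AlgInt} (hM : IsPModular p M) :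
    ∀ (n : ℕ) (G : Type u) [Group G] [Fintype G], Nat.card G = n → IsPSolvable p G →
    ∀ (N : Subgroup G) [Fintype N] (hN : N.Normal), N = pPrimeCore p G →
    ∀ θ : IrrCharacter N, (∀ g : G, cjF hN (θ : N → ℂ) g = (θ : N → ℂ)) →
      IsPBlock M (overSet N {θ}) ∧
        blockDefect p (overSet N {θ}) = (Nat.card G).factorization p := by
  intro n
  induction n using Nat.strong_induction_on with
  | _ n ih =>
  intro G _ _ hcard hsolv N _ hN hNdef θ hinv
  have hp : p.Prime := hM.1
  have hpN : ¬ p ∣ Nat.card N := by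
    have h1 : (Nat.card N).Coprime p := by
      rw [hNdef]; exact Cfsg.Agent.Lib.Helper14.card_pPrimeCore_coprime
    exact fun h => (Nat.Prime.coprime_iff_not_dvd hp).1 h1.symm h
  by_cases hNt : N = ⊤
  · have hb := isPBlock_singleton_of_not_dvd_card hM hpN θ
    have hνN : (Nat.card N).factorization p = 0 := Nat.factorization_eq_zero_of_not_dvd hpN
    have hfull : blockDefect p ({θ} : Set (IrrCharacter N)) = (Nat.card N).factorization p := by
      rw [blockDefect, hνN, Nat.zero_sub]
    have hidx1 : N.index = 1 := by rw [hNt, Subgroup.index_top]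
    have hinv' : ∀ g : G, ∀ θ' ∈ ({θ} : Set (IrrCharacter N)), cjIrr hN g θ' ∈ ({θ} : Set (IrrCharacter N)) := by
      intro g θ' hθ'
      rw [Set.mem_singleton_iff.1 hθ', Set.mem_singleton_iff]
      exact Subtype.ext (hinv g)
    obtain ⟨h1, h2⟩ := overSet_isPBlock_of_unique hM hN hb hinv' (fun B B' hB hB' h h' =>
      covers_unique_of_full_defect hM hN hb hfull
        (by rw [hidx1]; exact hp.one_lt.ne' ∘ Nat.dvd_one.1)
        (fun x _ hx => absurd (hNt ▸ Subgroup.mem_top x) hx) hB hB' h h')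
    refine ⟨h1, ?_⟩
    rw [h2, hfull, ← factorization_index_add_card p N]
    omega
  · haveI := hN
    obtain ⟨G₁, hG₁, hNG, hG₁t, hidx⟩ := exists_normal_index_of_isPSolvable hsolv N hNt
    haveI : Fintype G₁ := Fintype.ofFinite _
    haveI : Fintype (N.subgroupOf G₁) := Fintype.ofFinite _
    have hlt : Nat.card G₁ < n := by
      rw [← hcard]
      by_contra hcon
      push Not at hcon
      exact hG₁t (Subgroup.eq_top_of_card_eq G₁ (le_antisymm (Subgroup.card_le_card_group G₁) hcon))
    have hN₁ : (N.subgroupOf G₁).Normal := inferInstance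
    obtain ⟨hb₁, hd₁⟩ := ih (Nat.card G₁) hlt G₁ rfl
      (Cfsg.Agent.Lib.Helper73.isPSolvable_subgroup hsolv G₁) (N.subgroupOf G₁) hN₁
      (by
        haveI := hG₁
        rw [hNdef]
        exact subgroupOf_eq_pPrimeCore G₁ (hNdef ▸ hNG))
      (irrCongr (Subgroup.subgroupOfEquivOfLe hNG) θ)
      (by
        intro g
        funext x
        exact congrFun (hinv (g : G)) (Subgroup.subgroupOfEquivOfLe hNG x))
    have hinv₁ := overSet_subgroupOf_invariant hN hG₁ hNG θ hinv
    have huniq : ∀ B B' : Set (IrrCharacter G), IsPBlock M B → IsPBlock M B' →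
        Covers G₁ B (overSet (N.subgroupOf G₁) {irrCongr (Subgroup.subgroupOfEquivOfLe hNG) θ}) →
        Covers G₁ B' (overSet (N.subgroupOf G₁) {irrCongr (Subgroup.subgroupOfEquivOfLe hNG) θ}) →
        B = B' := by
      intro B B' hB hB' h h'
      rcases hidx with ⟨m, hm⟩ | hc
      · exact covers_unique_of_index_pow hM hG₁ ⟨m, hm⟩ hB hB' hb₁ h h'
      · exact covers_unique_of_full_defect hM hG₁ hb₁ hd₁
          (fun hd => (Nat.Prime.coprime_iff_not_dvd hp).1 hc.symm hd)
          (fun x hx hxG => dvd_index_centralizer_of_regular hsolv x hx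
            (fun hx' => hxG (hNG (hNdef ▸ hx')))) hB hB' h h'
    obtain ⟨h1, h2⟩ := overSet_isPBlock_of_unique hM hG₁ hb₁ hinv₁ huniq
    rw [overSet_overSet_subgroupOf hNG θ] at h1 h2
    refine ⟨h1, ?_⟩
    rw [h2, hd₁, ← factorization_index_add_card p G₁]
    omega

/-- The defect groups of a block of full defect are the Sylow `p`-subgroups. -/
theorem isDefectGroup_sylow_of_full {G : Type*} [Group G] [Fintype G] {p : ℕ} [Fact p.Prime]
    {M : Ideal AlgInt} (hM : IsPModular p M) (B : Set (IrrCharacter G)) (hB : IsPBlock M B)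
    (hfull : blockDefect p B = (Nat.card G).factorization p) :
    (∀ P : Sylow p G, IsDefectGroup p M B (P : Subgroup G)) ∧
      ∀ D : Subgroup G, IsDefectGroup p M B D → ∃ P : Sylow p G, D = (P : Subgroup G) := by
  have h2 : ∀ D : Subgroup G, IsDefectGroup p M B D → ∃ P : Sylow p G, D = (P : Subgroup G) := by
    intro D hD
    have hc := card_defectGroup hM B hB D hD
    rw [hfull] at hc
    exact ⟨Sylow.ofCard D hc, rfl⟩
  refine ⟨?_, h2⟩
  intro P
  obtain ⟨D, hD⟩ := exists_isDefectGroup hM B hB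
  obtain ⟨P', rfl⟩ := h2 D hD
  obtain ⟨k, hk⟩ := MulAction.exists_smul_eq G P' P
  have h3 : (P : Subgroup G) = (P' : Subgroup G).map (MulAut.conj k).toMonoidHom := by
    rw [← hk]
    ext x
    rw [Sylow.coe_subgroup_smul, Subgroup.mem_pointwise_smul_iff_inv_smul_mem, mem_map_conj]
    simp [MulAut.smul_def, mul_assoc]
  rw [h3]
  exact isDefectGroup_conj hD k

/-- S4492. -/
theorem psolv_block {G : Type*} [Group G] [Fintype G] {p : ℕ} [Fact p.Prime] {M : Ideal AlgInt}
    (hM : IsPModular p M) (hsolv : IsPSolvable p G) (N : Subgroup G) [Fintype N] (hN : N.Normal)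
    (hNdef : N = pPrimeCore p G) (θ : IrrCharacter N)
    (hinv : ∀ g : G, cjF hN (θ : N → ℂ) g = (θ : N → ℂ)) :
    IsPBlock M (overSet N {θ}) ∧ blockDefect p (overSet N {θ}) = (Nat.card G).factorization p :=
  psolv_block_aux hM _ G rfl hsolv N hN hNdef θ hinv

end Cfsg.Agent.Lib.Helper21
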