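import Cfsg.Agent.Lib.Helper21.DefectCard

set_option autoImplicit false
open Cfsg
open scoped ComplexConjugate
open Cfsg.Agent.Lib.Helper20 Cfsg.Agent.Lib.Helper81

namespace Cfsg.Agent.Lib.Helper21

variable {G : Type*} [Group G] [Fintype G] {p : ℕ} {M : Ideal AlgInt}

/-- A normal `p`-subgroup centralises every element at which some central character is a unit. -/
theorem normal_pSubgroup_le_centralizer (hM : IsPModular p M) (N : Subgroup G) [N.Normal]
    (hN : IsPGroup p N) (χ : IrrCharacter G) (g : G)
    (hg : ¬ MemLocalIdeal M (centralChar (χ : G → ℂ) g)) :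
    N ≤ Subgroup.centralizer ({g} : Set G) := by
  have h1 : g ∈ Subgroup.centralizer (N : Set G) := by
    by_contra hcon
    exact hg (centralChar_memLocalIdeal_of_not_mem_centralizer hM N hN χ g hcon)
  intro u hu
  rw [Subgroup.mem_centralizer_singleton_iff]
  rw [Subgroup.mem_centralizer_iff] at h1
  exact h1 u hu

/-- Every normal `p`-subgroup is contained in every defect group. -/
theorem normal_pSubgroup_le_defectGroup [Fact p.Prime] (hM : IsPModular p M)
    (B : Set (IrrCharacter G)) (hB : IsPBlock M B) (D : Subgroup G) (hD : IsDefectGroup p M B D)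
    (N : Subgroup G) [N.Normal] (hN : IsPGroup p N) : N ≤ D := by
  obtain ⟨g, hg, S, rfl⟩ := hD
  obtain ⟨χ, hχ⟩ := isPBlock_nonempty hM hB
  have h1 := normal_pSubgroup_le_centralizer hM N hN χ g (hg.2.2 χ hχ)
  have h2 : IsPGroup p (N.subgroupOf (Subgroup.centralizer ({g} : Set G))) := hN.comap_subtype
  have h3 := h2.le_sylow_of_normal S
  rw [← Subgroup.map_subgroupOf_eq_of_le h1]
  exact Subgroup.map_mono h3

end Cfsg.Agent.Lib.Helper21
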