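import Cfsg.Agent.Lib.Helper21.Induced
import Cfsg.Agent.Lib.Helper5.Clifford
import Cfsg.Agent.Lib.Helper5.IndDeg

set_option autoImplicit false
open Cfsg
open scoped ComplexConjugate
open Cfsg.Agent.Lib.Helper20 Cfsg.Agent.Lib.Helper81 Cfsg.Agent.Lib.Helper5

namespace Cfsg.Agent.Lib.Helper21

variable {G : Type*} [Group G]

/-- extension by zero of a function on a subgroup. -/
noncomputable def ext0 (N : Subgroup G) (f : N → ℂ) : G → ℂ := fun g => by
  classical exact if h : g ∈ N then f ⟨g, h⟩ else 0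

theorem ext0_of_mem (N : Subgroup G) (f : N → ℂ) {g : G} (h : g ∈ N) : ext0 N f g = f ⟨g, h⟩ := by
  simp only [ext0]; exact dif_pos h

theorem ext0_coe (N : Subgroup G) (f : N → ℂ) (n : N) : ext0 N f n = f n := by
  rw [ext0_of_mem N f n.2]

theorem ext0_of_not_mem (N : Subgroup G) (f : N → ℂ) {g : G} (h : g ∉ N) : ext0 N f g = 0 := by
  simp only [ext0]; exact dif_neg h

theorem ext0_smul (N : Subgroup G) (c : ℂ) (f : N → ℂ) : ext0 N (c • f) = c • ext0 N f := by
  funext g
  by_cases h : g ∈ N
  · simp [ext0_of_mem N _ h]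
  · simp [ext0_of_not_mem N _ h]

theorem ext0_res (N : Subgroup G) {z : G → ℂ} (hz : ∀ g, g ∉ N → z g = 0) :
    ext0 N (fun n : N => z n) = z := by
  funext g
  by_cases h : g ∈ N
  · rw [ext0_of_mem N _ h]
  · rw [ext0_of_not_mem N _ h, hz g h]

theorem ext0_classFunction {N : Subgroup G} (hN : N.Normal) {f : N → ℂ}
    (hf : ∀ g : G, cjF hN f g = f) : IsClassFunction G (ext0 N f) := by
  intro g h
  by_cases hg : g ∈ N
  · rw [ext0_of_mem N _ hg, ext0_of_mem N _ (hN.conj_mem g hg h)]
    exact congrFun (hf h) ⟨g, hg⟩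
  · rw [ext0_of_not_mem N _ hg, ext0_of_not_mem]
    intro h1
    apply hg
    have := hN.conj_mem _ h1 h⁻¹
    simpa [mul_assoc] using this

theorem cjF_res {N : Subgroup G} (hN : N.Normal) {z : G → ℂ} (hz : IsClassFunction G z) (g : G) :
    cjF hN (fun n : N => z n) g = fun n : N => z n := cjF_restrict hN hz g

variable [Fintype G]

theorem omega_ext0 (N : Subgroup G) [Fintype N] (χ : G → ℂ) (f : N → ℂ) :
    omega χ (ext0 N f) = ∑ n : N, f n * χ n / χ 1 := by
  rw [omega, ← sum_subgroup_eq N (fun g => ext0 N f g * χ g / χ 1)]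
  · apply Finset.sum_congr rfl
    intro n _
    rw [ext0_coe]
  · intro g hg
    rw [ext0_of_not_mem N f hg]; simp

theorem conv_ext0 (N : Subgroup G) [Fintype N] (f w : N → ℂ) :
    conv (ext0 N f) (ext0 N w) = ext0 N (conv f w) := by
  funext k
  simp only [conv]
  rw [← sum_subgroup_eq N (fun g => ext0 N f g * ext0 N w (g⁻¹ * k))]
  · by_cases hk : k ∈ N
    · rw [ext0_of_mem N _ hk]
      simp only [conv]
      apply Finset.sum_congr rfl
      intro n _
      rw [ext0_coe, ext0_of_mem N w (N.mul_mem (N.inv_mem n.2) hk)]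
      rfl
    · rw [ext0_of_not_mem N _ hk]
      apply Finset.sum_eq_zero
      intro n _
      rw [ext0_of_not_mem N w, mul_zero]
      intro h1
      apply hk
      have := N.mul_mem n.2 h1
      simpa using this
  · intro g hg
    rw [ext0_of_not_mem N f hg, zero_mul]

omit [Fintype G] in
/-- the primitive central idempotent of `θ`. -/
theorem blockCoeff_singleton (θ : IrrCharacter G) (g : G) :
    blockCoeff {θ} g = (Nat.card G : ℂ)⁻¹ * ((θ : G → ℂ) 1 * conj ((θ : G → ℂ) g)) := by
  rw [blockCoeff, finsum_mem_singleton]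

theorem conv_blockCoeff_singleton (θ : IrrCharacter G) {w : G → ℂ} (hw : IsClassFunction G w) :
    conv (blockCoeff {θ}) w = omega (θ : G → ℂ) w • blockCoeff {θ} := by
  classical
  apply eq_of_omega_eq (conv_classFunction (blockCoeff_classFunction _) hw)
    (isClassFunction_smul _ (blockCoeff_classFunction _))
  intro ψ
  rw [omega_conv ψ.2 _ _ hw, omega_smul, omega_blockCoeff]
  by_cases h : ψ ∈ ({θ} : Set (IrrCharacter G))
  · rw [if_pos h, Set.mem_singleton_iff.1 h]; ring
  · rw [if_neg h]; ring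

theorem omega_ext0_blockCoeff_singleton (N : Subgroup G) [Fintype N] (χ : G → ℂ)
    (θ : IrrCharacter N) :
    omega χ (ext0 N (blockCoeff {θ})) = (θ : N → ℂ) 1 / χ 1 * classInner (fun n : N => χ n) (θ : N → ℂ) := by
  rw [omega_ext0, classInner, Finset.mul_sum, Finset.mul_sum]
  apply Finset.sum_congr rfl
  intro n _
  rw [blockCoeff_singleton]
  ring

/-- (C1) If `θ` is a constituent of `χ_N`, the central characters of `χ` and `θ` agree on
`G`-invariant class functions of `N`. -/
theorem omega_ext0_eq_of_constituent {N : Subgroup G} (hN : N.Normal) [Fintype N]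
    (χ : IrrCharacter G) (θ : IrrCharacter N)
    (hcon : classInner (fun n : N => (χ : G → ℂ) n) (θ : N → ℂ) ≠ 0)
    {w : N → ℂ} (hw : ∀ g : G, cjF hN w g = w) :
    omega (χ : G → ℂ) (ext0 N w) = omega (θ : N → ℂ) w := by
  have hwc : IsClassFunction N w := by
    intro n h
    exact congrFun (hw h) n
  have h1 := omega_conv χ.2 (ext0 N (blockCoeff {θ})) (ext0 N w) (ext0_classFunction hN hw)
  rw [conv_ext0, conv_blockCoeff_singleton θ hwc, ext0_smul, omega_smul] at h1
  have h2 : omega (χ : G → ℂ) (ext0 N (blockCoeff {θ})) ≠ 0 := by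
    rw [omega_ext0_blockCoeff_singleton]
    exact mul_ne_zero (div_ne_zero (irr_one_ne_zero θ.2) (irr_one_ne_zero χ.2)) hcon
  rw [mul_comm] at h1
  exact (mul_left_cancel₀ h2 h1).symm

/-- (C1) for class functions of `G` vanishing off `N`. -/
theorem omega_eq_omega_res_of_constituent {N : Subgroup G} (hN : N.Normal) [Fintype N]
    (χ : IrrCharacter G) (θ : IrrCharacter N)
    (hcon : classInner (fun n : N => (χ : G → ℂ) n) (θ : N → ℂ) ≠ 0)
    {z : G → ℂ} (hz : IsClassFunction G z) (hz0 : ∀ g, g ∉ N → z g = 0) :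
    omega (χ : G → ℂ) z = omega (θ : N → ℂ) (fun n : N => z n) := by
  rw [← omega_ext0_eq_of_constituent hN χ θ hcon (cjF_res hN hz), ext0_res N hz0]

theorem classInd_eq_zero_of_not_mem {N : Subgroup G} (hN : N.Normal) (n : N) {g : G}
    (hg : g ∉ N) : classInd (n : G) g = 0 := by
  apply classInd_neg
  intro hc
  obtain ⟨c, hc⟩ := isConj_iff.1 hc
  apply hg
  rw [← hc]
  exact hN.conj_mem n n.2 c

/-- S0963. -/
theorem constituent_iff_centralChar_eq {N : Subgroup G} (hN : N.Normal) [Fintype N]
    (χ : IrrCharacter G) (θ : IrrCharacter N) :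
    classInner (fun n : N => (χ : G → ℂ) n) (θ : N → ℂ) ≠ 0 ↔
      ∀ n : N, centralChar (χ : G → ℂ) (n : G) = inducedCentralChar N (θ : N → ℂ) (n : G) := by
  classical
  haveI : Fintype (ConjClasses G) := Fintype.ofFinite _
  constructor
  · intro hcon n
    rw [← omega_classInd (irr_classFunction χ), inducedCentralChar_eq_omega]
    exact omega_eq_omega_res_of_constituent hN χ θ hcon (classInd_classFunction _)
      (fun g hg => classInd_eq_zero_of_not_mem hN n hg)
  · intro h
    set z : G → ℂ := ext0 N (fun n : N => conj ((χ : G → ℂ) n)) with hz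
    have hinv : ∀ g : G, cjF hN (fun n : N => conj ((χ : G → ℂ) n)) g
        = fun n : N => conj ((χ : G → ℂ) n) := by
      intro g
      funext n
      rw [cjF_apply]
      show conj ((χ : G → ℂ) (g * n * g⁻¹)) = _
      rw [irr_classFunction χ]
    have hzc : IsClassFunction G z := ext0_classFunction hN hinv
    have h1 : omega (χ : G → ℂ) z = omega (θ : N → ℂ) (fun n : N => z n) := by
      rw [omega_res_eq_sum_classes N _ hzc, omega_eq_sum_classes (irr_classFunction χ) hzc]
      apply Finset.sum_congr rfl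
      intro C _
      by_cases hC : Quotient.out C ∈ N
      · rw [h ⟨_, hC⟩]
      · rw [hz, ext0_of_not_mem N _ hC, zero_mul, zero_mul]
    have h2 : omega (χ : G → ℂ) z ≠ 0 := by
      rw [hz, omega_ext0, ← Finset.sum_div]
      apply div_ne_zero _ (irr_one_ne_zero χ.2)
      have h3 : ∀ n : N, conj ((χ : G → ℂ) n) * (χ : G → ℂ) n = ((Complex.normSq ((χ : G → ℂ) n) : ℝ) : ℂ) := by
        intro n
        rw [mul_comm, Complex.mul_conj]
      rw [Finset.sum_congr rfl (fun n _ => h3 n), ← Complex.ofReal_sum]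
      rw [Complex.ofReal_ne_zero]
      apply ne_of_gt
      apply Finset.sum_pos'
      · intro n _; exact Complex.normSq_nonneg _
      · exact ⟨1, Finset.mem_univ _, Complex.normSq_pos.2 (irr_one_ne_zero χ.2)⟩
    rw [h1] at h2
    intro h0
    apply h2
    have h4 : omega (θ : N → ℂ) (fun n : N => z n)
        = (Nat.card N : ℂ) / (θ : N → ℂ) 1 * conj (classInner (fun n : N => (χ : G → ℂ) n) (θ : N → ℂ)) := by
      have hN0 : (Nat.card N : ℂ) ≠ 0 := by exact_mod_cast Nat.card_pos.ne'
      rw [omega, classInner, map_mul, map_sum, map_inv₀, Complex.conj_natCast, Finset.mul_sum,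
        Finset.mul_sum]
      apply Finset.sum_congr rfl
      intro n _
      rw [hz, ext0_coe, map_mul, Complex.conj_conj]
      field_simp
    rw [h4, h0, map_zero, mul_zero]

end Cfsg.Agent.Lib.Helper21
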