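import Cfsg.Agent.Lib.Helper21.Cover

set_option autoImplicit false
open Cfsg
open scoped ComplexConjugate
open Cfsg.Agent.Lib.Helper20 Cfsg.Agent.Lib.Helper81 Cfsg.Agent.Lib.Helper5

namespace Cfsg.Agent.Lib.Helper21

theorem centralChar_comp_equiv {N N' : Type*} [Group N] [Group N'] (e : N ≃* N') (θ : N' → ℂ)
    (n : N) : centralChar (θ ∘ e) n = centralChar θ (e n) := by
  have h1 : Subgroup.centralizer ({n} : Set N)
      = (Subgroup.centralizer ({e n} : Set N')).comap e.toMonoidHom := by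
    ext x
    rw [Subgroup.mem_comap, Subgroup.mem_centralizer_singleton_iff,
      Subgroup.mem_centralizer_singleton_iff]
    show x * n = n * x ↔ e x * e n = e n * e x
    rw [← map_mul, ← map_mul, e.injective.eq_iff]
  rw [centralChar, centralChar, h1, Subgroup.index_comap_of_surjective _ e.surjective]
  simp

variable {G : Type*} [Group G] {N : Subgroup G} {p : ℕ} {M : Ideal AlgInt}

theorem centralChar_cjF (hN : N.Normal) (θ : N → ℂ) (g : G) (n : N) :
    centralChar (cjF hN θ g) n = centralChar θ ⟨g * n * g⁻¹, hN.conj_mem n n.2 g⟩ := by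
  rw [cjF_eq_comp, centralChar_comp_equiv]
  rfl

theorem sameBlock_cjF (hN : N.Normal) {θ θ' : N → ℂ} (h : SameBlock M θ θ') (g : G) :
    SameBlock M (cjF hN θ g) (cjF hN θ' g) := by
  intro n
  rw [centralChar_cjF, centralChar_cjF]
  exact h _

/-- conjugation of irreducible characters of a normal subgroup. -/
noncomputable def cjIrr [Finite N] (hN : N.Normal) (g : G) (θ : IrrCharacter N) : IrrCharacter N :=
  ⟨cjF hN (θ : N → ℂ) g, isIrrCharacter_cjF hN θ.2 g⟩

theorem cjIrr_coe [Finite N] (hN : N.Normal) (g : G) (θ : IrrCharacter N) :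
    ((cjIrr hN g θ : IrrCharacter N) : N → ℂ) = cjF hN (θ : N → ℂ) g := rfl

theorem cjIrr_cjIrr [Finite N] (hN : N.Normal) (g h : G) (θ : IrrCharacter N) :
    cjIrr hN h (cjIrr hN g θ) = cjIrr hN (g * h) θ :=
  Subtype.ext (cjF_cjF hN _ g h)

theorem cjIrr_one [Finite N] (hN : N.Normal) (θ : IrrCharacter N) : cjIrr hN (1 : G) θ = θ :=
  Subtype.ext (cjF_one hN _)

/-- conjugation as a permutation of `Irr N`. -/
noncomputable def cjEquiv [Finite N] (hN : N.Normal) (g : G) : IrrCharacter N ≃ IrrCharacter N where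
  toFun := cjIrr hN g
  invFun := cjIrr hN g⁻¹
  left_inv θ := by rw [cjIrr_cjIrr, mul_inv_cancel, cjIrr_one]
  right_inv θ := by rw [cjIrr_cjIrr, inv_mul_cancel, cjIrr_one]

/-- the conjugate block. -/
def cjBlock [Finite N] (hN : N.Normal) (g : G) (b : Set (IrrCharacter N)) : Set (IrrCharacter N) :=
  {ψ | cjIrr hN g⁻¹ ψ ∈ b}

theorem mem_cjBlock [Finite N] (hN : N.Normal) (g : G) (b : Set (IrrCharacter N))
    (ψ : IrrCharacter N) : ψ ∈ cjBlock hN g b ↔ cjIrr hN g⁻¹ ψ ∈ b := Iff.rfl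

theorem cjIrr_mem_cjBlock [Finite N] (hN : N.Normal) (g : G) {b : Set (IrrCharacter N)}
    {θ : IrrCharacter N} (h : θ ∈ b) : cjIrr hN g θ ∈ cjBlock hN g b := by
  rw [mem_cjBlock, cjIrr_cjIrr, mul_inv_cancel, cjIrr_one]; exact h

theorem isPBlock_cjBlock [Finite N] (hN : N.Normal) (g : G) {b : Set (IrrCharacter N)}
    (hb : IsPBlock M b) : IsPBlock M (cjBlock hN g b) := by
  obtain ⟨θ₀, rfl⟩ := hb
  refine ⟨cjIrr hN g θ₀, ?_⟩
  ext ψ
  rw [mem_cjBlock]
  constructor
  · intro h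
    have h1 : SameBlock M (θ₀ : N → ℂ) (cjIrr hN g⁻¹ ψ : N → ℂ) := h
    have h2 := sameBlock_cjF hN h1 g
    rw [← cjIrr_coe, ← cjIrr_coe, cjIrr_cjIrr, inv_mul_cancel, cjIrr_one] at h2
    exact h2
  · intro h
    have h1 : SameBlock M (cjIrr hN g θ₀ : N → ℂ) (ψ : N → ℂ) := h
    have h2 := sameBlock_cjF hN h1 g⁻¹
    rw [← cjIrr_coe, ← cjIrr_coe, cjIrr_cjIrr, mul_inv_cancel, cjIrr_one] at h2
    exact h2

/-- the union of the `G`-conjugates of `b`. -/
def conjClosure [Finite N] (hN : N.Normal) (b : Set (IrrCharacter N)) : Set (IrrCharacter N) :=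
  {ψ | ∃ g : G, ψ ∈ cjBlock hN g b}

theorem mem_conjClosure [Finite N] (hN : N.Normal) (b : Set (IrrCharacter N))
    (ψ : IrrCharacter N) : ψ ∈ conjClosure hN b ↔ ∃ g : G, cjIrr hN g ψ ∈ b := by
  constructor
  · rintro ⟨g, hg⟩; exact ⟨g⁻¹, hg⟩
  · rintro ⟨g, hg⟩
    refine ⟨g⁻¹, ?_⟩
    rw [mem_cjBlock, inv_inv]; exact hg

theorem subset_conjClosure [Finite N] (hN : N.Normal) (b : Set (IrrCharacter N)) :
    b ⊆ conjClosure hN b := by
  intro θ hθ
  rw [mem_conjClosure]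
  exact ⟨1, by rw [cjIrr_one]; exact hθ⟩

theorem cjIrr_mem_conjClosure_iff [Finite N] (hN : N.Normal) (b : Set (IrrCharacter N)) (g : G)
    (ψ : IrrCharacter N) : cjIrr hN g ψ ∈ conjClosure hN b ↔ ψ ∈ conjClosure hN b := by
  rw [mem_conjClosure, mem_conjClosure]
  constructor
  · rintro ⟨h, hh⟩
    rw [cjIrr_cjIrr] at hh
    exact ⟨_, hh⟩
  · rintro ⟨h, hh⟩
    refine ⟨g⁻¹ * h, ?_⟩
    rw [cjIrr_cjIrr, mul_inv_cancel_left]; exact hh

theorem blockCoeff_conjClosure_invariant [Fintype N] (hN : N.Normal) (b : Set (IrrCharacter N))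
    (g : G) : cjF hN (blockCoeff (conjClosure hN b)) g = blockCoeff (conjClosure hN b) := by
  classical
  haveI : Finite (IrrCharacter N) := finite_irrCharacter
  haveI : Fintype (IrrCharacter N) := Fintype.ofFinite _
  funext n
  rw [cjF_apply, blockCoeff, blockCoeff, finsum_mem_irr, finsum_mem_irr]
  congr 1
  conv_rhs => rw [← Equiv.sum_comp (cjEquiv hN g)]
  apply Finset.sum_congr rfl
  intro ψ _
  have h1 : cjEquiv hN g ψ = cjIrr hN g ψ := rfl
  rw [h1]
  simp only [cjIrr_mem_conjClosure_iff]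
  split_ifs
  · rw [cjIrr_coe, cjF_apply, cjF_apply]
    congr 2
    apply congrArg
    apply Subtype.ext
    simp
  · rfl

theorem blockCoeff_conjClosure_memLocalRing [Fintype G] [Fintype N] (hM : IsPModular p M)
    (hN : N.Normal) {b : Set (IrrCharacter N)} (hb : IsPBlock M b) (n : N) :
    MemLocalRing M (blockCoeff (conjClosure hN b) n) := by
  classical
  apply blockCoeff_memLocalRing_of_mem_ZR hM
  have h1 : (1 - ∏ g : G, (1 - fun χ : IrrCharacter N => if χ ∈ cjBlock hN g b then (1 : ℂ) else 0))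
      ∈ ZR N hM := by
    refine (ZR N hM).sub_mem (ZR N hM).one_mem ((ZR N hM).prod_mem fun g _ => ?_)
    exact (ZR N hM).sub_mem (ZR N hM).one_mem
      (indicator_block_mem_ZR hM _ (isPBlock_cjBlock hN g hb))
  convert h1 using 1
  funext ψ
  simp only [Pi.sub_apply, Pi.one_apply, Finset.prod_apply]
  split_ifs with hψ
  · obtain ⟨g, hg⟩ := hψ
    rw [Finset.prod_eq_zero (Finset.mem_univ g) (by rw [if_pos hg, sub_self]), sub_zero]
  · rw [Finset.prod_eq_one, sub_self]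
    intro g _
    rw [if_neg (fun h => hψ ⟨g, h⟩), sub_zero]

end Cfsg.Agent.Lib.Helper21
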