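import Cfsg.Agent.Lib.Helper21.KeyLemma

set_option autoImplicit false
open Cfsg
open scoped ComplexConjugate
open Cfsg.Agent.Lib.Helper20 Cfsg.Agent.Lib.Helper81

namespace Cfsg.Agent.Lib.Helper21

variable {G : Type*} [Group G] [Fintype G] {p : ℕ} {M : Ideal AlgInt}

/-- Two irreducible characters whose central characters agree modulo the local ideal on the
`p`-regular elements lie in the same block. -/
theorem sameBlock_of_agree_on_regular (hM : IsPModular p M) (χ χ' : IrrCharacter G)
    (h : ∀ g : G, ¬ p ∣ orderOf g →
      MemLocalIdeal M (centralChar (χ' : G → ℂ) g - centralChar (χ : G → ℂ) g)) :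
    SameBlock M (χ : G → ℂ) (χ' : G → ℂ) := by
  classical
  haveI : Fintype (ConjClasses G) := Fintype.ofFinite _
  set B := blockOf M (χ : G → ℂ) with hBdef
  have hB : IsPBlock M B := ⟨χ, rfl⟩
  have hχ : χ ∈ B := mem_blockOf_self hM χ
  have key : MemLocalIdeal M (omega (χ' : G → ℂ) (blockCoeff B) - omega (χ : G → ℂ) (blockCoeff B)) := by
    rw [omega_eq_sum_classes (irr_classFunction χ') (blockCoeff_classFunction B),
      omega_eq_sum_classes (irr_classFunction χ) (blockCoeff_classFunction B),
      ← Finset.sum_sub_distrib]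
    apply memLocalIdeal_sum hM
    intro C _
    rw [← mul_sub]
    by_cases hC : p ∣ orderOf (Quotient.out C)
    · rw [blockCoeff_eq_zero_of_singular hM B hB hC, zero_mul]
      exact memLocalIdeal_zero hM
    · exact memLocalIdeal_mul_left hM (osima hM B hB _) (h _ hC)
  rw [omega_blockCoeff, omega_blockCoeff, if_pos hχ] at key
  by_contra hcon
  have hcon' : χ' ∉ B := hcon
  rw [if_neg hcon', zero_sub] at key
  exact not_memLocalIdeal_one hM (by simpa using memLocalIdeal_neg key)

omit [Fintype G] in
theorem centralChar_one [Finite G] (χ : IrrCharacter G) : centralChar (χ : G → ℂ) 1 = 1 := by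
  have h1 : Subgroup.centralizer ({1} : Set G) = ⊤ := by
    ext x; simp [Subgroup.mem_centralizer_singleton_iff]
  rw [centralChar, h1, Subgroup.index_top, Nat.cast_one, one_mul, div_self (irr_one_ne_zero χ.2)]

end Cfsg.Agent.Lib.Helper21
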