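import Cfsg.Agent.Lib.Helper21.Under
import Cfsg.Agent.Lib.Helper21.Regular
import Cfsg.Agent.S0887

set_option autoImplicit false
open Cfsg
open scoped ComplexConjugate
open Cfsg.Agent.Lib.Helper20 Cfsg.Agent.Lib.Helper81 Cfsg.Agent.Lib.Helper5

namespace Cfsg.Agent.Lib.Helper21

variable {G : Type*} [Group G] [Fintype G] {N : Subgroup G} [Fintype N] {p : ℕ} {M : Ideal AlgInt}

/-- `ν(χ(1)) ≤ ν(θ(1)) + ν(|G:N|)` for `χ` over `θ`. -/
theorem factorization_charDegree_le_of_over (p : ℕ) (hN : N.Normal) (χ : IrrCharacter G)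
    (θ : IrrCharacter N) (hcon : classInner (fun n : N => (χ : G → ℂ) n) (θ : N → ℂ) ≠ 0) :
    (charDegree (χ : G → ℂ)).factorization p
      ≤ (charDegree (θ : N → ℂ)).factorization p + N.index.factorization p := by
  haveI := hN
  obtain ⟨hd1, hd2⟩ := Cfsg.Agent.S0887.result N χ χ.2 θ θ.2 hcon (charDegree (χ : G → ℂ))
    (charDegree (θ : N → ℂ)) (irr_one_eq_charDegree χ) (irr_one_eq_charDegree θ)
  have hχ0 : charDegree (χ : G → ℂ) ≠ 0 := charDegree_ne_zero χ
  have hθ0 : charDegree (θ : N → ℂ) ≠ 0 := charDegree_ne_zero θ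
  have hq0 : charDegree (χ : G → ℂ) / charDegree (θ : N → ℂ) ≠ 0 := by
    intro h
    rw [Nat.div_eq_zero_iff] at h
    rcases h with h | h
    · exact hθ0 h
    · exact absurd (Nat.le_of_dvd (Nat.pos_of_ne_zero hχ0) hd1) (not_le.2 h)
  have h1 : charDegree (χ : G → ℂ)
      = charDegree (θ : N → ℂ) * (charDegree (χ : G → ℂ) / charDegree (θ : N → ℂ)) :=
    (Nat.mul_div_cancel' hd1).symm
  have hidx : N.index ≠ 0 := Subgroup.index_ne_zero_of_finite
  have h2 : (charDegree (χ : G → ℂ) / charDegree (θ : N → ℂ)).factorization p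
      ≤ N.index.factorization p := (Nat.factorization_le_iff_dvd hq0 hidx).2 hd2 p
  calc (charDegree (χ : G → ℂ)).factorization p
      = (charDegree (θ : N → ℂ) * (charDegree (χ : G → ℂ) / charDegree (θ : N → ℂ))).factorization p := by
        rw [← h1]
    _ = (charDegree (θ : N → ℂ)).factorization p
        + (charDegree (χ : G → ℂ) / charDegree (θ : N → ℂ)).factorization p := by
        rw [Nat.factorization_mul hθ0 hq0]; rfl
    _ ≤ _ := by omega

/-- The defect of a covered block is at most the defect of the covering block. -/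
theorem blockDefect_le_of_covers [Fact p.Prime] (hM : IsPModular p M) (hN : N.Normal)
    {B : Set (IrrCharacter G)} (hB : IsPBlock M B) {b : Set (IrrCharacter N)} (hb : IsPBlock M b)
    (hcov : Covers N B b) : blockDefect p b ≤ blockDefect p B := by
  obtain ⟨θ₀, hθ₀, h1, -⟩ := exists_height_zero p b (isPBlock_nonempty hM hb)
  obtain ⟨χ, hχ, hcon⟩ := exists_over_of_covers hM hN hB hb hcov hθ₀
  have h2 := factorization_charDegree_le_of_over p hN χ θ₀ hcon
  have h3 : sInf ((fun χ : IrrCharacter G => (charDegree (χ : G → ℂ)).factorization p) '' B)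
      ≤ (charDegree (χ : G → ℂ)).factorization p := Nat.sInf_le ⟨χ, hχ, rfl⟩
  have h4 := factorization_index_add_card p N
  rw [blockDefect, blockDefect, ← h1]
  omega

/-- A block of full defect contains a character of degree prime to `p`. -/
theorem exists_not_dvd_charDegree_of_full (hM : IsPModular p M) {b : Set (IrrCharacter G)}
    (hb : IsPBlock M b) (hfull : blockDefect p b = (Nat.card G).factorization p) :
    ∃ θ ∈ b, ¬ p ∣ charDegree (θ : G → ℂ) := by
  obtain ⟨θ₀, hθ₀, h1, -⟩ := exists_height_zero p b (isPBlock_nonempty hM hb)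
  refine ⟨θ₀, hθ₀, ?_⟩
  have h2 := factorization_charDegree_le_card p θ₀
  rw [blockDefect, ← h1] at hfull
  have h3 : (charDegree (θ₀ : G → ℂ)).factorization p = 0 := by omega
  intro hdvd
  have h4 := (hM.1.dvd_iff_one_le_factorization (charDegree_ne_zero θ₀)).1 hdvd
  omega

/-- The central character of a character of degree prime to `p` vanishes modulo the local ideal
on the classes of length divisible by `p`. -/
theorem centralChar_memLocalIdeal_of_dvd_index (hM : IsPModular p M) (χ : IrrCharacter G)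
    (hχ : ¬ p ∣ charDegree (χ : G → ℂ)) (x : G)
    (hx : p ∣ (Subgroup.centralizer ({x} : Set G)).index) :
    MemLocalIdeal M (centralChar (χ : G → ℂ) x) := by
  rw [centralChar, mul_div_assoc]
  apply memLocalIdeal_mul_right hM ((memLocalIdeal_natCast_iff hM _).2 hx)
  apply memLocalRing_div hM
    (memLocalRing_of_isIntegral hM (isCharacter_isIntegral (isCharacter_of_isIrrCharacter χ.2) _))
  · rw [irr_one_eq_charDegree]; exact memLocalRing_natCast hM _
  · rw [irr_one_eq_charDegree, memLocalIdeal_natCast_iff hM]; exact hχ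

/-- Uniqueness of the covering block, `p'`-index case. -/
theorem covers_unique_of_full_defect [Fact p.Prime] (hM : IsPModular p M) (hN : N.Normal)
    {b : Set (IrrCharacter N)} (hb : IsPBlock M b)
    (hfull : blockDefect p b = (Nat.card N).factorization p) (hidx : ¬ p ∣ N.index)
    (hreg : ∀ x : G, ¬ p ∣ orderOf x → x ∉ N → p ∣ (Subgroup.centralizer ({x} : Set G)).index)
    {B B' : Set (IrrCharacter G)} (hB : IsPBlock M B) (hB' : IsPBlock M B')
    (h : Covers N B b) (h' : Covers N B' b) : B = B' := by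
  obtain ⟨θ₀, hθ₀, hdeg⟩ := exists_not_dvd_charDegree_of_full hM hb hfull
  obtain ⟨χ, hχ, hcon⟩ := exists_over_of_covers hM hN hB hb h hθ₀
  obtain ⟨χ', hχ', hcon'⟩ := exists_over_of_covers hM hN hB' hb h' hθ₀
  have hdegs : ∀ ψ : IrrCharacter G, classInner (fun n : N => (ψ : G → ℂ) n) (θ₀ : N → ℂ) ≠ 0 →
      ¬ p ∣ charDegree (ψ : G → ℂ) := by
    intro ψ hψ hdvd
    have h1 := factorization_charDegree_le_of_over p hN ψ θ₀ hψ
    have h2 := (hM.1.dvd_iff_one_le_factorization (charDegree_ne_zero ψ)).1 hdvd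
    have h3 : (charDegree (θ₀ : N → ℂ)).factorization p = 0 :=
      Nat.factorization_eq_zero_of_not_dvd hdeg
    have h4 : N.index.factorization p = 0 := Nat.factorization_eq_zero_of_not_dvd hidx
    omega
  have hs : SameBlock M (χ : G → ℂ) (χ' : G → ℂ) := by
    apply sameBlock_of_agree_on_regular hM
    intro g hg
    by_cases hgN : g ∈ N
    · have e1 := (constituent_iff_centralChar_eq hN χ θ₀).1 hcon ⟨g, hgN⟩
      have e2 := (constituent_iff_centralChar_eq hN χ' θ₀).1 hcon' ⟨g, hgN⟩
      simp only at e1 e2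
      rw [e1, e2, sub_self]
      exact memLocalIdeal_zero hM
    · exact memLocalIdeal_sub hM
        (centralChar_memLocalIdeal_of_dvd_index hM χ' (hdegs χ' hcon') g (hreg g hg hgN))
        (centralChar_memLocalIdeal_of_dvd_index hM χ (hdegs χ hcon) g (hreg g hg hgN))
  rw [isPBlock_eq_blockOf hM hB hχ, isPBlock_eq_blockOf hM hB' hχ']
  exact (blockOf_eq_of_mem hM hs).symm

/-- If an invariant block is covered by a unique block, this block consists of all characters
over it, and its defect is given by Fong's formula. -/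
theorem overSet_isPBlock_of_unique [Fact p.Prime] (hM : IsPModular p M) (hN : N.Normal)
    {b : Set (IrrCharacter N)} (hb : IsPBlock M b) (hinv : ∀ g : G, ∀ θ ∈ b, cjIrr hN g θ ∈ b)
    (huniq : ∀ B B' : Set (IrrCharacter G), IsPBlock M B → IsPBlock M B' → Covers N B b →
      Covers N B' b → B = B') :
    IsPBlock M (overSet N b) ∧
      blockDefect p (overSet N b) = blockDefect p b + N.index.factorization p := by
  obtain ⟨B, hB, hcov⟩ := exists_covers (G := G) hM hb
  have hBeq : B = overSet N b := by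
    ext χ
    constructor
    · intro hχ
      obtain ⟨ψ, hψ⟩ := exists_constituent_res N χ
      have h1 := mem_conjClosure_of_covers hM hN hB hb hcov hχ hψ
      rw [conjClosure_eq_of_invariant hN hinv] at h1
      exact ⟨ψ, h1, hψ⟩
    · rintro ⟨ψ, hψ, hcon⟩
      have h1 : Covers N (blockOf M (χ : G → ℂ)) b := ⟨χ, mem_blockOf_self hM χ, ψ, hψ, hcon⟩
      rw [huniq B _ hB ⟨χ, rfl⟩ hcov h1]
      exact mem_blockOf_self hM χ
  rw [← hBeq]
  refine ⟨hB, ?_⟩
  obtain ⟨P, hP⟩ := exists_isDefectGroup hM B hB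
  exact (fong_invariant hM hN hb hinv hB hcov (fun B' hB' hcov' => by
    rw [huniq B' B hB' hB hcov' hcov]) P hP).2.2

end Cfsg.Agent.Lib.Helper21
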