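import Cfsg.Agent.Lib.Helper21.Under
import Cfsg.Agent.Lib.Helper20.CharComplete
import Cfsg.Agent.Lib.Helper80.BlockBasic

set_option autoImplicit false
open Cfsg
open scoped ComplexConjugate
open Cfsg.Agent.Lib.Helper20 Cfsg.Agent.Lib.Helper81 Cfsg.Agent.Lib.Helper5

namespace Cfsg.Agent.Lib.Helper21

variable {G : Type*} [Group G] [Fintype G] {N : Subgroup G} [Fintype N] {p : ℕ} {M : Ideal AlgInt}

omit [Fintype G] in
theorem blockCoeff_one [Finite G] (X : Set (IrrCharacter G)) :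
    blockCoeff X 1 = (Nat.card G : ℂ)⁻¹ * ((∑ᶠ χ ∈ X, charDegree (χ : G → ℂ) ^ 2 : ℕ) : ℂ) := by
  classical
  haveI : Finite (IrrCharacter G) := finite_irrCharacter
  haveI : Fintype (IrrCharacter G) := Fintype.ofFinite _
  rw [blockCoeff, finsum_mem_irr, finsum_mem_irr]
  congr 1
  push_cast
  apply Finset.sum_congr rfl
  intro χ _
  split_ifs
  · rw [irr_one_eq_charDegree]; simp [sq]
  · rfl

/-- `∑_{χ ∈ B} χ(1)² ≤ |G:N| ∑_{θ under B} θ(1)²`. -/
theorem sum_sq_le_index_mul_underSet (hN : N.Normal) (B : Set (IrrCharacter G)) :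
    (∑ᶠ χ ∈ B, charDegree (χ : G → ℂ) ^ 2)
      ≤ N.index * ∑ᶠ θ ∈ underSet N B, charDegree (θ : N → ℂ) ^ 2 := by
  classical
  haveI : Finite (IrrCharacter G) := finite_irrCharacter
  have h1 := congrFun (ext0_blockCoeff_underSet hN B) 1
  rw [ext0_of_mem N _ N.one_mem] at h1
  have h2 : blockCoeff (underSet N B) (⟨1, N.one_mem⟩ : N) = blockCoeff (underSet N B) 1 := rfl
  rw [h2, blockCoeff_one, blockCoeff_one] at h1
  have hG : (Nat.card G : ℂ) ≠ 0 := card_ne_zero_complex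
  have hNc : (Nat.card N : ℂ) ≠ 0 := card_ne_zero_complex
  have h3 : (Nat.card G : ℂ) = (N.index : ℂ) * (Nat.card N : ℂ) := by
    exact_mod_cast (N.index_mul_card).symm
  have h4 : ((∑ᶠ χ ∈ overSet N (underSet N B), charDegree (χ : G → ℂ) ^ 2 : ℕ) : ℂ)
      = ((N.index * ∑ᶠ θ ∈ underSet N B, charDegree (θ : N → ℂ) ^ 2 : ℕ) : ℂ) := by
    rw [Nat.cast_mul]
    have h5 : ((∑ᶠ χ ∈ overSet N (underSet N B), charDegree (χ : G → ℂ) ^ 2 : ℕ) : ℂ)
        = (Nat.card G : ℂ) * ((Nat.card N : ℂ)⁻¹ *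
          ((∑ᶠ θ ∈ underSet N B, charDegree (θ : N → ℂ) ^ 2 : ℕ) : ℂ)) := by
      rw [h1]; field_simp
    rw [h5, h3]
    field_simp
  have h6 : (∑ᶠ χ ∈ overSet N (underSet N B), charDegree (χ : G → ℂ) ^ 2)
      = N.index * ∑ᶠ θ ∈ underSet N B, charDegree (θ : N → ℂ) ^ 2 := by exact_mod_cast h4
  rw [← h6]
  haveI : Fintype (IrrCharacter G) := Fintype.ofFinite _
  rw [finsum_mem_irr, finsum_mem_irr]
  apply Finset.sum_le_sum
  intro χ _
  by_cases hχ : χ ∈ B
  · rw [if_pos hχ, if_pos (subset_overSet_underSet B hχ)]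
  · rw [if_neg hχ]; exact Nat.zero_le _

theorem sum_sq_le_sq_sum {ι : Type*} (A : Finset ι) (d : ι → ℕ) :
    ∑ i ∈ A, d i ^ 2 ≤ (∑ i ∈ A, d i) ^ 2 := by
  rw [sq, Finset.sum_mul]
  apply Finset.sum_le_sum
  intro i hi
  rw [sq]
  exact Nat.mul_le_mul_left _ (Finset.single_le_sum (f := d) (fun _ _ => Nat.zero_le _) hi)

/-- The degree of `χ` in terms of the multiplicities of its restriction. -/
theorem charDegree_eq_sum_mult [Fintype (IrrCharacter N)] (χ : IrrCharacter G)
    (m : IrrCharacter N → ℕ)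
    (hm : ∀ θ : IrrCharacter N, classInner (fun n : N => (χ : G → ℂ) n) (θ : N → ℂ) = m θ) :
    charDegree (χ : G → ℂ) = ∑ θ : IrrCharacter N, m θ * charDegree (θ : N → ℂ) := by
  have hc : IsCharacter N (fun n : N => (χ : G → ℂ) n) :=
    isCharacter_restrict (isCharacter_of_isIrrCharacter χ.2) N
  have h1 := congrFun (eq_sum_classInner_smul (isClassFunction_of_isCharacter hc)) 1
  have h2 : ((charDegree (χ : G → ℂ) : ℕ) : ℂ)
      = ((∑ θ : IrrCharacter N, m θ * charDegree (θ : N → ℂ) : ℕ) : ℂ) := by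
    rw [← irr_one_eq_charDegree]
    have h3 : (χ : G → ℂ) 1 = (χ : G → ℂ) ((1 : N) : G) := rfl
    rw [h3, h1, Finset.sum_apply]
    push_cast
    apply Finset.sum_congr rfl
    intro θ _
    rw [Pi.smul_apply, smul_eq_mul, hm, irr_one_eq_charDegree]
  exact_mod_cast h2

/-- `∑_{θ under B} θ(1)² ≤ ∑_{χ ∈ B} χ(1)²`. -/
theorem sum_sq_underSet_le (B : Set (IrrCharacter G)) :
    (∑ᶠ θ ∈ underSet N B, charDegree (θ : N → ℂ) ^ 2)
      ≤ ∑ᶠ χ ∈ B, charDegree (χ : G → ℂ) ^ 2 := by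
  classical
  haveI : Finite (IrrCharacter G) := finite_irrCharacter
  haveI : Fintype (IrrCharacter G) := Fintype.ofFinite _
  haveI : Finite (IrrCharacter N) := finite_irrCharacter
  haveI : Fintype (IrrCharacter N) := Fintype.ofFinite _
  have hm : ∀ (χ : IrrCharacter G) (θ : IrrCharacter N), ∃ k : ℕ,
      classInner (fun n : N => (χ : G → ℂ) n) (θ : N → ℂ) = k := fun χ θ =>
    isCharacter_classInner_nat (isCharacter_restrict (isCharacter_of_isIrrCharacter χ.2) N) θ.2
  choose m hm using hm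
  rw [finsum_mem_irr, finsum_mem_irr, ← Finset.sum_filter, ← Finset.sum_filter]
  have hf : ∀ θ : IrrCharacter N, θ ∈ underSet N B → ∃ χ ∈ B, m χ θ ≠ 0 := by
    rintro θ ⟨χ, hχ, h⟩
    refine ⟨χ, hχ, ?_⟩
    rw [hm] at h
    exact_mod_cast h
  by_cases hne : B.Nonempty
  swap
  · rw [Set.not_nonempty_iff_eq_empty] at hne
    have h0 : underSet N B = ∅ := by
      ext θ
      simp [underSet, hne]
    rw [h0]
    simp
  obtain ⟨χ₀, hχ₀⟩ := hne
  set f : IrrCharacter N → IrrCharacter G := fun θ =>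
    if h : θ ∈ underSet N B then (hf θ h).choose else χ₀ with hfdef
  have hf1 : ∀ θ ∈ Finset.univ.filter (fun θ : IrrCharacter N => θ ∈ underSet N B),
      f θ ∈ Finset.univ.filter (fun χ : IrrCharacter G => χ ∈ B) := by
    intro θ hθ
    rw [Finset.mem_filter] at hθ ⊢
    refine ⟨Finset.mem_univ _, ?_⟩
    simp only [hfdef, dif_pos hθ.2]
    exact (hf θ hθ.2).choose_spec.1
  rw [← Finset.sum_fiberwise_of_maps_to hf1]
  apply Finset.sum_le_sum
  intro χ _
  calc ∑ θ ∈ (Finset.univ.filter (fun θ : IrrCharacter N => θ ∈ underSet N B)).filter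
          (fun θ => f θ = χ), charDegree (θ : N → ℂ) ^ 2
      ≤ (∑ θ ∈ (Finset.univ.filter (fun θ : IrrCharacter N => θ ∈ underSet N B)).filter
          (fun θ => f θ = χ), charDegree (θ : N → ℂ)) ^ 2 := sum_sq_le_sq_sum _ _
    _ ≤ (∑ θ ∈ (Finset.univ.filter (fun θ : IrrCharacter N => θ ∈ underSet N B)).filter
          (fun θ => f θ = χ), m χ θ * charDegree (θ : N → ℂ)) ^ 2 := by
        apply Nat.pow_le_pow_left
        apply Finset.sum_le_sum
        intro θ hθ
        rw [Finset.mem_filter, Finset.mem_filter] at hθ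
        have h1 : m χ θ ≠ 0 := by
          rw [← hθ.2]
          simp only [hfdef, dif_pos hθ.1.2]
          exact (hf θ hθ.1.2).choose_spec.2
        exact Nat.le_mul_of_pos_left _ (Nat.pos_of_ne_zero h1)
    _ ≤ (∑ θ : IrrCharacter N, m χ θ * charDegree (θ : N → ℂ)) ^ 2 := by
        apply Nat.pow_le_pow_left
        exact Finset.sum_le_sum_of_subset (Finset.subset_univ _)
    _ = charDegree (χ : G → ℂ) ^ 2 := by rw [charDegree_eq_sum_mult χ (m χ) (hm χ)]

/-- The characters of `N ⊴ G` under the principal block of `G` form the principal block of `N`. -/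
theorem underSet_principalBlock [Fact p.Prime] (hM : IsPModular p M) (hN : N.Normal) :
    underSet N (principalBlock M G) = principalBlock M N := by
  have hB : IsPBlock M (principalBlock M G) := Cfsg.Agent.Lib.Helper80.isPBlock_principal M
  have hb : IsPBlock M (principalBlock M N) := Cfsg.Agent.Lib.Helper80.isPBlock_principal M
  have hcon : classInner (fun n : N => (Cfsg.Agent.Lib.Helper80.trivIrr G : G → ℂ) n)
      (Cfsg.Agent.Lib.Helper80.trivIrr N : N → ℂ) ≠ 0 := by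
    have h1 : (fun n : N => (Cfsg.Agent.Lib.Helper80.trivIrr G : G → ℂ) n)
        = (Cfsg.Agent.Lib.Helper80.trivIrr N : N → ℂ) := rfl
    rw [h1, classInner_irr_self (Cfsg.Agent.Lib.Helper80.trivIrr N).2]
    exact one_ne_zero
  have hcov : Covers N (principalBlock M G) (principalBlock M N) :=
    ⟨_, Cfsg.Agent.Lib.Helper80.trivIrr_mem_principalBlock hM, _,
      Cfsg.Agent.Lib.Helper80.trivIrr_mem_principalBlock hM, hcon⟩
  have hinv : ∀ g : G, ∀ θ ∈ principalBlock M N, cjIrr hN g θ ∈ principalBlock M N := by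
    intro g θ hθ
    have h1 : SameBlock M (fun _ : N => (1 : ℂ)) (θ : N → ℂ) := hθ
    exact sameBlock_cjF hN h1 g
  ext θ
  constructor
  · rintro ⟨χ, hχ, h⟩
    have h1 := mem_conjClosure_of_covers hM hN hB hb hcov hχ h
    rwa [conjClosure_eq_of_invariant hN hinv] at h1
  · intro hθ
    exact exists_over_of_covers hM hN hB hb hcov hθ

end Cfsg.Agent.Lib.Helper21
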