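import Cfsg.Agent.Lib.Helper21.Tower

set_option autoImplicit false
open Cfsg
open scoped ComplexConjugate
open Cfsg.Agent.Lib.Helper20 Cfsg.Agent.Lib.Helper81 Cfsg.Agent.Lib.Helper5

namespace Cfsg.Agent.Lib.Helper21

variable {G : Type*} [Group G] [Fintype G] {p : ℕ} {M : Ideal AlgInt}

/-- If `K` is normal and contains the centraliser of a normal `p`-subgroup `Q`, a block covering
the block `b` of `K` is induced by `b`. -/
theorem isInducedBlock_of_covers (hM : IsPModular p M) (Q : Subgroup G) [Q.Normal]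
    (hQ : IsPGroup p Q) {K : Subgroup G} [Fintype K] (hK : K.Normal)
    (hCK : Subgroup.centralizer (Q : Set G) ≤ K) {b : Set (IrrCharacter K)} (hb : IsPBlock M b)
    {B : Set (IrrCharacter G)} (hB : IsPBlock M B) (hcov : Covers K B b) :
    IsInducedBlock M K b B := by
  have h1 := (covers_iff hM hK hB hb).1 hcov
  refine ⟨hb, hB, ?_⟩
  intro ξ hξ χ hχ g
  by_cases hg : g ∈ K
  · have := memLocalIdeal_neg (h1 χ hχ ξ hξ ⟨g, hg⟩)
    rwa [neg_sub] at this
  · rw [inducedCentralChar_eq_zero_of_not_mem hK _ hg, zero_sub]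
    apply memLocalIdeal_neg
    apply centralChar_memLocalIdeal_of_not_mem_centralizer hM Q hQ χ g
    intro hc
    exact hg (hCK hc)

/-- A block of `H` (`P ≤ H ≤ N_G(P)`) inducing a block with defect group `P` has defect group
`P`. -/
theorem isDefectGroup_subgroupOf_of_induced [Fact p.Prime] (hM : IsPModular p M)
    {P H : Subgroup G} (hPH : P ≤ H) (hHN : H ≤ Subgroup.normalizer (P : Set G))
    {b : Set (IrrCharacter H)} {B : Set (IrrCharacter G)} (hb : IsInducedBlock M H b B)
    (hBP : IsDefectGroup p M B P) : IsDefectGroup p M b (P.subgroupOf H) := by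
  classical
  haveI : Fintype H := Fintype.ofFinite _
  have hP : IsPGroup p P := by
    obtain ⟨g, _, S, rfl⟩ := hBP
    exact S.2.map _
  have hB := hb.2.1
  obtain ⟨Q, hQ⟩ := exists_isDefectGroup hM b hb.1
  haveI : (P.subgroupOf H).Normal := (Subgroup.normal_subgroupOf_iff_le_normalizer hPH).2 hHN
  have hP' : IsPGroup p (P.subgroupOf H) := hP.comap_subtype
  have h1 : P.subgroupOf H ≤ Q := normal_pSubgroup_le_defectGroup hM b hb.1 Q hQ _ hP'
  obtain ⟨E, hE, hQE⟩ := defectGroup_le_of_induced hM hb Q hQ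
  have h2 : Nat.card E = Nat.card P := by
    rw [card_defectGroup hM B hB E hE, card_defectGroup hM B hB P hBP]
  have h3 : Nat.card Q ≤ Nat.card (P.subgroupOf H) := by
    have e1 : Nat.card (Q.map H.subtype) = Nat.card Q :=
      Subgroup.card_map_of_injective (Subgroup.subtype_injective _)
    have e2 : Nat.card ((P.subgroupOf H).map H.subtype) = Nat.card (P.subgroupOf H) :=
      Subgroup.card_map_of_injective (Subgroup.subtype_injective _)
    rw [← e1, ← e2, Subgroup.map_subgroupOf_eq_of_le hPH, ← h2]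
    exact Subgroup.card_le_of_le hQE
  rw [Subgroup.eq_of_le_of_card_ge h1 h3]; exact hQ

/-- Extended first main theorem, existence. -/
theorem exists_block_of_defectGroup [Fact p.Prime] (hM : IsPModular p M) {P H : Subgroup G}
    (hPH : P ≤ H) (hCH : Subgroup.centralizer (P : Set G) ≤ H)
    (hHN : H ≤ Subgroup.normalizer (P : Set G)) (B : Set (IrrCharacter G)) (hB : IsPBlock M B)
    (hBP : IsDefectGroup p M B P) :
    ∃ b : Set (IrrCharacter H), IsDefectGroup p M b (P.subgroupOf H) ∧ IsInducedBlock M H b B := by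
  have hP : IsPGroup p P := by
    obtain ⟨g, _, S, rfl⟩ := hBP
    exact S.2.map _
  have hBP' := hBP
  rw [isDefectGroup_iff] at hBP'
  obtain ⟨g, hg, hgP⟩ := hBP'
  obtain ⟨b, hb⟩ := exists_induced_of_unit_coeff hM hP hPH hCH hHN B hB g
    (le_centralizer_singleton_iff.1 hgP.le) hg.2.1
  exact ⟨b, isDefectGroup_subgroupOf_of_induced hM hPH hHN hb hBP, hb⟩

/-- Extended first main theorem, conjugacy (general normal `L` of `N_G(P)` containing `C_G(P)`). -/
theorem extended_first_main_conj_aux [Fact p.Prime] (hM : IsPModular p M) (B : Set (IrrCharacter G))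
    (P : Subgroup G) (hP : IsDefectGroup p M B P) (L : Subgroup G)
    (hCL : Subgroup.centralizer (P : Set G) ≤ L) (hLN : L ≤ Subgroup.normalizer (P : Set G))
    (hK : (L.subgroupOf (Subgroup.normalizer (P : Set G))).Normal)
    (b b' : Set (IrrCharacter L)) (h : IsInducedBlock M L b B) (h' : IsInducedBlock M L b' B) :
    ∃ n ∈ Subgroup.normalizer (P : Set G), ∀ θ ∈ b, ∃ θ' ∈ b',
      ∀ x : L, ∀ hx : n * (x : G) * n⁻¹ ∈ L,
        (θ' : L → ℂ) x = (θ : L → ℂ) ⟨n * (x : G) * n⁻¹, hx⟩ := by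
  classical
  have hPp : IsPGroup p P := by
    obtain ⟨g, _, S, rfl⟩ := hP
    exact S.2.map _
  haveI : Fintype (Subgroup.normalizer (P : Set G)) := Fintype.ofFinite _
  haveI : Fintype (L.subgroupOf (Subgroup.normalizer (P : Set G))) := Fintype.ofFinite _
  haveI hQn : (P.subgroupOf (Subgroup.normalizer (P : Set G))).Normal :=
    Subgroup.normal_in_normalizer
  have hQp : IsPGroup p (P.subgroupOf (Subgroup.normalizer (P : Set G))) := hPp.comap_subtype
  have hCK : Subgroup.centralizer ((P.subgroupOf (Subgroup.normalizer (P : Set G)) :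
      Subgroup (Subgroup.normalizer (P : Set G))) : Set (Subgroup.normalizer (P : Set G)))
      ≤ L.subgroupOf (Subgroup.normalizer (P : Set G)) := by
    intro x hx
    rw [Subgroup.mem_subgroupOf]
    apply hCL
    rw [Subgroup.mem_centralizer_iff] at hx ⊢
    intro u hu
    have := hx ⟨u, Subgroup.le_normalizer hu⟩ (by
      show (⟨u, _⟩ : Subgroup.normalizer (P : Set G)) ∈ P.subgroupOf _
      rw [Subgroup.mem_subgroupOf]; exact hu)
    exact congrArg Subtype.val this
  have hb1 := isPBlock_downBlock (M := M) hLN h.1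
  have hb2 := isPBlock_downBlock (M := M) hLN h'.1
  obtain ⟨β, hβ, hcov⟩ := exists_covers (G := Subgroup.normalizer (P : Set G)) hM hb1
  obtain ⟨β', hβ', hcov'⟩ := exists_covers (G := Subgroup.normalizer (P : Set G)) hM hb2
  have i1 := isInducedBlock_of_covers hM _ hQp hK hCK hb1 hβ hcov
  have i2 := isInducedBlock_of_covers hM _ hQp hK hCK hb2 hβ' hcov'
  have j1 := isInducedBlock_tower hM hLN i1 h
  have j2 := isInducedBlock_tower hM hLN i2 h'
  have d1 := isDefectGroup_subgroupOf_of_induced hM Subgroup.le_normalizer le_rfl j1 hP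
  have heq : β = β' := block_normalizer_unique hM P hPp j1 j2 d1
  subst heq
  obtain ⟨χ', hχ', ψ, hψ, hc⟩ := hcov'
  have m1 := mem_conjClosure_of_covers hM hK hβ hb1 hcov hχ' hc
  obtain ⟨n, hn⟩ := (mem_conjClosure hK _ ψ).1 m1
  have hblk : cjBlock hK n⁻¹ (downBlock hLN b) = downBlock hLN b' := by
    have hm : ψ ∈ cjBlock hK n⁻¹ (downBlock hLN b) := by
      rw [mem_cjBlock, inv_inv]; exact hn
    rw [isPBlock_eq_blockOf hM (isPBlock_cjBlock hK n⁻¹ hb1) hm, isPBlock_eq_blockOf hM hb2 hψ]
  refine ⟨((n⁻¹ : Subgroup.normalizer (P : Set G)) : G), (n⁻¹ : Subgroup.normalizer (P : Set G)).2, ?_⟩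
  intro θ hθ
  have t1 : cjIrr hK n⁻¹ (irrCongr (Subgroup.subgroupOfEquivOfLe hLN) θ) ∈ downBlock hLN b' := by
    rw [← hblk]
    exact cjIrr_mem_cjBlock hK n⁻¹ ⟨θ, hθ, rfl⟩
  obtain ⟨θ', hθ', ht⟩ := t1
  refine ⟨θ', hθ', ?_⟩
  intro x hx
  have h5 := congrFun (congrArg Subtype.val ht) ((Subgroup.subgroupOfEquivOfLe hLN).symm x)
  rw [irrCongr_coe, cjIrr_coe, cjF_apply, irrCongr_coe] at h5
  simp only [Function.comp_apply, MulEquiv.apply_symm_apply] at h5
  rw [h5]
  congr 1

omit [Fintype G] in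
theorem normal_sup_centralizer_subgroupOf_normalizer (P : Subgroup G) :
    ((P ⊔ Subgroup.centralizer (P : Set G)).subgroupOf (Subgroup.normalizer (P : Set G))).Normal := by
  haveI hQn : (P.subgroupOf (Subgroup.normalizer (P : Set G))).Normal :=
    Subgroup.normal_in_normalizer
  rw [Subgroup.subgroupOf_sup Subgroup.le_normalizer (Subgroup.centralizer_le_normalizer _)]
  infer_instance

end Cfsg.Agent.Lib.Helper21
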