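import Cfsg.Agent.Lib.Helper21.Induced
import Cfsg.Agent.S0916
import Cfsg.Agent.S0919

set_option autoImplicit false
open Cfsg
open scoped ComplexConjugate
open Cfsg.Agent.Lib.Helper20 Cfsg.Agent.Lib.Helper81

namespace Cfsg.Agent.Lib.Helper21

section subgroups

variable {G : Type*} [Group G] {p : ℕ}

theorem isPGroup_of_map_subtype {N : Subgroup G} {Q : Subgroup N}
    (h : IsPGroup p (Q.map N.subtype)) : IsPGroup p Q := by
  intro x
  obtain ⟨k, hk⟩ := h ⟨(x : N), ⟨x, x.2, rfl⟩⟩
  refine ⟨k, ?_⟩
  have h1 := congrArg Subtype.val hk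
  apply Subtype.ext
  apply Subtype.ext
  simpa using h1

theorem sylowIn_map_subtype_iff {N : Subgroup G} {K Q : Subgroup N} :
    SylowIn p (K.map N.subtype) (Q.map N.subtype) ↔ SylowIn p K Q := by
  rw [sylowIn_iff, sylowIn_iff]
  constructor
  · rintro ⟨h1, h2, h3⟩
    refine ⟨(Subgroup.map_le_map_iff_of_injective N.subtype_injective).1 h1,
      isPGroup_of_map_subtype h2, ?_⟩
    intro R hR hQR hRK
    have := h3 (R.map N.subtype) (hR.map _) (Subgroup.map_mono hQR) (Subgroup.map_mono hRK)
    exact Subgroup.map_injective N.subtype_injective this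
  · rintro ⟨h1, h2, h3⟩
    refine ⟨Subgroup.map_mono h1, h2.map _, ?_⟩
    intro R hR hQR hRK
    have hRN : R ≤ N := hRK.trans (Subgroup.map_subtype_le _)
    have h4 := h3 (R.subgroupOf N) hR.comap_subtype ?_ ?_
    · rw [← h4, Subgroup.map_subgroupOf_eq_of_le hRN]
    · intro x hx
      rw [Subgroup.mem_subgroupOf]
      exact hQR ⟨x, hx, rfl⟩
    · intro x hx
      rw [Subgroup.mem_subgroupOf] at hx
      obtain ⟨y, hy, hyx⟩ := hRK hx
      have : y = x := Subtype.ext hyx
      rwa [← this]

theorem centralizer_map_subtype {N : Subgroup G} (l : N) :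
    (Subgroup.centralizer ({l} : Set N)).map N.subtype
      = Subgroup.centralizer ({(l : G)} : Set G) ⊓ N := by
  ext x
  constructor
  · rintro ⟨y, hy, rfl⟩
    have hy' : y ∈ Subgroup.centralizer ({l} : Set N) := hy
    rw [Subgroup.mem_centralizer_singleton_iff] at hy'
    refine ⟨?_, y.2⟩
    show (y : G) ∈ Subgroup.centralizer ({(l : G)} : Set G)
    rw [Subgroup.mem_centralizer_singleton_iff]
    exact congrArg Subtype.val hy'
  · rintro ⟨h1, h2⟩
    have h1' : x ∈ Subgroup.centralizer ({(l : G)} : Set G) := h1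
    rw [Subgroup.mem_centralizer_singleton_iff] at h1'
    refine ⟨⟨x, h2⟩, ?_, rfl⟩
    show (⟨x, h2⟩ : N) ∈ Subgroup.centralizer ({l} : Set N)
    rw [Subgroup.mem_centralizer_singleton_iff]
    exact Subtype.ext h1'

/-- Sylow subgroups of `C_N(l)` in terms of the ambient group. -/
theorem sylowIn_centralizer_subgroup_iff {N : Subgroup G} (l : N) (Q : Subgroup N) :
    SylowIn p (Subgroup.centralizer ({l} : Set N)) Q ↔
      SylowIn p (Subgroup.centralizer ({(l : G)} : Set G) ⊓ N) (Q.map N.subtype) := by
  rw [← centralizer_map_subtype, sylowIn_map_subtype_iff]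

theorem le_centralizer_singleton_iff {D : Subgroup G} {l : G} :
    D ≤ Subgroup.centralizer ({l} : Set G) ↔ l ∈ Subgroup.centralizer (D : Set G) := by
  constructor
  · intro h
    rw [Subgroup.mem_centralizer_iff]
    intro u hu
    have := h hu
    rwa [Subgroup.mem_centralizer_singleton_iff] at this
  · intro h u hu
    rw [Subgroup.mem_centralizer_iff] at h
    rw [Subgroup.mem_centralizer_singleton_iff]
    exact h u hu

end subgroups

variable {G : Type*} [Group G] [Fintype G] {p : ℕ} {M : Ideal AlgInt}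

/-- For an element `l` of `N_G(D)` with `D` Sylow in `C_G(l)`, the Brauer map sends the class sum
of `l` in `G` to the class sum of `l` in any `H` between `N_G(D)`... here `H = N_G(D)`. -/
theorem trunc_classInd_eq [Fact p.Prime] (D : Subgroup G) (hD : IsPGroup p D)
    [Fintype (Subgroup.normalizer (D : Set G))] (l : Subgroup.normalizer (D : Set G))
    (hl : SylowIn p (Subgroup.centralizer ({(l : G)} : Set G)) D) :
    trunc D (Subgroup.normalizer (D : Set G)) (classInd (l : G)) = classInd l := by
  classical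
  have hlc : (l : G) ∈ Subgroup.centralizer (D : Set G) := le_centralizer_singleton_iff.1 hl.le
  have h916 := (Cfsg.Agent.S0916.result p D hD).1 (l : G) hl
  funext h
  by_cases hh : (h : G) ∈ Subgroup.centralizer (D : Set G)
  · rw [trunc_of_mem _ _ _ hh]
    by_cases hc : IsConj (l : G) (h : G)
    · rw [classInd_pos hc]
      obtain ⟨n, hn, hnl⟩ := h916.2 (l : G) (h : G) (IsConj.refl _) hc hlc hh
      rw [classInd_pos]
      exact isConj_iff.2 ⟨⟨n, hn⟩, Subtype.ext hnl⟩
    · rw [classInd_neg hc, classInd_neg]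
      intro hc'
      apply hc
      obtain ⟨n, hn⟩ := isConj_iff.1 hc'
      exact isConj_iff.2 ⟨n, congrArg Subtype.val hn⟩
  · rw [trunc_of_not_mem _ _ _ hh, classInd_neg]
    intro hc'
    apply hh
    obtain ⟨n, hn⟩ := isConj_iff.1 hc'
    rw [← hn]
    exact (conj_mem_centralizer_iff n.2 (l : G)).2 hlc

theorem brauerCentralChar_eq_centralChar [Fact p.Prime] (D : Subgroup G) (hD : IsPGroup p D)
    (l : Subgroup.normalizer (D : Set G))
    (hl : SylowIn p (Subgroup.centralizer ({(l : G)} : Set G)) D)
    (ξ : IrrCharacter (Subgroup.normalizer (D : Set G))) :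
    brauerCentralChar D (Subgroup.normalizer (D : Set G)) (ξ : _ → ℂ) (l : G)
      = centralChar (ξ : _ → ℂ) l := by
  classical
  haveI : Fintype (Subgroup.normalizer (D : Set G)) := Fintype.ofFinite _
  rw [brauerCentralChar_eq_omega, trunc_classInd_eq D hD l hl, omega_classInd (irr_classFunction ξ)]

/-- If `b` (a block of `N_G(D)`) induces `B`, the central characters agree on elements `l` with
`D` Sylow in `C_G(l)`. -/
theorem centralChar_sub_of_induced_normalizer [Fact p.Prime] (hM : IsPModular p M) (D : Subgroup G)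
    (hD : IsPGroup p D) {b : Set (IrrCharacter (Subgroup.normalizer (D : Set G)))}
    {B : Set (IrrCharacter G)} (hind : IsInducedBlock M (Subgroup.normalizer (D : Set G)) b B)
    {ξ : IrrCharacter (Subgroup.normalizer (D : Set G))} (hξ : ξ ∈ b) {χ : IrrCharacter G}
    (hχ : χ ∈ B) (l : Subgroup.normalizer (D : Set G))
    (hl : SylowIn p (Subgroup.centralizer ({(l : G)} : Set G)) D) :
    MemLocalIdeal M (centralChar (ξ : _ → ℂ) l - centralChar (χ : G → ℂ) (l : G)) := by
  have h1 := inducedCentralChar_sub_brauerCentralChar hM hD Subgroup.le_normalizer le_rfl ξ (l : G)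
  have h2 := hind.2.2 ξ hξ χ hχ (l : G)
  rw [brauerCentralChar_eq_centralChar D hD l hl] at h1
  have h3 := memLocalIdeal_sub hM h2 h1
  rwa [sub_sub_sub_cancel_left] at h3

/-- Existence of a block of `H` inducing `B`, when `a_B` is a unit somewhere on `C_G(P)`. -/
theorem exists_induced_of_unit_coeff [Fact p.Prime] (hM : IsPModular p M) {P H : Subgroup G}
    (hP : IsPGroup p P) (hPH : P ≤ H) (hCH : Subgroup.centralizer (P : Set G) ≤ H)
    (hHN : H ≤ Subgroup.normalizer (P : Set G)) (B : Set (IrrCharacter G)) (hB : IsPBlock M B)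
    (g : G) (hg : g ∈ Subgroup.centralizer (P : Set G))
    (hgB : ¬ MemLocalIdeal M (blockCoeff B g)) :
    ∃ b : Set (IrrCharacter H), IsInducedBlock M H b B := by
  classical
  haveI : Fintype H := Fintype.ofFinite _
  set y := trunc P H (blockCoeff B) with hy
  have hy1 : IsClassFunction H y := trunc_classFunction hHN (blockCoeff_classFunction B)
  have hy2 : ∀ h, MemLocalRing M (y h) := trunc_memLocalRing hM P H (osima hM B hB)
  have hy3 : ∀ h, MemLocalIdeal M (conv y y h - y h) := by
    intro h
    have h1 := trunc_conv_sub_memLocalIdeal hM hP hCH (blockCoeff_classFunction B)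
      (blockCoeff_classFunction B) (osima hM B hB) (osima hM B hB) h
    rw [conv_blockCoeff_self] at h1
    have h2 := memLocalIdeal_neg h1
    rwa [neg_sub] at h2
  obtain ⟨ξ, hξ⟩ := exists_irr_omega_unit_of_idem hM y hy1 hy2 hy3 ⟨g, hCH hg⟩
    (by rw [hy, trunc_of_mem _ _ _ hg]; exact hgB)
  obtain ⟨B', hB'⟩ := Cfsg.Agent.S0919.result p M hM P H hP hPH hCH hHN (blockOf M (ξ : H → ℂ))
    ⟨ξ, rfl⟩
  obtain ⟨χ', hχ'⟩ := isPBlock_nonempty hM hB'.2.1
  have h1 := omega_res_sub_omega_of_induced hM hB' (mem_blockOf_self hM ξ) hχ'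
    (blockCoeff_classFunction B) (osima hM B hB)
  have h2 := omega_res_sub_trunc hM hP hPH hHN ξ (blockCoeff_classFunction B) (osima hM B hB)
  have h3 : χ' ∈ B := by
    by_contra hcon
    rw [omega_blockCoeff, if_neg hcon, sub_zero] at h1
    apply hξ
    have := memLocalIdeal_sub hM h1 h2
    rwa [sub_sub_cancel] at this
  have h4 : B' = B := by
    rw [isPBlock_eq_blockOf hM hB'.2.1 hχ', isPBlock_eq_blockOf hM hB h3]
  exact ⟨_, h4 ▸ hB'⟩

/-- First main theorem, part (i). -/
theorem isDefectGroup_of_induced_normalizer [Fact p.Prime] (hM : IsPModular p M) (D : Subgroup G)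
    (hD : IsPGroup p D) {b : Set (IrrCharacter (Subgroup.normalizer (D : Set G)))}
    {B : Set (IrrCharacter G)} (hind : IsInducedBlock M (Subgroup.normalizer (D : Set G)) b B)
    (hbD : IsDefectGroup p M b (D.subgroupOf (Subgroup.normalizer (D : Set G)))) :
    IsDefectGroup p M B D := by
  classical
  haveI : Fintype (Subgroup.normalizer (D : Set G)) := Fintype.ofFinite _
  have hb := hind.1
  have hB := hind.2.1
  obtain ⟨ξ, hξ⟩ := isPBlock_nonempty hM hb
  obtain ⟨χ, hχ⟩ := isPBlock_nonempty hM hB
  obtain ⟨E, hE, hDE⟩ := defectGroup_le_of_induced hM hind _ hbD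
  rw [Subgroup.map_subgroupOf_eq_of_le Subgroup.le_normalizer] at hDE
  rw [isDefectGroup_iff] at hbD
  obtain ⟨l, hl, hlD⟩ := hbD
  rw [sylowIn_centralizer_subgroup_iff, Subgroup.map_subgroupOf_eq_of_le Subgroup.le_normalizer]
    at hlD
  have hlc : (l : G) ∈ Subgroup.centralizer (D : Set G) :=
    le_centralizer_singleton_iff.1 (hlD.le.trans inf_le_left)
  have hlG : SylowIn p (Subgroup.centralizer ({(l : G)} : Set G)) D :=
    (Cfsg.Agent.S0916.result p D hD).2 l hlc hlD
  have h1 := centralChar_sub_of_induced_normalizer hM D hD hind hξ hχ l hlG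
  have h2 : ¬ MemLocalIdeal M (centralChar (χ : G → ℂ) (l : G)) := by
    intro h3
    apply hl.2.2 ξ hξ
    have := memLocalIdeal_add hM h1 h3
    rwa [sub_add_cancel] at this
  have hE' := hE
  rw [isDefectGroup_iff] at hE'
  obtain ⟨g, hg, hEg⟩ := hE'
  obtain ⟨x, hx⟩ := exists_map_conj_le_centralizer hM B hB (l : G) g
    (centralChar_unit_of_exists hM B hB _ ⟨χ, hχ, h2⟩) hg.2.1 E hEg.isPGroup hEg.le
  obtain ⟨R, hR, hER⟩ := exists_sylowIn_ge (hEg.isPGroup.map (MulAut.conj x).toMonoidHom) hx
  have hcard : Nat.card E ≤ Nat.card D := by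
    rw [← card_map_conj E x, ← hR.card_eq hlG]
    exact Subgroup.card_le_of_le hER
  have : D = E := Subgroup.eq_of_le_of_card_ge hDE hcard
  rw [this]; exact hE

/-- First main theorem, existence in part (ii). -/
theorem exists_block_normalizer [Fact p.Prime] (hM : IsPModular p M) (D : Subgroup G)
    (hD : IsPGroup p D) (B : Set (IrrCharacter G)) (hB : IsPBlock M B)
    (hBD : IsDefectGroup p M B D) :
    ∃ b : Set (IrrCharacter (Subgroup.normalizer (D : Set G))), IsPBlock M b ∧
      IsDefectGroup p M b (D.subgroupOf (Subgroup.normalizer (D : Set G))) ∧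
      IsInducedBlock M (Subgroup.normalizer (D : Set G)) b B := by
  classical
  haveI : Fintype (Subgroup.normalizer (D : Set G)) := Fintype.ofFinite _
  have hBD' := hBD
  rw [isDefectGroup_iff] at hBD'
  obtain ⟨g, hg, hgD⟩ := hBD'
  obtain ⟨b, hb⟩ := exists_induced_of_unit_coeff hM hD Subgroup.le_normalizer
    (Subgroup.centralizer_le_normalizer _) le_rfl B hB g (le_centralizer_singleton_iff.1 hgD.le)
    hg.2.1
  refine ⟨b, hb.1, ?_, hb⟩
  obtain ⟨Q, hQ⟩ := exists_isDefectGroup hM b hb.1
  haveI : (D.subgroupOf (Subgroup.normalizer (D : Set G))).Normal := Subgroup.normal_in_normalizer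
  have h1 : D.subgroupOf (Subgroup.normalizer (D : Set G)) ≤ Q :=
    normal_pSubgroup_le_defectGroup hM b hb.1 Q hQ _ hD.comap_subtype
  obtain ⟨E, hE, hQE⟩ := defectGroup_le_of_induced hM hb Q hQ
  have h2 : Nat.card E = Nat.card D := by
    rw [card_defectGroup hM B hB E hE, card_defectGroup hM B hB D hBD]
  have h3 : Nat.card Q ≤ Nat.card (D.subgroupOf (Subgroup.normalizer (D : Set G))) := by
    have e1 : Nat.card (Q.map (Subgroup.normalizer (D : Set G)).subtype) = Nat.card Q :=
      Subgroup.card_map_of_injective (Subgroup.subtype_injective _)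
    have e2 : Nat.card ((D.subgroupOf (Subgroup.normalizer (D : Set G))).map
        (Subgroup.normalizer (D : Set G)).subtype)
        = Nat.card (D.subgroupOf (Subgroup.normalizer (D : Set G))) :=
      Subgroup.card_map_of_injective (Subgroup.subtype_injective _)
    rw [← e1, ← e2, Subgroup.map_subgroupOf_eq_of_le Subgroup.le_normalizer, ← h2]
    exact Subgroup.card_le_of_le hQE
  rw [Subgroup.eq_of_le_of_card_ge h1 h3]; exact hQ

/-- First main theorem, uniqueness in part (ii). -/
theorem block_normalizer_unique [Fact p.Prime] (hM : IsPModular p M) (D : Subgroup G)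
    (hD : IsPGroup p D) {B : Set (IrrCharacter G)}
    {b₁ b₂ : Set (IrrCharacter (Subgroup.normalizer (D : Set G)))}
    (h1 : IsInducedBlock M (Subgroup.normalizer (D : Set G)) b₁ B)
    (h2 : IsInducedBlock M (Subgroup.normalizer (D : Set G)) b₂ B)
    (hd1 : IsDefectGroup p M b₁ (D.subgroupOf (Subgroup.normalizer (D : Set G)))) : b₁ = b₂ := by
  classical
  haveI : Fintype (Subgroup.normalizer (D : Set G)) := Fintype.ofFinite _
  haveI : Fintype (ConjClasses (Subgroup.normalizer (D : Set G))) := Fintype.ofFinite _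
  haveI : (D.subgroupOf (Subgroup.normalizer (D : Set G))).Normal := Subgroup.normal_in_normalizer
  have hp := hM.1
  have hD' : IsPGroup p (D.subgroupOf (Subgroup.normalizer (D : Set G))) := hD.comap_subtype
  obtain ⟨ξ₁, hξ₁⟩ := isPBlock_nonempty hM h1.1
  obtain ⟨ξ₂, hξ₂⟩ := isPBlock_nonempty hM h2.1
  obtain ⟨χ, hχ⟩ := isPBlock_nonempty hM h1.2.1
  have key : MemLocalIdeal M (omega (ξ₂ : _ → ℂ) (blockCoeff b₁) - omega (ξ₁ : _ → ℂ) (blockCoeff b₁)) := by
    rw [omega_eq_sum_classes (irr_classFunction ξ₂) (blockCoeff_classFunction b₁),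
      omega_eq_sum_classes (irr_classFunction ξ₁) (blockCoeff_classFunction b₁),
      ← Finset.sum_sub_distrib]
    apply memLocalIdeal_sum hM
    intro C _
    rw [← mul_sub]
    set l := Quotient.out C with hl
    by_cases ha : MemLocalIdeal M (blockCoeff b₁ l)
    · exact memLocalIdeal_mul_right hM ha (memLocalRing_sub hM (centralChar_memLocalRing hM ξ₂ l)
        (centralChar_memLocalRing hM ξ₁ l))
    · apply memLocalIdeal_mul_left hM (osima hM b₁ h1.1 l)
      by_cases hlc : l ∈ Subgroup.centralizer
          ((D.subgroupOf (Subgroup.normalizer (D : Set G)) : Subgroup _) : Set _)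
      · have hle : D.subgroupOf (Subgroup.normalizer (D : Set G)) ≤ Subgroup.centralizer {l} :=
          le_centralizer_singleton_iff.2 hlc
        have hS : SylowIn p (Subgroup.centralizer {l})
            (D.subgroupOf (Subgroup.normalizer (D : Set G))) := by
          obtain ⟨R, hR, hDR⟩ := exists_sylowIn_ge hD' hle
          obtain ⟨S, rfl⟩ := hR
          have c1 : Nat.card ((S : Subgroup (Subgroup.centralizer {l})).map
              (Subgroup.centralizer {l}).subtype)
              = p ^ (Nat.card (Subgroup.centralizer {l})).factorization p := by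
            rw [Subgroup.card_map_of_injective (Subgroup.subtype_injective _), S.card_eq_multiplicity]
          have c2 := factorization_centralizer_le_blockDefect hM b₁ h1.1 l ha
          have c3 := card_defectGroup hM b₁ h1.1 _ hd1
          have c4 := Subgroup.eq_of_le_of_card_ge hDR (by
            rw [c1, c3]; exact Nat.pow_le_pow_right hp.pos c2)
          rw [c4]; exact ⟨S, rfl⟩
        rw [sylowIn_centralizer_subgroup_iff,
          Subgroup.map_subgroupOf_eq_of_le Subgroup.le_normalizer] at hS
        have hlc' : (l : G) ∈ Subgroup.centralizer (D : Set G) :=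
          le_centralizer_singleton_iff.1 (hS.le.trans inf_le_left)
        have hlG : SylowIn p (Subgroup.centralizer ({(l : G)} : Set G)) D :=
          (Cfsg.Agent.S0916.result p D hD).2 l hlc' hS
        have e1 := centralChar_sub_of_induced_normalizer hM D hD h1 hξ₁ hχ l hlG
        have e2 := centralChar_sub_of_induced_normalizer hM D hD h2 hξ₂ hχ l hlG
        have := memLocalIdeal_sub hM e2 e1
        rwa [sub_sub_sub_cancel_right] at this
      · exact memLocalIdeal_sub hM
          (centralChar_memLocalIdeal_of_not_mem_centralizer hM _ hD' ξ₂ l hlc)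
          (centralChar_memLocalIdeal_of_not_mem_centralizer hM _ hD' ξ₁ l hlc)
  rw [omega_blockCoeff, omega_blockCoeff, if_pos hξ₁] at key
  have h3 : ξ₂ ∈ b₁ := by
    by_contra hcon
    rw [if_neg hcon, zero_sub] at key
    exact not_memLocalIdeal_one hM (by simpa using memLocalIdeal_neg key)
  rw [isPBlock_eq_blockOf hM h1.1 h3, isPBlock_eq_blockOf hM h2.1 hξ₂]

end Cfsg.Agent.Lib.Helper21
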