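import Cfsg.Agent.Lib.Helper21.Cover3
import Cfsg.Agent.Lib.Helper81.Subsections

set_option autoImplicit false
open Cfsg
open scoped ComplexConjugate
open Cfsg.Agent.Lib.Helper20 Cfsg.Agent.Lib.Helper81 Cfsg.Agent.Lib.Helper5

namespace Cfsg.Agent.Lib.Helper21

section union

variable {G : Type*} [Group G] [Fintype G] {p : ℕ} {M : Ideal AlgInt}

/-- If the idempotent of a union of blocks has a unit coefficient at `x`, so does one of the
blocks. -/
theorem exists_block_unit_coeff_of_union (hM : IsPModular p M) (A : Set (IrrCharacter G))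
    (hA : ∀ χ ∈ A, ∀ ψ : IrrCharacter G, SameBlock M (χ : G → ℂ) (ψ : G → ℂ) → ψ ∈ A) (x : G)
    (hx : ¬ MemLocalIdeal M (blockCoeff A x)) :
    ∃ B' : Set (IrrCharacter G), IsPBlock M B' ∧ B' ⊆ A ∧ ¬ MemLocalIdeal M (blockCoeff B' x) := by
  classical
  haveI : Finite (IrrCharacter G) := finite_irrCharacter
  haveI : Fintype (IrrCharacter G) := Fintype.ofFinite _
  haveI : Fintype (Set (IrrCharacter G)) := Fintype.ofFinite _
  by_contra hcon
  push Not at hcon
  apply hx
  rw [blockCoeff, finsum_mem_irr, sum_irr_eq_sum_blocks hM, Finset.mul_sum]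
  apply memLocalIdeal_sum hM
  intro b' _
  split_ifs with hb'
  · by_cases hsub : b' ⊆ A
    · have h1 : ∑ ψ : IrrCharacter G, (if ψ ∈ b' then
          (if ψ ∈ A then (ψ : G → ℂ) 1 * conj ((ψ : G → ℂ) x) else 0) else 0)
          = ∑ ψ : IrrCharacter G, (if ψ ∈ b' then (ψ : G → ℂ) 1 * conj ((ψ : G → ℂ) x) else 0) := by
        apply Finset.sum_congr rfl
        intro ψ _
        by_cases hψ : ψ ∈ b'
        · rw [if_pos hψ, if_pos hψ, if_pos (hsub hψ)]
        · rw [if_neg hψ, if_neg hψ]
      rw [h1]
      have h2 := hcon b' hb' hsub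
      rw [blockCoeff, finsum_mem_irr] at h2
      exact h2
    · have h1 : ∀ ψ ∈ b', ψ ∉ A := fun ψ hψ hψA =>
        hsub (fun φ hφ => hA ψ hψA φ (isPBlock_sameBlock hM hb' hψ hφ))
      rw [Finset.sum_eq_zero, mul_zero]
      · exact memLocalIdeal_zero hM
      · intro ψ _
        by_cases hψ : ψ ∈ b'
        · rw [if_pos hψ, if_neg (h1 ψ hψ)]
        · rw [if_neg hψ]
  · rw [mul_zero]; exact memLocalIdeal_zero hM

end union

variable {G : Type*} [Group G] [Fintype G] {N : Subgroup G} [Fintype N] {p : ℕ} {M : Ideal AlgInt}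

open Classical in
/-- number of `N`-classes in the `G`-class of `x`. -/
noncomputable def numClasses (N : Subgroup G) [Fintype N] [Fintype (ConjClasses N)] (x : G) : ℕ :=
  (Finset.univ.filter (fun C : ConjClasses N => IsConj x ((Quotient.out C : N) : G))).card

open Classical in
theorem inducedCentralChar_eq_sum_filter [Fintype (ConjClasses N)] {θ : N → ℂ}
    (hθ : IsClassFunction N θ) (x : G) :
    inducedCentralChar N θ x
      = ∑ C ∈ Finset.univ.filter (fun C : ConjClasses N => IsConj x ((Quotient.out C : N) : G)),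
          centralChar θ (Quotient.out C) := by
  rw [inducedCentralChar_eq_omega, omega_eq_sum_classes hθ
    (res_classFunction N (classInd_classFunction x)), Finset.sum_filter]
  apply Finset.sum_congr rfl
  intro C _
  split_ifs with h
  · rw [classInd_pos h, one_mul]
  · rw [classInd_neg h, zero_mul]

omit [Fintype G] [Fintype N] in
theorem centralChar_eq_cjF_of_isConj (hN : N.Normal) (θ : N → ℂ) (x y : N)
    (h : IsConj (x : G) (y : G)) : ∃ g : G, centralChar θ y = centralChar (cjF hN θ g) x := by
  obtain ⟨g, hg⟩ := isConj_iff.1 h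
  refine ⟨g, ?_⟩
  rw [centralChar_cjF]
  congr 1
  exact Subtype.ext hg.symm

/-- For `θ` in a `G`-invariant block, the induced central character at `x ∈ N` is congruent to the
number of `N`-classes times the central character. -/
theorem inducedCentralChar_sub_numClasses_mul [Fintype (ConjClasses N)] (hM : IsPModular p M)
    (hN : N.Normal) (θ : IrrCharacter N)
    (hinv : ∀ g : G, SameBlock M (θ : N → ℂ) (cjF hN (θ : N → ℂ) g)) (x : N) :
    MemLocalIdeal M (inducedCentralChar N (θ : N → ℂ) (x : G)
      - (numClasses N (x : G) : ℂ) * centralChar (θ : N → ℂ) x) := by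
  classical
  rw [inducedCentralChar_eq_sum_filter (irr_classFunction θ), numClasses, ← nsmul_eq_mul,
    ← Finset.sum_const, ← Finset.sum_sub_distrib]
  apply memLocalIdeal_sum hM
  intro C hC
  obtain ⟨g, hg⟩ := centralChar_eq_cjF_of_isConj hN (θ : N → ℂ) x (Quotient.out C)
    (Finset.mem_filter.1 hC).2
  rw [hg]
  have := memLocalIdeal_neg (hinv g x)
  rwa [neg_sub] at this

/-- class sizes: `|G : C_G(x)| = t |N : C_N(x)|`. -/
theorem index_centralizer_eq_numClasses_mul [Fintype (ConjClasses N)] (hN : N.Normal) (x : N) :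
    (Subgroup.centralizer ({(x : G)} : Set G)).index
      = numClasses N (x : G) * (Subgroup.centralizer ({x} : Set N)).index := by
  classical
  have h1 : IsClassFunction N (fun _ => (1 : ℂ)) := fun _ _ => rfl
  have h2 := inducedCentralChar_eq_sum_filter (N := N) h1 (x : G)
  have h3 : ∀ C ∈ Finset.univ.filter (fun C : ConjClasses N => IsConj (x : G) ((Quotient.out C : N) : G)),
      centralChar (fun _ : N => (1 : ℂ)) (Quotient.out C)
        = ((Subgroup.centralizer ({x} : Set N)).index : ℂ) := by
    intro C hC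
    obtain ⟨g, hg⟩ := centralChar_eq_cjF_of_isConj hN (fun _ : N => (1 : ℂ)) x (Quotient.out C)
      (Finset.mem_filter.1 hC).2
    rw [hg]
    simp [centralChar, cjF]
  rw [Finset.sum_congr rfl h3, Finset.sum_const, nsmul_eq_mul] at h2
  have h4 : inducedCentralChar N (fun _ : N => (1 : ℂ)) (x : G)
      = ((Subgroup.centralizer ({(x : G)} : Set G)).index : ℂ) := by
    rw [inducedCentralChar_eq_omega]
    have h5 : IsClassFunction G (fun _ => (1 : ℂ)) := fun _ _ => rfl
    have h6 := omega_classInd h5 (x : G)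
    have h7 : centralChar (fun _ : G => (1 : ℂ)) (x : G)
        = ((Subgroup.centralizer ({(x : G)} : Set G)).index : ℂ) := by simp [centralChar]
    have h8 : ext0 N (fun n : N => classInd (x : G) (n : G)) = classInd (x : G) :=
      ext0_res N (fun g hg => classInd_eq_zero_of_not_mem hN x hg)
    rw [← h7, ← h6]
    conv_rhs => rw [← h8, omega_ext0]
    simp only [omega]
  rw [h4] at h2
  exact_mod_cast h2

end Cfsg.Agent.Lib.Helper21
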