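import Cfsg.Agent.Lib.Helper21.Fong

set_option autoImplicit false
open Cfsg
open scoped ComplexConjugate
open Cfsg.Agent.Lib.Helper20 Cfsg.Agent.Lib.Helper81 Cfsg.Agent.Lib.Helper5

namespace Cfsg.Agent.Lib.Helper21

section conv

variable {G : Type*} [Group G] [Fintype G] {p : ℕ} {M : Ideal AlgInt}

/-- fixed point principle for convolutions of class functions. -/
theorem exists_fixed_of_conv_unit (hM : IsPModular p M) {z w : G → ℂ} (hz : IsClassFunction G z)
    (hw : IsClassFunction G w) (hzR : ∀ g, MemLocalRing M (z g)) (hwR : ∀ g, MemLocalRing M (w g))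
    (k : G) (hk : ¬ MemLocalIdeal M (conv z w k)) (P : Subgroup G) (hP : IsPGroup p P)
    (hPk : P ≤ Subgroup.centralizer ({k} : Set G)) :
    ∃ g : G, P ≤ Subgroup.centralizer ({g} : Set G) ∧ ¬ MemLocalIdeal M (z g) ∧
      ¬ MemLocalIdeal M (w (g⁻¹ * k)) := by
  classical
  by_contra hcon
  push Not at hcon
  apply hk
  simp only [conv]
  let _ : MulAction P G := MulAction.compHom G (MulAut.conj.comp P.subtype)
  have hsm : ∀ (q : P) (x : G), q • x = (q : G) * x * (q : G)⁻¹ := fun q x => rfl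
  apply sum_memLocalIdeal_of_fixed hM hP (fun g => z g * w (g⁻¹ * k))
  · intro q x
    rw [hsm]
    have h2 : ((q : G) * x * (q : G)⁻¹)⁻¹ * k = (q : G) * (x⁻¹ * k) * (q : G)⁻¹ := by
      have h3 := hPk q.2
      rw [Subgroup.mem_centralizer_singleton_iff] at h3
      have h4 : k * (q : G)⁻¹ = (q : G)⁻¹ * k := by
        rw [eq_inv_mul_iff_mul_eq, ← mul_assoc, h3, mul_assoc, mul_inv_cancel, mul_one]
      rw [mul_assoc (q : G) (x⁻¹ * k), mul_assoc x⁻¹ k, h4]
      group
    show z ((q : G) * x * (q : G)⁻¹) * w (((q : G) * x * (q : G)⁻¹)⁻¹ * k) = _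
    rw [hz, h2, hw]
  · intro x
    exact memLocalRing_mul hM (hzR _) (hwR _)
  · intro x hx
    have h1 : P ≤ Subgroup.centralizer ({x} : Set G) := by
      intro q hq
      rw [Subgroup.mem_centralizer_singleton_iff]
      have := hx ⟨q, hq⟩
      rw [hsm] at this
      exact mul_inv_eq_iff_eq_mul.1 this
    by_cases h2 : MemLocalIdeal M (z x)
    · exact memLocalIdeal_mul_right hM h2 (hwR _)
    · exact memLocalIdeal_mul_left hM (hzR _) (hcon x h1 h2)

end conv

variable {G : Type*} [Group G] [Fintype G] {N : Subgroup G} [Fintype N] {p : ℕ} {M : Ideal AlgInt}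

theorem inducedCentralChar_memLocalRing (hM : IsPModular p M) (θ : IrrCharacter N) (g : G) :
    MemLocalRing M (inducedCentralChar N (θ : N → ℂ) g) := by
  rw [inducedCentralChar_eq_omega]
  exact omega_memLocalRing hM θ (res_classFunction N (classInd_classFunction g))
    (fun h => classInd_memLocalRing hM g h)

theorem conjClosure_eq_of_invariant (hN : N.Normal) {b : Set (IrrCharacter N)}
    (hinv : ∀ g : G, ∀ θ ∈ b, cjIrr hN g θ ∈ b) : conjClosure hN b = b := by
  apply Set.Subset.antisymm _ (subset_conjClosure hN b)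
  intro ψ hψ
  obtain ⟨g, hg⟩ := (mem_conjClosure hN b ψ).1 hψ
  have := hinv g⁻¹ _ hg
  rwa [cjIrr_cjIrr, mul_inv_cancel, cjIrr_one] at this

/-- the characters of `G` lying over (conjugates of) `b`. -/
def overSet (N : Subgroup G) [Fintype N] (b : Set (IrrCharacter N)) : Set (IrrCharacter G) :=
  {χ | ∃ ψ ∈ b, classInner (fun n : N => (χ : G → ℂ) n) (ψ : N → ℂ) ≠ 0}

/-- The idempotent of the orbit of `b` is the sum of the idempotents of the characters over it. -/
theorem ext0_conjClosure_eq_blockCoeff_overSet (hN : N.Normal) (b : Set (IrrCharacter N)) :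
    ext0 N (blockCoeff (conjClosure hN b)) = blockCoeff (overSet N (conjClosure hN b)) := by
  classical
  apply eq_of_omega_eq (ext0_conjClosure_classFunction hN b) (blockCoeff_classFunction _)
  intro χ
  obtain ⟨ψ, hψ⟩ := exists_constituent_res N χ
  rw [omega_ext0_conjClosure hN b χ ψ hψ, omega_blockCoeff]
  by_cases h : ψ ∈ conjClosure hN b
  · rw [if_pos h, if_pos ⟨ψ, h, hψ⟩]
  · rw [if_neg h, if_neg]
    rintro ⟨ψ', hψ', hcon'⟩
    have h1 := omega_ext0_conjClosure hN b χ ψ hψ
    rw [omega_ext0_conjClosure hN b χ ψ' hcon', if_pos hψ', if_neg h] at h1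
    exact one_ne_zero h1

theorem overSet_union_of_blocks (hM : IsPModular p M) (hN : N.Normal) {b : Set (IrrCharacter N)}
    (hb : IsPBlock M b) {χ ψ : IrrCharacter G} (hχ : χ ∈ overSet N (conjClosure hN b))
    (h : SameBlock M (χ : G → ℂ) (ψ : G → ℂ)) : ψ ∈ overSet N (conjClosure hN b) := by
  apply union_of_blocks hM _ _ hχ h
  intro g
  rw [← ext0_conjClosure_eq_blockCoeff_overSet]
  exact ext0_conjClosure_memLocalRing hM hN hb g

end Cfsg.Agent.Lib.Helper21
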