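import Mathlib
import Cfsg.Prelude.Def_Characters
import Cfsg.Agent.Lib.Helper5.Inertia
import Cfsg.Agent.Lib.Helper79.CliffordOrbit
import Cfsg.Agent.Lib.Helper82.CharKer
import Cfsg.Agent.Lib.Helper4.CharBasic
import Cfsg.Agent.Lib.Helper4.CharConj
import Cfsg.Agent.S0161

set_option autoImplicit false

/-!
Characters fixed by a Galois twist `g ↦ g ^ k` which inverts the elements of odd order, over a
normal subgroup of odd index: the parity lemma and the uniqueness of fixed characters.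
-/

namespace Cfsg.Agent.Lib.Helper21.GalOdd

open Cfsg Cfsg.Agent.Lib.Helper20 Cfsg.Agent.Lib.Helper5
open scoped ComplexConjugate

section
variable {G : Type*} [Group G] [Fintype G] {N : Subgroup G}

/-- modulo a normal subgroup of odd index the power map `g ↦ g ^ k` is inversion -/
theorem pow_mul_self_mem (hN : N.Normal) (hidx : Odd N.index) (k : ℕ)
    (hk₂ : ∀ g : G, Odd (orderOf g) → g ^ k = g⁻¹) (g : G) : g ^ k * g ∈ N := by
  obtain ⟨a, m, hm, ho⟩ := Nat.exists_eq_two_pow_mul_odd (orderOf_pos g).ne'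
  have h1 : orderOf (g ^ 2 ^ a) = m := by
    rw [orderOf_pow_of_dvd (by positivity) ⟨m, ho⟩, ho]
    exact Nat.mul_div_cancel_left m (by positivity)
  have h2 := hk₂ (g ^ 2 ^ a) (h1 ▸ hm)
  have h3 : (g ^ k * g) ^ 2 ^ a = 1 := by
    rw [← pow_succ, ← pow_mul, mul_comm, pow_mul, pow_succ, h2, inv_mul_cancel]
  have := hN
  rw [← QuotientGroup.eq_one_iff]
  have h4 : ((g ^ k * g : G) : G ⧸ N) ^ 2 ^ a = 1 := by
    rw [← QuotientGroup.mk_pow, h3]; rfl
  have h5 : orderOf ((g ^ k * g : G) : G ⧸ N) ∣ 2 ^ a := orderOf_dvd_of_pow_eq_one h4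
  have h6 : orderOf ((g ^ k * g : G) : G ⧸ N) ∣ N.index := by
    rw [Subgroup.index_eq_card]; exact orderOf_dvd_natCard _
  have h7 : Nat.Coprime (2 ^ a) N.index := (Nat.coprime_two_left.mpr hidx).pow_left a
  have h8 := Nat.eq_one_of_dvd_coprimes h7 h5 h6
  exact orderOf_eq_one_iff.mp h8

/-- on characters of the quotient the twist is complex conjugation -/
theorem apply_pow_of_ker (hN : N.Normal) (hidx : Odd N.index) (k : ℕ)
    (hk₂ : ∀ g : G, Odd (orderOf g) → g ^ k = g⁻¹) {β : G → ℂ} (hβ : IsCharacter G β)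
    (hker : ∀ x ∈ N, β x = β 1) (g : G) : β (g ^ k) = conj (β g) := by
  rw [← isCharacter_inv hβ]
  have h := Cfsg.Agent.Lib.Helper82.isChar_mul_of_mem_ker hβ
    (hker _ (pow_mul_self_mem hN hidx k hk₂ g)) g⁻¹
  rw [← h]
  congr 1
  have h2 : Commute (g ^ k) g := (Commute.refl g).pow_left k
  rw [h2.eq, inv_mul_cancel_left]

/-- Burnside: a real irreducible character of a quotient of odd order is trivial -/
theorem eq_one_of_real (hN : N.Normal) (hidx : Odd N.index) {β : G → ℂ}
    (hβ : IsIrrCharacter G β) (hker : ∀ x ∈ N, β x = β 1) (hreal : ∀ g, conj (β g) = β g) :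
    β = fun _ => 1 := by
  have := hN
  obtain ⟨ψ, hψ, hψβ⟩ := Cfsg.Agent.Lib.Helper82.isIrr_deflate hβ N hker
  have h := Cfsg.Agent.S0161.result (G := G ⧸ N)
    (by rw [← Subgroup.index_eq_card]; exact hidx) ⟨ψ, hψ⟩ (by
      intro x
      obtain ⟨g, rfl⟩ := QuotientGroup.mk_surjective x
      show (ψ (g : G ⧸ N)).im = 0
      rw [hψβ]
      exact Complex.conj_eq_iff_im.mp (hreal g))
  funext g
  rw [← hψβ g]
  exact congrFun h _

/-- an irreducible character over the trivial character of `N` has `N` in its kernel -/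
theorem ker_of_inner_one [Fintype N] (hN : N.Normal) {β : G → ℂ} (hβ : IsIrrCharacter G β)
    (h : classInner (fun n : N => β n) (fun _ => 1) ≠ 0) : ∀ x ∈ N, β x = β 1 := by
  have h1 := clifford_invariant hN hβ (Cfsg.Agent.Lib.Helper4.isIrrCharacter_one (G := N)) h
    (fun g => rfl)
  intro x hx
  have h2 := congrFun h1 ⟨x, hx⟩
  have h3 := congrFun h1 1
  simp only [Pi.smul_apply, smul_eq_mul, mul_one] at h2 h3
  rw [h2]
  exact h3.symm

/-- The parity lemma: for a character fixed by the twist, the multiplicities of the trivial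
characters of `N` and of `G` have the same parity. -/
theorem parity [Fintype N] (hN : N.Normal) (hidx : Odd N.index) (k : ℕ)
    (hk : Nat.Coprime k (Nat.card G)) (hk₂ : ∀ g : G, Odd (orderOf g) → g ^ k = g⁻¹)
    {ψ : G → ℂ} (hψ : IsCharacter G ψ) (hfix : ∀ g, ψ (g ^ k) = ψ g) :
    ∃ z : ℕ, classInner (fun n : N => ψ n) (fun _ => 1)
      = classInner ψ (fun _ => 1) + 2 * (z : ℂ) := by
  classical
  have := finite_irrCharacter (G := G)
  have := Fintype.ofFinite (IrrCharacter G)
  have hm : ∀ β : IrrCharacter G, ∃ n : ℕ, classInner ψ (β : G → ℂ) = n :=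
    fun β => isCharacter_classInner_nat hψ β.2
  have hc : ∀ β : IrrCharacter G, ∃ n : ℕ,
      classInner (fun n : N => (β : G → ℂ) n) (fun _ => 1) = n :=
    fun β => isCharacter_classInner_nat
      (isCharacter_restrict (isCharacter_of_isIrrCharacter β.2) N)
      Cfsg.Agent.Lib.Helper4.isIrrCharacter_one
  choose m hm using hm
  choose c hc using hc
  have hexp : classInner (fun n : N => ψ n) (fun _ => 1)
      = ∑ β : IrrCharacter G, (m β : ℂ) * c β := by
    have h1 := eq_sum_classInner_smul (isClassFunction_of_isCharacter hψ)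
    have h2 : (fun n : N => ψ n)
        = ∑ β : IrrCharacter G, classInner ψ (β : G → ℂ) • (fun n : N => (β : G → ℂ) n) := by
      funext n
      conv_lhs => rw [h1]
      simp [Finset.sum_apply]
    rw [h2, classInner_sum_left]
    apply Finset.sum_congr rfl
    intro β _
    rw [classInner_smul_left, hm, hc]
  let one : IrrCharacter G := ⟨fun _ => 1, Cfsg.Agent.Lib.Helper4.isIrrCharacter_one⟩
  have hc1 : c one = 1 := by
    have h1 := hc one
    have h2 : classInner (fun _ : N => (1 : ℂ)) (fun _ => 1) = 1 :=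
      classInner_irr_self Cfsg.Agent.Lib.Helper4.isIrrCharacter_one
    have h3 : (fun n : N => (one : G → ℂ) n) = fun _ => 1 := rfl
    rw [h3, h2] at h1
    exact_mod_cast h1.symm
  have hcc : ∀ β, c (Cfsg.Agent.Lib.Helper4.irrConj β) = c β := by
    intro β
    have h1 := hc (Cfsg.Agent.Lib.Helper4.irrConj β)
    have h2 := Cfsg.Agent.Lib.Helper4.classInner_conj_conj (fun n : N => (β : G → ℂ) n)
      (fun _ => 1)
    simp only [map_one] at h2
    have h3 : (fun n : N => (Cfsg.Agent.Lib.Helper4.irrConj β : G → ℂ) n)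
        = fun n : N => conj ((β : G → ℂ) n) := rfl
    rw [h3, h2, hc, Complex.conj_natCast] at h1
    exact_mod_cast h1.symm
  have hmc : ∀ β, c β ≠ 0 → m (Cfsg.Agent.Lib.Helper4.irrConj β) = m β := by
    intro β hβ
    have hker : ∀ x ∈ N, (β : G → ℂ) x = (β : G → ℂ) 1 := by
      apply ker_of_inner_one hN β.2
      rw [hc]
      exact_mod_cast hβ
    have h1 := Cfsg.Agent.Lib.Helper79.classInner_pow_coprime k hk ψ (β : G → ℂ)
    have h2 : (fun g => ψ (g ^ k)) = ψ := funext hfix
    have h3 : (fun g => (β : G → ℂ) (g ^ k))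
        = (Cfsg.Agent.Lib.Helper4.irrConj β : G → ℂ) := by
      funext g
      exact apply_pow_of_ker hN hidx k hk₂ (isCharacter_of_isIrrCharacter β.2) hker g
    rw [h2, h3, hm, hm] at h1
    exact_mod_cast h1
  have hne : ∀ β, β ≠ one → c β ≠ 0 → Cfsg.Agent.Lib.Helper4.irrConj β ≠ β := by
    intro β hβ1 hβ h
    apply hβ1
    have hker : ∀ x ∈ N, (β : G → ℂ) x = (β : G → ℂ) 1 := by
      apply ker_of_inner_one hN β.2
      rw [hc]
      exact_mod_cast hβ
    apply Subtype.ext
    apply eq_one_of_real hN hidx β.2 hker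
    intro g
    exact congrFun (congrArg Subtype.val h) g
  have hsum : (∑ β ∈ Finset.univ.erase one, ((m β * c β : ℕ) : ZMod 2)) = 0 := by
    apply Finset.sum_involution (fun β _ => Cfsg.Agent.Lib.Helper4.irrConj β)
    · intro β _
      by_cases h0 : c β = 0
      · rw [hcc, h0]; simp
      · rw [hcc, hmc β h0]
        have : (2 : ZMod 2) = 0 := rfl
        linear_combination ((m β * c β : ℕ) : ZMod 2) * this
    · intro β hβ h0
      apply hne β (Finset.ne_of_mem_erase hβ)
      intro h1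
      apply h0
      rw [h1]; simp
    · intro β _
      exact Cfsg.Agent.Lib.Helper4.irrConj_irrConj β
    · intro β hβ
      apply Finset.mem_erase.mpr ⟨?_, Finset.mem_univ _⟩
      intro h
      apply Finset.ne_of_mem_erase hβ
      have h2 := congrArg Cfsg.Agent.Lib.Helper4.irrConj h
      rw [Cfsg.Agent.Lib.Helper4.irrConj_irrConj] at h2
      rw [h2]
      apply Subtype.ext
      funext g
      simp [one]
  rw [← Nat.cast_sum, ZMod.natCast_eq_zero_iff] at hsum
  obtain ⟨z, hz⟩ := hsum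
  refine ⟨z, ?_⟩
  rw [hexp, ← Finset.add_sum_erase _ _ (Finset.mem_univ one), hc1]
  have h5 : classInner ψ (fun _ => 1) = m one := hm one
  rw [h5]
  have h6 : (∑ β ∈ Finset.univ.erase one, (m β : ℂ) * c β) = ((2 * z : ℕ) : ℂ) := by
    rw [← hz]; push_cast; rfl
  rw [h6]
  push_cast
  ring

/-- The parity lemma for a pair of characters fixed by the twist. -/
theorem parity_pair [Fintype N] (hN : N.Normal) (hidx : Odd N.index) (k : ℕ)
    (hk : Nat.Coprime k (Nat.card G)) (hk₂ : ∀ g : G, Odd (orderOf g) → g ^ k = g⁻¹)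
    {χ χ' : G → ℂ} (hχ : IsCharacter G χ) (hχ' : IsCharacter G χ')
    (hfix : ∀ g, χ (g ^ k) = χ g) (hfix' : ∀ g, χ' (g ^ k) = χ' g) :
    ∃ z : ℕ, classInner (fun n : N => χ n) (fun n : N => χ' n)
      = classInner χ χ' + 2 * (z : ℂ) := by
  obtain ⟨z, hz⟩ := parity hN hidx k hk hk₂ (isCharacter_mul hχ (isCharacter_conj hχ'))
    (fun g => by simp only [Pi.mul_apply]; rw [hfix, hfix'])
  refine ⟨z, ?_⟩
  have h1 : classInner (fun n : N => (χ * fun g => conj (χ' g)) n) (fun _ => 1)
      = classInner (fun n : N => χ n) (fun n : N => χ' n) := by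
    unfold classInner; simp
  have h2 : classInner (χ * fun g => conj (χ' g)) (fun _ => 1) = classInner χ χ' := by
    unfold classInner; simp
  rw [← h1, ← h2]
  exact hz

/-- At most one irreducible character over `θ` is fixed by the twist. -/
theorem unique_fixed [Fintype N] (hN : N.Normal) (hidx : Odd N.index) (k : ℕ)
    (hk : Nat.Coprime k (Nat.card G)) (hk₂ : ∀ g : G, Odd (orderOf g) → g ^ k = g⁻¹)
    {θ : N → ℂ} (hθ : IsIrrCharacter N θ) {χ χ' : G → ℂ} (hχ : IsIrrCharacter G χ)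
    (hχ' : IsIrrCharacter G χ') (hc : classInner (fun n : N => χ n) θ ≠ 0)
    (hc' : classInner (fun n : N => χ' n) θ ≠ 0)
    (hfix : ∀ g, χ (g ^ k) = χ g) (hfix' : ∀ g, χ' (g ^ k) = χ' g) : χ = χ' := by
  by_contra hne
  have hχc := isCharacter_of_isIrrCharacter hχ
  have hχc' := isCharacter_of_isIrrCharacter hχ'
  have h1 := clifford hN hχ hθ hc
  have h2 := clifford hN hχ' hθ hc'
  obtain ⟨a, ha⟩ := isCharacter_classInner_nat (isCharacter_restrict hχc N) hθ
  obtain ⟨a', ha'⟩ := isCharacter_classInner_nat (isCharacter_restrict hχc' N) hθ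
  rw [ha] at h1
  rw [ha'] at h2
  generalize (∑ᶠ ψ ∈ {ψ : N → ℂ | ∃ g : G, ψ = cjF hN θ g}, ψ) = S at h1 h2
  obtain ⟨z1, hz1⟩ := parity_pair hN hidx k hk hk₂ hχc hχc hfix hfix
  obtain ⟨z2, hz2⟩ := parity_pair hN hidx k hk hk₂ hχc' hχc' hfix' hfix'
  obtain ⟨z3, hz3⟩ := parity_pair hN hidx k hk hk₂ hχc hχc' hfix hfix'
  rw [classInner_irr_self hχ, h1, classInner_smul_left, classInner_smul_right,
    Complex.conj_natCast] at hz1
  rw [classInner_irr_self hχ', h2, classInner_smul_left, classInner_smul_right,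
    Complex.conj_natCast] at hz2
  rw [classInner_irr_ne hχ hχ' hne, h1, h2, classInner_smul_left, classInner_smul_right,
    Complex.conj_natCast] at hz3
  have h3 : ((0 + 2 * (z3 : ℂ)) * (0 + 2 * (z3 : ℂ))) = (1 + 2 * (z1 : ℂ)) * (1 + 2 * (z2 : ℂ)) := by
    rw [← hz1, ← hz2, ← hz3]; ring
  have h4 : (0 + 2 * z3) * (0 + 2 * z3) = (1 + 2 * z1) * (1 + 2 * z2) := by exact_mod_cast h3
  have h5 : 2 * (z3 * (2 * z3)) = 2 * (z1 + z2 + 2 * (z1 * z2)) + 1 := by
    have e1 : (0 + 2 * z3) * (0 + 2 * z3) = 2 * (z3 * (2 * z3)) := by ring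
    have e2 : (1 + 2 * z1) * (1 + 2 * z2) = 2 * (z1 + z2 + 2 * (z1 * z2)) + 1 := by ring
    rw [← e1, ← e2]; exact h4
  omega

end

end Cfsg.Agent.Lib.Helper21.GalOdd
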