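import Mathlib

set_option autoImplicit false

namespace Cfsg.Agent.Lib.Helper21

/-- Automorphisms permute the elements of order two. -/
def autInvPerm (H : Type*) [Group H] : MulAut H →* Equiv.Perm {z : H // orderOf z = 2} where
  toFun φ := (φ.toEquiv).subtypeEquiv (fun a => by
    show orderOf a = 2 ↔ orderOf (φ a) = 2
    rw [MulEquiv.orderOf_eq])
  map_one' := by ext; rfl
  map_mul' := fun _ _ => by ext; rfl

theorem autInvPerm_apply {H : Type*} [Group H] (φ : MulAut H) (z : {z : H // orderOf z = 2}) :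
    ((autInvPerm H φ z : {z : H // orderOf z = 2}) : H) = φ z := rfl

theorem aut_eq_one_of_fix_involutions {H : Type*} [Group H] (hc : ∀ a b : H, a * b = b * a)
    (hH : IsPGroup 2 H) (φ : MulAut H) (n : ℕ) (hn : Odd n) (hφn : φ ^ n = 1)
    (hfix : ∀ z : H, orderOf z = 2 → φ z = z) : φ = 1 := by
  have key : ∀ k : ℕ, ∀ x : H, x ^ (2 ^ k) = 1 → φ x = x := by
    intro k
    induction k with
    | zero =>
      intro x hx
      simp only [pow_zero, pow_one] at hx
      rw [hx, map_one]
    | succ k ih =>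
      intro x hx
      have h2 : φ (x ^ 2) = x ^ 2 := ih (x ^ 2) (by rw [← pow_mul, ← pow_succ']; exact hx)
      set z := φ x * x⁻¹ with hz
      have hz2 : z ^ 2 = 1 := by
        rw [hz, (show Commute (φ x) x⁻¹ from hc _ _).mul_pow, ← map_pow, h2, inv_pow, mul_inv_cancel]
      have hφz : φ z = z := by
        by_cases hz1 : z = 1
        · rw [hz1, map_one]
        · exact hfix z (orderOf_eq_prime hz2 hz1)
      have hφx : φ x = x * z := by
        rw [hz, hc (φ x) x⁻¹, mul_inv_cancel_left]
      have hpow : ∀ j : ℕ, (φ ^ j) x = x * z ^ j := by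
        intro j
        induction j with
        | zero => simp
        | succ j ihj =>
          rw [pow_succ', MulAut.mul_apply, ihj, map_mul, map_pow, hφz, hφx, pow_succ', mul_assoc]
      have h3 : x = x * z ^ n := by
        rw [← hpow n, hφn]; rfl
      have h4 : z ^ n = 1 := by
        have := h3.symm
        rwa [mul_eq_left] at this
      obtain ⟨m, rfl⟩ := hn
      rw [pow_succ, pow_mul, hz2, one_pow, one_mul] at h4
      rw [hφx, h4, mul_one]
  ext x
  obtain ⟨k, hk⟩ := hH x
  exact key k x hk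

theorem perm_three_eq_one {I : Type*} (hI : Nat.card I = 3) (σ : Equiv.Perm I)
    (h3 : σ ^ 3 = 1) (t : I) (ht : σ t = t) : σ = 1 := by
  haveI : Finite I := Nat.finite_of_card_ne_zero (by omega)
  have e : I ≃ Fin 3 := Finite.equivFinOfCardEq hI
  have key : ∀ τ : Equiv.Perm (Fin 3), τ ^ 3 = 1 → ∀ i, τ i = i → τ = 1 := by decide
  have h := key (e.permCongrHom σ) (by rw [← map_pow, h3, map_one]) (e t) (by
    simp [Equiv.permCongrHom, ht])
  exact e.permCongrHom.injective (by rw [h, map_one])

theorem perm_three_transitive {I : Type*} (hI : Nat.card I = 3) (σ : Equiv.Perm I)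
    (h3 : σ ^ 3 = 1) (h1 : σ ≠ 1) (s t : I) : ∃ k : ℕ, (σ ^ k) s = t := by
  haveI : Finite I := Nat.finite_of_card_ne_zero (by omega)
  have e : I ≃ Fin 3 := Finite.equivFinOfCardEq hI
  have key : ∀ τ : Equiv.Perm (Fin 3), τ ^ 3 = 1 → τ ≠ 1 → ∀ i j, ∃ k : Fin 3, (τ ^ (k : ℕ)) i = j := by
    decide
  obtain ⟨k, hk⟩ := key (e.permCongrHom σ) (by rw [← map_pow, h3, map_one])
    (fun h => h1 (e.permCongrHom.injective (by rw [h, map_one]))) (e s) (e t)
  refine ⟨k, ?_⟩
  rw [← map_pow] at hk
  simpa [Equiv.permCongrHom] using hk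


theorem zmod_two_nsmul_eq_zero (m : ℕ) (hm : 1 ≤ m) (x : ZMod (2 ^ m)) :
    2 • x = 0 ↔ x = 0 ∨ x = ((2 ^ (m - 1) : ℕ) : ZMod (2 ^ m)) := by
  obtain ⟨k, rfl⟩ : ∃ k, m = k + 1 := ⟨m - 1, by omega⟩
  simp only [Nat.add_sub_cancel]
  constructor
  · intro h
    have hx : ((2 * x.val : ℕ) : ZMod (2 ^ (k + 1))) = 0 := by
      rw [Nat.cast_mul, ZMod.natCast_zmod_val]
      simpa [two_mul, two_nsmul] using h
    rw [ZMod.natCast_eq_zero_iff] at hx
    have hx' : 2 * 2 ^ k ∣ 2 * x.val := by rw [← pow_succ']; exact hx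
    have hd : 2 ^ k ∣ x.val := Nat.dvd_of_mul_dvd_mul_left (by norm_num) hx'
    obtain ⟨c, hc⟩ := hd
    have hlt : x.val < 2 ^ k * 2 := by rw [← pow_succ]; exact ZMod.val_lt x
    rw [hc] at hlt
    have hc2 : c < 2 := by
      by_contra hcon
      have : 2 ^ k * 2 ≤ 2 ^ k * c := Nat.mul_le_mul_left _ (not_lt.1 hcon)
      omega
    have hxv : x = ((x.val : ℕ) : ZMod (2 ^ (k + 1))) := (ZMod.natCast_zmod_val x).symm
    interval_cases c
    · left
      rw [hxv, hc]; simp
    · right
      rw [hxv, hc]; simp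
  · rintro (rfl | rfl)
    · simp
    · rw [← Nat.cast_smul_eq_nsmul (ZMod (2 ^ (k + 1))), smul_eq_mul, ← Nat.cast_mul, ← pow_succ']
      exact ZMod.natCast_self _

theorem zmod_half_ne_zero (m : ℕ) (hm : 1 ≤ m) : ((2 ^ (m - 1) : ℕ) : ZMod (2 ^ m)) ≠ 0 := by
  rw [Ne, ZMod.natCast_eq_zero_iff]
  intro h
  have := Nat.le_of_dvd (by positivity) h
  have h2 : 2 ^ (m - 1) < 2 ^ m := Nat.pow_lt_pow_right (by norm_num) (by omega)
  omega

theorem card_involutions_homocyclic (m : ℕ) (hm : 1 ≤ m) :
    Nat.card {w : Multiplicative (ZMod (2 ^ m) × ZMod (2 ^ m)) // orderOf w = 2} = 3 := by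
  set t : ZMod (2 ^ m) := ((2 ^ (m - 1) : ℕ) : ZMod (2 ^ m)) with ht
  have ht0 : t ≠ 0 := zmod_half_ne_zero m hm
  have hset : {w : Multiplicative (ZMod (2 ^ m) × ZMod (2 ^ m)) | orderOf w = 2} =
      {Multiplicative.ofAdd (t, 0), Multiplicative.ofAdd (0, t), Multiplicative.ofAdd (t, t)} := by
    ext w
    obtain ⟨⟨a, b⟩, rfl⟩ := Multiplicative.ofAdd.surjective w
    simp only [Set.mem_ofPred_eq, Set.mem_insert_iff, Set.mem_singleton_iff,
      EmbeddingLike.apply_eq_iff_eq, Prod.mk.injEq]
    rw [orderOf_eq_prime_iff, ← ofAdd_nsmul, ← ofAdd_zero, EmbeddingLike.apply_eq_iff_eq, Ne,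
      EmbeddingLike.apply_eq_iff_eq, Prod.smul_mk, Prod.mk_eq_zero, Prod.mk_eq_zero,
      zmod_two_nsmul_eq_zero m hm, zmod_two_nsmul_eq_zero m hm, ← ht]
    constructor
    · rintro ⟨⟨rfl | rfl, rfl | rfl⟩, h⟩ <;> simp_all
    · rintro (⟨rfl, rfl⟩ | ⟨rfl, rfl⟩ | ⟨rfl, rfl⟩) <;> simp_all
  have h1 : Nat.card {w : Multiplicative (ZMod (2 ^ m) × ZMod (2 ^ m)) // orderOf w = 2} =
      Set.ncard {w : Multiplicative (ZMod (2 ^ m) × ZMod (2 ^ m)) | orderOf w = 2} :=
    Nat.card_coe_set_eq _
  rw [h1, hset, Set.ncard_insert_of_notMem, Set.ncard_pair]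
  · simp [ht0.symm]
  · simp [ht0, ht0.symm]


/-- The normalizer of `H` permutes the elements of order two of `H`. -/
def normInvPerm {G : Type*} [Group G] (H : Subgroup G) :
    Subgroup.normalizer (H : Set G) →* Equiv.Perm {z : H // orderOf z = 2} :=
  (autInvPerm H).comp H.normalizerMonoidHom

theorem normInvPerm_apply {G : Type*} [Group G] (H : Subgroup G)
    (g : Subgroup.normalizer (H : Set G)) (z : {z : H // orderOf z = 2}) :
    (((normInvPerm H g z : {z : H // orderOf z = 2}) : H) : G) = g * z * (g : G)⁻¹ := rfl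

section homocyclic

variable {G : Type*} [Group G] [Finite G] (P : Sylow 2 G) (m : ℕ) (hm : 1 ≤ m)
  (e : (P : Subgroup G) ≃* Multiplicative (ZMod (2 ^ m) × ZMod (2 ^ m)))

include e in
theorem homocyclic_comm (a b : (P : Subgroup G)) : a * b = b * a := by
  apply e.injective
  rw [map_mul, map_mul, mul_comm]

include hm e in
theorem homocyclic_card_inv : Nat.card {z : (P : Subgroup G) // orderOf z = 2} = 3 := by
  rw [← card_involutions_homocyclic m hm]
  exact Nat.card_congr (e.toEquiv.subtypeEquiv (fun a => by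
    show orderOf a = 2 ↔ orderOf (e a) = 2
    rw [MulEquiv.orderOf_eq]))

include e in
theorem homocyclic_le_centralizer :
    (P : Subgroup G) ≤ Subgroup.centralizer ((P : Subgroup G) : Set G) := by
  intro x hx y hy
  exact congrArg Subtype.val (homocyclic_comm P m e ⟨y, hy⟩ ⟨x, hx⟩)

include e in
theorem homocyclic_odd_relIndex :
    Odd ((Subgroup.centralizer ((P : Subgroup G) : Set G)).relIndex
      (Subgroup.normalizer ((P : Subgroup G) : Set G))) := by
  have h1 : (Subgroup.centralizer ((P : Subgroup G) : Set G)).relIndex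
      (Subgroup.normalizer ((P : Subgroup G) : Set G)) ∣ (P : Subgroup G).index :=
    (Subgroup.relIndex_dvd_of_le_left _ (homocyclic_le_centralizer P m e)).trans
      (Subgroup.relIndex_dvd_index_of_le Subgroup.le_normalizer)
  rw [← Nat.not_even_iff_odd, even_iff_two_dvd]
  intro h2
  exact P.not_dvd_index (h2.trans h1)

include e in
theorem homocyclic_ker :
    (normInvPerm (P : Subgroup G)).ker = (Subgroup.centralizer ((P : Subgroup G) : Set G)).subgroupOf
      (Subgroup.normalizer ((P : Subgroup G) : Set G)) := by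
  rw [← Subgroup.normalizerMonoidHom_ker]
  apply le_antisymm
  · intro g hg
    rw [MonoidHom.mem_ker] at hg ⊢
    apply aut_eq_one_of_fix_involutions (homocyclic_comm P m e) P.2 _ _
      (homocyclic_odd_relIndex P m e)
    · rw [← map_pow, ← MonoidHom.mem_ker, Subgroup.normalizerMonoidHom_ker]
      haveI : ((Subgroup.centralizer ((P : Subgroup G) : Set G)).subgroupOf
        (Subgroup.normalizer ((P : Subgroup G) : Set G))).Normal := by
        rw [← Subgroup.normalizerMonoidHom_ker]; infer_instance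
      exact Subgroup.pow_index_mem _ g
    · intro z hz
      have := congrArg (fun σ => ((σ ⟨z, hz⟩ : {z : (P : Subgroup G) // orderOf z = 2}) :
        (P : Subgroup G))) hg
      exact this
  · intro g hg
    rw [MonoidHom.mem_ker] at hg ⊢
    rw [normInvPerm, MonoidHom.comp_apply, hg, map_one]

include hm e in
theorem homocyclic_relIndex :
    (Subgroup.centralizer ((P : Subgroup G) : Set G)).relIndex
      (Subgroup.normalizer ((P : Subgroup G) : Set G)) = 1 ∨
    (Subgroup.centralizer ((P : Subgroup G) : Set G)).relIndex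
      (Subgroup.normalizer ((P : Subgroup G) : Set G)) = 3 := by
  classical
  have hodd := homocyclic_odd_relIndex P m e
  have hI := homocyclic_card_inv P m hm e
  haveI : Finite {z : (P : Subgroup G) // orderOf z = 2} := Nat.finite_of_card_ne_zero (by omega)
  have h1 : (Subgroup.centralizer ((P : Subgroup G) : Set G)).relIndex
      (Subgroup.normalizer ((P : Subgroup G) : Set G)) = Nat.card (normInvPerm (P : Subgroup G)).range := by
    rw [← Subgroup.index_ker, homocyclic_ker P m e]; rfl
  have h2 : Nat.card (normInvPerm (P : Subgroup G)).range ∣ 6 := by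
    have := Subgroup.card_subgroup_dvd_card (normInvPerm (P : Subgroup G)).range
    rwa [Nat.card_perm, hI] at this
  rw [← h1] at h2
  set n := (Subgroup.centralizer ((P : Subgroup G) : Set G)).relIndex
      (Subgroup.normalizer ((P : Subgroup G) : Set G)) with hn
  have hle : n ≤ 6 := Nat.le_of_dvd (by norm_num) h2
  interval_cases n <;> simp_all (decide := true)

include hm e in
theorem homocyclic_mem_centralizer_of_fix
    (h3 : (Subgroup.centralizer ((P : Subgroup G) : Set G)).relIndex
      (Subgroup.normalizer ((P : Subgroup G) : Set G)) = 3)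
    (g : G) (hg : g ∈ Subgroup.normalizer ((P : Subgroup G) : Set G))
    (t : G) (ht : t ∈ (P : Subgroup G)) (ht2 : orderOf t = 2) (hgt : g * t = t * g) :
    g ∈ Subgroup.centralizer ((P : Subgroup G) : Set G) := by
  have hI := homocyclic_card_inv P m hm e
  have hker := homocyclic_ker P m e
  haveI : ((Subgroup.centralizer ((P : Subgroup G) : Set G)).subgroupOf
      (Subgroup.normalizer ((P : Subgroup G) : Set G))).Normal := by
    rw [← Subgroup.normalizerMonoidHom_ker]; infer_instance
  have hcube : (normInvPerm (P : Subgroup G) ⟨g, hg⟩) ^ 3 = 1 := by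
    rw [← map_pow, ← MonoidHom.mem_ker, hker]
    have := Subgroup.pow_index_mem ((Subgroup.centralizer ((P : Subgroup G) : Set G)).subgroupOf
      (Subgroup.normalizer ((P : Subgroup G) : Set G))) ⟨g, hg⟩
    rwa [show ((Subgroup.centralizer ((P : Subgroup G) : Set G)).subgroupOf
      (Subgroup.normalizer ((P : Subgroup G) : Set G))).index = 3 from h3] at this
  have ht2' : orderOf (⟨t, ht⟩ : (P : Subgroup G)) = 2 := by
    rw [← Subgroup.orderOf_coe]; exact ht2
  have hfix : normInvPerm (P : Subgroup G) ⟨g, hg⟩ ⟨⟨t, ht⟩, ht2'⟩ = ⟨⟨t, ht⟩, ht2'⟩ := by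
    apply Subtype.ext
    apply Subtype.ext
    rw [normInvPerm_apply]
    show g * t * g⁻¹ = t
    rw [hgt, mul_inv_cancel_right]
  have h1 := perm_three_eq_one hI _ hcube _ hfix
  have h2 : (⟨g, hg⟩ : Subgroup.normalizer ((P : Subgroup G) : Set G)) ∈
      (normInvPerm (P : Subgroup G)).ker := h1
  rw [hker] at h2
  exact h2

include hm e in
theorem homocyclic_transitive
    (h3 : (Subgroup.centralizer ((P : Subgroup G) : Set G)).relIndex
      (Subgroup.normalizer ((P : Subgroup G) : Set G)) = 3)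
    (s t : G) (hs : s ∈ (P : Subgroup G)) (ht : t ∈ (P : Subgroup G))
    (hs2 : orderOf s = 2) (ht2 : orderOf t = 2) :
    ∃ g ∈ Subgroup.normalizer ((P : Subgroup G) : Set G), g * s * g⁻¹ = t := by
  have hI := homocyclic_card_inv P m hm e
  have hker := homocyclic_ker P m e
  haveI : ((Subgroup.centralizer ((P : Subgroup G) : Set G)).subgroupOf
      (Subgroup.normalizer ((P : Subgroup G) : Set G))).Normal := by
    rw [← Subgroup.normalizerMonoidHom_ker]; infer_instance
  have hex : ∃ g : Subgroup.normalizer ((P : Subgroup G) : Set G),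
      g ∉ (normInvPerm (P : Subgroup G)).ker := by
    by_contra hcon
    push Not at hcon
    have htop : (normInvPerm (P : Subgroup G)).ker = ⊤ := by
      rw [eq_top_iff]; intro g _; exact hcon g
    rw [hker] at htop
    have : ((Subgroup.centralizer ((P : Subgroup G) : Set G)).subgroupOf
      (Subgroup.normalizer ((P : Subgroup G) : Set G))).index = 3 := h3
    rw [htop, Subgroup.index_top] at this
    omega
  obtain ⟨g, hg⟩ := hex
  have hcube : (normInvPerm (P : Subgroup G) g) ^ 3 = 1 := by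
    rw [← map_pow, ← MonoidHom.mem_ker, hker]
    have := Subgroup.pow_index_mem ((Subgroup.centralizer ((P : Subgroup G) : Set G)).subgroupOf
      (Subgroup.normalizer ((P : Subgroup G) : Set G))) g
    rwa [show ((Subgroup.centralizer ((P : Subgroup G) : Set G)).subgroupOf
      (Subgroup.normalizer ((P : Subgroup G) : Set G))).index = 3 from h3] at this
  have hs2' : orderOf (⟨s, hs⟩ : (P : Subgroup G)) = 2 := by
    rw [← Subgroup.orderOf_coe]; exact hs2
  have ht2' : orderOf (⟨t, ht⟩ : (P : Subgroup G)) = 2 := by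
    rw [← Subgroup.orderOf_coe]; exact ht2
  obtain ⟨k, hk⟩ := perm_three_transitive hI _ hcube hg ⟨⟨s, hs⟩, hs2'⟩ ⟨⟨t, ht⟩, ht2'⟩
  rw [← map_pow] at hk
  refine ⟨(g ^ k : Subgroup.normalizer ((P : Subgroup G) : Set G)), (g ^ k).2, ?_⟩
  have := congrArg (fun z : {z : (P : Subgroup G) // orderOf z = 2} => ((z : (P : Subgroup G)) : G)) hk
  exact this

end homocyclic

end Cfsg.Agent.Lib.Helper21
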