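import Cfsg.Agent.Lib.Helper21.Induced
import Cfsg.Agent.Lib.Helper21.DefectCard
import Cfsg.Agent.Lib.Helper19.IndChar
import Cfsg.Agent.Lib.Helper5.IndDeg

set_option autoImplicit false
open Cfsg
open scoped ComplexConjugate
open Cfsg.Agent.Lib.Helper20 Cfsg.Agent.Lib.Helper81

namespace Cfsg.Agent.Lib.Helper21

variable {p : ℕ} {M : Ideal AlgInt}

/-- Valuation comparison from a local-ring factor. -/
theorem factorization_le_of_eq_mul (hM : IsPModular p M) {n t : ℕ} (hn : n ≠ 0) (ht : t ≠ 0)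
    {w : ℂ} (hw : MemLocalRing M w) (h : (n : ℂ) = t * w) :
    t.factorization p ≤ n.factorization p := by
  by_contra hcon
  push Not at hcon
  have hp0 : (p : ℂ) ≠ 0 := by exact_mod_cast hM.1.ne_zero
  set a := n.factorization p with ha
  have h1 : p ^ (a + 1) ∣ t := (hM.1.pow_dvd_iff_le_factorization ht).2 hcon
  obtain ⟨t', rfl⟩ := h1
  have h2 : p ^ a * (n / p ^ a) = n := Nat.ordProj_mul_ordCompl_eq_self n p
  have h3 : ¬ p ∣ n / p ^ a := Nat.not_dvd_ordCompl hM.1 hn
  apply h3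
  rw [← memLocalIdeal_natCast_iff hM]
  have h4 : ((n / p ^ a : ℕ) : ℂ) = (p : ℂ) * ((t' : ℂ) * w) := by
    have h5 : ((p ^ a * (n / p ^ a) : ℕ) : ℂ) = ((p ^ (a + 1) * t' : ℕ) : ℂ) * w := by rw [h2, h]
    push_cast at h5
    have h6 : (p : ℂ) ^ a ≠ 0 := pow_ne_zero _ hp0
    apply mul_left_cancel₀ h6
    rw [h5]; ring
  rw [h4]
  exact memLocalIdeal_mul_right hM (memLocalIdeal_p hM)
    (memLocalRing_mul hM (memLocalRing_natCast hM _) hw)

theorem factorization_lt_of_eq_mul (hM : IsPModular p M) {n t : ℕ} (hn : n ≠ 0) (ht : t ≠ 0)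
    {w : ℂ} (hw : MemLocalIdeal M w) (h : (n : ℂ) = t * w) :
    t.factorization p < n.factorization p := by
  by_contra hcon
  push Not at hcon
  have hp0 : (p : ℂ) ≠ 0 := by exact_mod_cast hM.1.ne_zero
  set a := n.factorization p with ha
  have h1 : p ^ a ∣ t := (hM.1.pow_dvd_iff_le_factorization ht).2 hcon
  obtain ⟨t', rfl⟩ := h1
  have h2 : p ^ a * (n / p ^ a) = n := Nat.ordProj_mul_ordCompl_eq_self n p
  have h3 : ¬ p ∣ n / p ^ a := Nat.not_dvd_ordCompl hM.1 hn
  apply h3
  rw [← memLocalIdeal_natCast_iff hM]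
  have h4 : ((n / p ^ a : ℕ) : ℂ) = (t' : ℂ) * w := by
    have h5 : ((p ^ a * (n / p ^ a) : ℕ) : ℂ) = ((p ^ a * t' : ℕ) : ℂ) * w := by rw [h2, h]
    push_cast at h5
    have h6 : (p : ℂ) ^ a ≠ 0 := pow_ne_zero _ hp0
    apply mul_left_cancel₀ h6
    rw [h5]; ring
  rw [h4]
  exact memLocalIdeal_mul_left hM (memLocalRing_natCast hM _) hw

theorem factorization_eq_of_eq_mul (hM : IsPModular p M) {n t : ℕ} (ht : t ≠ 0)
    {w : ℂ} (hw : MemLocalRing M w) (hw' : ¬ MemLocalIdeal M w) (h : (n : ℂ) = t * w) :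
    n ≠ 0 ∧ n.factorization p = t.factorization p := by
  have hw0 : w ≠ 0 := ne_zero_of_not_memLocalIdeal hM hw'
  have hn : n ≠ 0 := by
    rintro rfl
    have ht' : (t : ℂ) ≠ 0 := by exact_mod_cast ht
    exact mul_ne_zero ht' hw0 (by rw [← h]; simp)
  refine ⟨hn, le_antisymm ?_ (factorization_le_of_eq_mul hM hn ht hw h)⟩
  apply factorization_le_of_eq_mul hM ht hn (memLocalRing_inv hw hw')
  rw [h]; field_simp

variable {G : Type*} [Group G] [Fintype G]

/-- The degree of the `B`-part of an induced function, via the block idempotent. -/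
theorem blockPart_indFun_one (H : Subgroup G) [Fintype H] (ξ : H → ℂ) (hξ : ξ 1 ≠ 0)
    (B : Set (IrrCharacter G)) :
    blockPart B (indFun H ξ) 1
      = (H.index : ℂ) * ξ 1 * omega ξ (fun h : H => blockCoeff B (h : G)) := by
  classical
  haveI : Finite (IrrCharacter G) := finite_irrCharacter
  haveI : Fintype (IrrCharacter G) := Fintype.ofFinite _
  have hH : (Nat.card H : ℂ) ≠ 0 := by exact_mod_cast Nat.card_pos.ne'
  have hG : (Nat.card G : ℂ) ≠ 0 := by exact_mod_cast Nat.card_pos.ne'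
  have hidx : (H.index : ℂ) = (Nat.card G : ℂ) / (Nat.card H : ℂ) := by
    rw [eq_div_iff hH]
    exact_mod_cast H.index_mul_card
  simp only [blockPart]
  rw [Subsingleton.elim (Fintype.ofFinite G) ‹Fintype G›]
  simp only [finsum_mem_irr, omega, blockCoeff]
  have h1 : ∀ χ : IrrCharacter G, classInner (indFun H ξ) (χ : G → ℂ)
      = (Nat.card H : ℂ)⁻¹ * ∑ h : H, ξ h * conj ((χ : G → ℂ) h) := by
    intro χ
    rw [Cfsg.Agent.Lib.Helper19.frobenius_reciprocity H ξ _ (irr_classFunction χ)]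
    rfl
  simp only [h1]
  rw [hidx]
  have h2 : ∀ h : H, ((Nat.card G : ℂ)⁻¹ * ∑ χ : IrrCharacter G,
      if χ ∈ B then (χ : G → ℂ) 1 * conj ((χ : G → ℂ) h) else 0) * ξ h / ξ 1
      = (Nat.card G : ℂ)⁻¹ * (ξ 1)⁻¹ * ∑ χ : IrrCharacter G,
        if χ ∈ B then ξ h * conj ((χ : G → ℂ) h) * (χ : G → ℂ) 1 else 0 := by
    intro h
    rw [Finset.mul_sum, Finset.mul_sum, Finset.sum_mul, Finset.sum_div]
    apply Finset.sum_congr rfl
    intro χ _
    split_ifs
    · field_simp
    · simp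
  simp only [h2]
  rw [← Finset.mul_sum, Finset.sum_comm]
  have h3 : (Nat.card G : ℂ) / (Nat.card H : ℂ) * ξ 1 * ((Nat.card G : ℂ)⁻¹ * (ξ 1)⁻¹ *
      ∑ χ : IrrCharacter G, ∑ h : H,
        if χ ∈ B then ξ h * conj ((χ : G → ℂ) h) * (χ : G → ℂ) 1 else 0)
      = (Nat.card H : ℂ)⁻¹ * ∑ χ : IrrCharacter G, ∑ h : H,
        if χ ∈ B then ξ h * conj ((χ : G → ℂ) h) * (χ : G → ℂ) 1 else 0 := by
    field_simp
  rw [h3, Finset.mul_sum]
  apply Finset.sum_congr rfl
  intro χ _
  split_ifs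
  · rw [mul_assoc, Finset.sum_mul]
  · simp

/-- The degree of the `B`-part of a character is a natural number. -/
theorem blockPart_one_nat {ϑ : G → ℂ} (hϑ : IsCharacter G ϑ) (B : Set (IrrCharacter G)) :
    ∃ n : ℕ, blockPart B ϑ 1 = (n : ℂ) := by
  classical
  haveI : Finite (IrrCharacter G) := finite_irrCharacter
  haveI : Fintype (IrrCharacter G) := Fintype.ofFinite _
  simp only [blockPart]
  rw [Subsingleton.elim (Fintype.ofFinite G) ‹Fintype G›]
  simp only [finsum_mem_irr]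
  have h1 : ∀ χ : IrrCharacter G, ∃ n : ℕ, classInner ϑ (χ : G → ℂ) = n :=
    fun χ => isCharacter_classInner_nat hϑ χ.2
  choose m hm using h1
  refine ⟨∑ χ : IrrCharacter G, if χ ∈ B then m χ * charDegree (χ : G → ℂ) else 0, ?_⟩
  push_cast
  apply Finset.sum_congr rfl
  intro χ _
  split_ifs
  · rw [hm, irr_one_eq_charDegree]
  · rfl

theorem blockPart_one_eq_sum [Fintype (IrrCharacter G)] (B : Set (IrrCharacter G))
    [DecidablePred (· ∈ B)] (ϑ : G → ℂ) (m : IrrCharacter G → ℕ)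
    (hm : ∀ χ : IrrCharacter G, classInner ϑ (χ : G → ℂ) = m χ) :
    blockPart B ϑ 1
      = ((∑ χ : IrrCharacter G, if χ ∈ B then m χ * charDegree (χ : G → ℂ) else 0 : ℕ) : ℂ) := by
  simp only [blockPart]
  rw [Subsingleton.elim (Fintype.ofFinite G) ‹Fintype G›]
  simp only [finsum_mem_irr]
  push_cast
  apply Finset.sum_congr rfl
  intro χ _
  split_ifs
  · rw [hm, irr_one_eq_charDegree]
  · rfl

theorem charDegree_indFun (H : Subgroup G) (ξ : IrrCharacter H) :
    charDegree (indFun H (ξ : H → ℂ)) = H.index * charDegree (ξ : H → ℂ) := by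
  have h : indFun H (ξ : H → ℂ) 1 = ((H.index * charDegree (ξ : H → ℂ) : ℕ) : ℂ) := by
    rw [Cfsg.Agent.Lib.Helper5.indFun_one, irr_one_eq_charDegree]; push_cast; ring
  rw [charDegree, h, Complex.natCast_re, Nat.floor_natCast]

theorem charDegree_ne_zero {K : Type*} [Group K] [Finite K] (ξ : IrrCharacter K) :
    charDegree (ξ : K → ℂ) ≠ 0 := by
  intro h
  have := irr_one_eq_charDegree ξ
  rw [h] at this
  exact irr_one_ne_zero ξ.2 (by simpa using this)

/-- The `p`-part of the degree of the block parts of a character induced from a block whose induced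
block is defined. -/
theorem blockPart_indFun_of_induced (hM : IsPModular p M) {H : Subgroup G} [Fintype H]
    {b : Set (IrrCharacter H)} {B₀ : Set (IrrCharacter G)} (hind : IsInducedBlock M H b B₀)
    {ξ : IrrCharacter H} (hξ : ξ ∈ b) (B : Set (IrrCharacter G)) (hB : IsPBlock M B) :
    ∃ n : ℕ, blockPart B (indFun H (ξ : H → ℂ)) 1 = (n : ℂ) ∧
      (B = B₀ → n ≠ 0 ∧ n.factorization p
        = (charDegree (indFun H (ξ : H → ℂ))).factorization p) ∧
      (B ≠ B₀ → n = 0 ∨ (charDegree (indFun H (ξ : H → ℂ))).factorization p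
        < n.factorization p) := by
  classical
  obtain ⟨n, hn⟩ := blockPart_one_nat
    (Cfsg.Agent.Lib.Helper19.isCharacter_indFun H _ (isCharacter_of_isIrrCharacter ξ.2)) B
  refine ⟨n, hn, ?_, ?_⟩
  all_goals
    obtain ⟨χ, hχ⟩ : B₀.Nonempty := by
      obtain ⟨χ, rfl⟩ := hind.2.1
      exact ⟨χ, mem_blockOf_self hM χ⟩
    have key := omega_res_sub_omega_of_induced hM hind hξ hχ (blockCoeff_classFunction B)
      (osima hM B hB)
    rw [omega_blockCoeff] at key
    have hform := blockPart_indFun_one H (ξ : H → ℂ) (irr_one_ne_zero ξ.2) B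
    rw [hn, irr_one_eq_charDegree] at hform
    have hform' : (n : ℂ) = ((charDegree (indFun H (ξ : H → ℂ)) : ℕ) : ℂ)
        * omega (ξ : H → ℂ) (fun h : H => blockCoeff B (h : G)) := by
      rw [hform, charDegree_indFun]; push_cast; ring
    have ht : charDegree (indFun H (ξ : H → ℂ)) ≠ 0 := by
      rw [charDegree_indFun]
      exact mul_ne_zero H.index_ne_zero_of_finite (charDegree_ne_zero ξ)
  · rintro rfl
    rw [if_pos hχ] at key
    have hR : MemLocalRing M (omega (ξ : H → ℂ) (fun h : H => blockCoeff B (h : G))) :=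
      memLocalRing_of_sub hM key (memLocalRing_one hM)
    have hU : ¬ MemLocalIdeal M (omega (ξ : H → ℂ) (fun h : H => blockCoeff B (h : G))) := by
      intro hc
      apply not_memLocalIdeal_one hM
      have := memLocalIdeal_sub hM hc key
      simpa using this
    exact factorization_eq_of_eq_mul hM ht hR hU hform'
  · intro hne
    have hχB : χ ∉ B := by
      intro hc
      apply hne
      rw [isPBlock_eq_blockOf hM hB hc, isPBlock_eq_blockOf hM hind.2.1 hχ]
    rw [if_neg hχB, sub_zero] at key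
    by_cases h0 : n = 0
    · exact Or.inl h0
    · exact Or.inr (factorization_lt_of_eq_mul hM h0 ht key hform')

end Cfsg.Agent.Lib.Helper21
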