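import Cfsg.Agent.Lib.Helper21.DefectBasic
import Cfsg.Agent.Lib.Helper20.BrauerMap

set_option autoImplicit false
open Cfsg
open scoped ComplexConjugate
open Cfsg.Agent.Lib.Helper20 Cfsg.Agent.Lib.Helper81

namespace Cfsg.Agent.Lib.Helper21

variable {G : Type*} [Group G] [Fintype G] {p : ℕ} {M : Ideal AlgInt}

/-- The central character of `ξ` on the restriction of a class function of `G`, class by class. -/
theorem omega_res_eq_sum_classes [Fintype (ConjClasses G)] (H : Subgroup G) [Fintype H]
    (ξ : H → ℂ) {z : G → ℂ} (hz : IsClassFunction G z) :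
    omega ξ (fun h : H => z (h : G))
      = ∑ C : ConjClasses G, z (Quotient.out C) * inducedCentralChar H ξ (Quotient.out C) := by
  classical
  simp only [inducedCentralChar_eq_omega, omega]
  simp only [Finset.mul_sum]
  rw [Finset.sum_comm]
  apply Finset.sum_congr rfl
  intro h _
  rw [Finset.sum_eq_single (ConjClasses.mk (h : G))]
  · rw [classInd_pos (isConj_out (h : G)), classFunction_isConj hz (isConj_out (h : G))]
    ring
  · intro C _ hC
    rw [classInd_neg]
    · ring
    · intro hc
      apply hC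
      rw [← ConjClasses.mk_eq_mk_iff_isConj] at hc
      rw [← hc]
      exact (Quotient.out_eq C).symm
  · intro h1; exact absurd (Finset.mem_univ _) h1

/-- If `b` induces `B`, the central character of `b` on restrictions agrees with that of `B`. -/
theorem omega_res_sub_omega_of_induced (hM : IsPModular p M) {H : Subgroup G} [Fintype H]
    {b : Set (IrrCharacter H)} {B : Set (IrrCharacter G)} (hind : IsInducedBlock M H b B)
    {ξ : IrrCharacter H} (hξ : ξ ∈ b) {χ : IrrCharacter G} (hχ : χ ∈ B)
    {z : G → ℂ} (hz : IsClassFunction G z) (hzR : ∀ g, MemLocalRing M (z g)) :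
    MemLocalIdeal M (omega (ξ : H → ℂ) (fun h : H => z (h : G)) - omega (χ : G → ℂ) z) := by
  classical
  haveI : Fintype (ConjClasses G) := Fintype.ofFinite _
  rw [omega_res_eq_sum_classes H _ hz, omega_eq_sum_classes (irr_classFunction χ) hz,
    ← Finset.sum_sub_distrib]
  apply memLocalIdeal_sum hM
  intro C _
  rw [← mul_sub]
  exact memLocalIdeal_mul_left hM (hzR _) (hind.2.2 ξ hξ χ hχ _)

omit [Fintype G] in
theorem isDefectGroup_iff {B : Set (IrrCharacter G)} {D : Subgroup G} :
    IsDefectGroup p M B D ↔ ∃ g : G, IsDefectClass M B g ∧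
      SylowIn p (Subgroup.centralizer ({g} : Set G)) D := by
  constructor
  · rintro ⟨g, hg, S, rfl⟩
    exact ⟨g, hg, S, rfl⟩
  · rintro ⟨g, hg, S, rfl⟩
    exact ⟨g, hg, S, rfl⟩

/-- Conjugates of defect groups are defect groups. -/
theorem isDefectGroup_conj {B : Set (IrrCharacter G)} {D : Subgroup G}
    (hD : IsDefectGroup p M B D) (x : G) :
    IsDefectGroup p M B (D.map (MulAut.conj x).toMonoidHom) := by
  rw [isDefectGroup_iff] at hD ⊢
  obtain ⟨g, hg, hS⟩ := hD
  refine ⟨x * g * x⁻¹, isDefectClass_conj (isConj_iff.2 ⟨x, rfl⟩) hg, ?_⟩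
  rw [centralizer_singleton_conj]
  exact hS.map_conj x

theorem exists_isDefectGroup [Fact p.Prime] (hM : IsPModular p M) (B : Set (IrrCharacter G))
    (hB : IsPBlock M B) : ∃ D, IsDefectGroup p M B D := by
  obtain ⟨g, hg⟩ := exists_defectClass hM B hB
  obtain ⟨S⟩ : Nonempty (Sylow p (Subgroup.centralizer ({g} : Set G))) := inferInstance
  exact ⟨_, g, hg, S, rfl⟩

/-- If `b` induces `B`, every defect group of `b` lies in a defect group of `B`. -/
theorem defectGroup_le_of_induced [Fact p.Prime] (hM : IsPModular p M) {H : Subgroup G}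
    {b : Set (IrrCharacter H)} {B : Set (IrrCharacter G)} (hind : IsInducedBlock M H b B)
    (D : Subgroup H) (hD : IsDefectGroup p M b D) :
    ∃ E : Subgroup G, IsDefectGroup p M B E ∧ D.map H.subtype ≤ E := by
  classical
  haveI : Fintype H := Fintype.ofFinite _
  haveI : Fintype (ConjClasses H) := Fintype.ofFinite _
  have hb := hind.1
  have hB := hind.2.1
  obtain ⟨ξ, hξ⟩ := isPBlock_nonempty hM hb
  obtain ⟨χ, hχ⟩ := isPBlock_nonempty hM hB
  have h1 := omega_res_sub_omega_of_induced hM hind hξ hχ (blockCoeff_classFunction B)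
    (osima hM B hB)
  rw [omega_blockCoeff, if_pos hχ] at h1
  have h2 : ¬ MemLocalIdeal M (omega (ξ : H → ℂ) (fun h : H => blockCoeff B (h : G))) := by
    intro h3
    apply not_memLocalIdeal_one hM
    have := memLocalIdeal_sub hM h3 h1
    rwa [sub_sub_cancel] at this
  rw [omega_eq_sum_classes (irr_classFunction ξ)
    (res_classFunction H (blockCoeff_classFunction B))] at h2
  have h3 : ∃ l : H, ¬ MemLocalIdeal M (blockCoeff B (l : G)) ∧
      ¬ MemLocalIdeal M (centralChar (ξ : H → ℂ) l) := by
    by_contra hcon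
    push Not at hcon
    apply h2
    apply memLocalIdeal_sum hM
    intro C _
    by_cases h4 : MemLocalIdeal M (blockCoeff B ((Quotient.out C : H) : G))
    · exact memLocalIdeal_mul_right hM h4 (centralChar_memLocalRing hM ξ _)
    · exact memLocalIdeal_mul_left hM (osima hM B hB _) (hcon _ h4)
  obtain ⟨l, hl1, hl2⟩ := h3
  rw [isDefectGroup_iff] at hD
  obtain ⟨k, hk, hDk⟩ := hD
  obtain ⟨x, hx⟩ := exists_map_conj_le_centralizer hM b hb l k
    (centralChar_unit_of_exists hM b hb l ⟨ξ, hξ, hl2⟩) hk.2.1 D hDk.isPGroup hDk.le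
  obtain ⟨E0, hE0⟩ := exists_isDefectGroup hM B hB
  have hE0' := hE0
  rw [isDefectGroup_iff] at hE0'
  obtain ⟨g, hg, hE0g⟩ := hE0'
  obtain ⟨y, hy⟩ := minmax_le_conj hM B hB g (l : G) hg.2.2 hl1 E0 hE0g
    ((D.map (MulAut.conj x).toMonoidHom).map H.subtype) ((hDk.isPGroup.map _).map _) (by
      rintro _ ⟨u, hu, rfl⟩
      have := hx hu
      rw [Subgroup.mem_centralizer_singleton_iff] at this ⊢
      exact congrArg Subtype.val this)
  refine ⟨E0.map (MulAut.conj (y * x)⁻¹).toMonoidHom, isDefectGroup_conj hE0 _, ?_⟩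
  rw [le_map_conj_iff, inv_inv]
  rintro _ ⟨_, ⟨u, hu, rfl⟩, rfl⟩
  apply hy
  refine ⟨x * u * x⁻¹, ⟨x * u * x⁻¹, ⟨u, hu, rfl⟩, rfl⟩, ?_⟩
  simp [mul_assoc]

/-- A class function which is idempotent modulo the local ideal and has a unit coefficient is
detected by some central character. -/
theorem exists_irr_omega_unit_of_idem (hM : IsPModular p M) (y : G → ℂ) (hy : IsClassFunction G y)
    (hyR : ∀ g, MemLocalRing M (y g)) (hidem : ∀ g, MemLocalIdeal M (conv y y g - y g))
    (g₀ : G) (hg₀ : ¬ MemLocalIdeal M (y g₀)) :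
    ∃ ξ : IrrCharacter G, ¬ MemLocalIdeal M (omega (ξ : G → ℂ) y) := by
  classical
  haveI : Finite (IrrCharacter G) := finite_irrCharacter
  haveI : Fintype (IrrCharacter G) := Fintype.ofFinite _
  by_contra hcon
  push Not at hcon
  set f := zmk hM y hy hyR with hf
  have h1 := pow_mem_ZM hM f hcon
  have h2 : f * f - f ∈ ZM G hM := by
    intro g
    have h3 : zrep hM (f * f - f) = conv y y - y := by
      apply zrep_eq
      · intro a c
        simp only [Pi.sub_apply]
        rw [conv_classFunction hy hy, hy]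
      · intro χ
        rw [omega_sub, omega_conv χ.2 _ _ hy]
        rfl
    rw [h3]
    exact hidem g
  have h4 : IsIdempotentElem (Ideal.Quotient.mk (ZM G hM) f) := by
    show _ * _ = _
    rw [← map_mul, ← sub_eq_zero, ← map_sub, Ideal.Quotient.eq_zero_iff_mem]
    exact h2
  have hcard : 0 < Fintype.card (IrrCharacter G) := by
    have : Nonempty (IrrCharacter G) := by
      by_contra hne
      rw [not_nonempty_iff] at hne
      have h5 : y = 0 := eq_zero_of_omega_eq_zero hy (fun χ => (hne.false χ).elim)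
      apply hg₀
      rw [h5]
      exact memLocalIdeal_zero hM
    exact Fintype.card_pos
  obtain ⟨n, hn⟩ : ∃ n, Fintype.card (IrrCharacter G) = n + 1 := ⟨_, (Nat.succ_pred_eq_of_pos hcard).symm⟩
  rw [hn, ← Ideal.Quotient.eq_zero_iff_mem, map_pow, h4.pow_succ_eq,
    Ideal.Quotient.eq_zero_iff_mem] at h1
  apply hg₀
  have := h1 g₀
  rwa [hf, zrep_zmk] at this

end Cfsg.Agent.Lib.Helper21
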