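import Cfsg.Agent.Lib.Helper81.LocalRing

set_option autoImplicit false
open Cfsg
open Cfsg.Agent.Lib.Helper81

namespace Cfsg.Agent.Lib.Helper21

variable {p : ℕ} {M : Ideal AlgInt}

/-- Rectangular expansion of the determinant of a product (all maps, not only injective ones). -/
theorem det_mul_rect {n ι K : Type*} [Fintype n] [DecidableEq n] [Fintype ι] [DecidableEq ι]
    [CommRing K] (A : Matrix n ι K) (C : Matrix ι n K) :
    (A * C).det = ∑ f : n → ι, (∏ i, C (f i) i) * (Matrix.of fun j i => A j (f i)).det := by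
  simp only [Matrix.det_apply', Matrix.mul_apply, Finset.prod_univ_sum, Finset.mul_sum,
    Fintype.piFinset_univ]
  rw [Finset.sum_comm]
  apply Finset.sum_congr rfl
  intro f _
  apply Finset.sum_congr rfl
  intro σ _
  simp only [Matrix.of_apply, Finset.prod_mul_distrib]
  ring

/-- A complex matrix with entries in the local ring, as a matrix over the local ring. -/
def liftMat {m n : Type*} (hM : IsPModular p M) (A : Matrix m n ℂ)
    (hA : ∀ i j, MemLocalRing M (A i j)) : Matrix m n (locRing hM) :=
  fun i j => ⟨A i j, hA i j⟩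

theorem coe_det_liftMat {n : Type*} [Fintype n] [DecidableEq n] (hM : IsPModular p M)
    (A : Matrix n n ℂ) (hA : ∀ i j, MemLocalRing M (A i j)) :
    ((liftMat hM A hA).det : ℂ) = A.det := by
  have h := RingHom.map_det (locRing hM).subtype (liftMat hM A hA)
  have h2 : (locRing hM).subtype.mapMatrix (liftMat hM A hA) = A := by
    ext i j; rfl
  rw [h2] at h
  exact h

theorem det_memLocalRing {n : Type*} [Fintype n] [DecidableEq n] (hM : IsPModular p M)
    (A : Matrix n n ℂ) (hA : ∀ i j, MemLocalRing M (A i j)) : MemLocalRing M A.det := by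
  rw [← coe_det_liftMat hM A hA]
  exact (liftMat hM A hA).det.2

theorem memLocalIdeal_det_iff {n : Type*} [Fintype n] [DecidableEq n] (hM : IsPModular p M)
    (A : Matrix n n ℂ) (hA : ∀ i j, MemLocalRing M (A i j)) :
    MemLocalIdeal M A.det ↔
      ((Ideal.Quotient.mk (locIdeal hM)).mapMatrix (liftMat hM A hA)).det = 0 := by
  rw [← RingHom.map_det, Ideal.Quotient.eq_zero_iff_mem, mem_locIdeal, coe_det_liftMat]

/-- Entrywise congruent matrices have congruent determinants. -/
theorem memLocalIdeal_det_congr {n : Type*} [Fintype n] [DecidableEq n] (hM : IsPModular p M)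
    (A B : Matrix n n ℂ) (hA : ∀ i j, MemLocalRing M (A i j))
    (hB : ∀ i j, MemLocalRing M (B i j)) (h : ∀ i j, MemLocalIdeal M (A i j - B i j)) :
    MemLocalIdeal M A.det ↔ MemLocalIdeal M B.det := by
  rw [memLocalIdeal_det_iff hM A hA, memLocalIdeal_det_iff hM B hB]
  have : (Ideal.Quotient.mk (locIdeal hM)).mapMatrix (liftMat hM A hA)
      = (Ideal.Quotient.mk (locIdeal hM)).mapMatrix (liftMat hM B hB) := by
    ext i j
    show Ideal.Quotient.mk (locIdeal hM) _ = Ideal.Quotient.mk (locIdeal hM) _
    rw [Ideal.Quotient.eq, mem_locIdeal]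
    exact h i j
  rw [this]

/-- Two congruent columns force the determinant into the local ideal. -/
theorem memLocalIdeal_det_of_column_congr {n : Type*} [Fintype n] [DecidableEq n]
    (hM : IsPModular p M) (A : Matrix n n ℂ) (hA : ∀ i j, MemLocalRing M (A i j))
    {i i' : n} (hne : i ≠ i') (h : ∀ j, MemLocalIdeal M (A j i - A j i')) :
    MemLocalIdeal M A.det := by
  rw [memLocalIdeal_det_iff hM A hA]
  apply Matrix.det_zero_of_column_eq hne
  intro j
  show Ideal.Quotient.mk (locIdeal hM) _ = Ideal.Quotient.mk (locIdeal hM) _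
  rw [Ideal.Quotient.eq, mem_locIdeal]
  exact h j

/-- A column in the local ideal forces the determinant into the local ideal. -/
theorem memLocalIdeal_det_of_column {n : Type*} [Fintype n] [DecidableEq n]
    (hM : IsPModular p M) (A : Matrix n n ℂ) (hA : ∀ i j, MemLocalRing M (A i j))
    (i : n) (h : ∀ j, MemLocalIdeal M (A j i)) : MemLocalIdeal M A.det := by
  rw [memLocalIdeal_det_iff hM A hA]
  apply Matrix.det_eq_zero_of_column_eq_zero i
  intro j
  show Ideal.Quotient.mk (locIdeal hM) _ = 0
  rw [Ideal.Quotient.eq_zero_iff_mem, mem_locIdeal]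
  exact h j

/-- If the determinant of a product `A * C` (`A` of size `n × ι`) is a unit, some `n × n` minor of
`A` is a unit, the corresponding entries of `C` being units as well. -/
theorem exists_minor_of_det_mul {n ι : Type*} [Fintype n] [DecidableEq n] [Fintype ι]
    [DecidableEq ι] (hM : IsPModular p M) (A : Matrix n ι ℂ) (C : Matrix ι n ℂ)
    (hA : ∀ i j, MemLocalRing M (A i j)) (hC : ∀ i j, MemLocalRing M (C i j))
    (h : ¬ MemLocalIdeal M (A * C).det) :
    ∃ f : n → ι, ¬ MemLocalIdeal M (Matrix.of fun j i => A j (f i)).det ∧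
      ∀ i, ¬ MemLocalIdeal M (C (f i) i) := by
  by_contra hcon
  push Not at hcon
  apply h
  rw [det_mul_rect]
  apply memLocalIdeal_sum hM
  intro f _
  have hdet : MemLocalRing M (Matrix.of fun j i => A j (f i)).det :=
    det_memLocalRing hM _ (fun j i => hA j (f i))
  by_cases hf : MemLocalIdeal M (Matrix.of fun j i => A j (f i)).det
  · exact memLocalIdeal_mul_left hM (memLocalRing_prod hM _ _ (fun i _ => hC _ _)) hf
  · obtain ⟨i, hi⟩ := hcon f hf
    apply memLocalIdeal_mul_right hM _ hdet
    rw [← Finset.mul_prod_erase Finset.univ _ (Finset.mem_univ i)]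
    exact memLocalIdeal_mul_right hM hi (memLocalRing_prod hM _ _ (fun i _ => hC _ _))

/-- A quotient of natural numbers is a local integer when the valuations allow it. -/
theorem memLocalRing_natCast_div (hM : IsPModular p M) {n t : ℕ} (hn : n ≠ 0) (ht : t ≠ 0)
    (h : t.factorization p ≤ n.factorization p) : MemLocalRing M ((n : ℂ) / (t : ℂ)) := by
  have hp0 : (p : ℂ) ≠ 0 := by exact_mod_cast hM.1.ne_zero
  set b := t.factorization p with hb
  have h1 : p ^ b ∣ n := (hM.1.pow_dvd_iff_le_factorization hn).2 h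
  obtain ⟨n', rfl⟩ := h1
  have h2 : p ^ b * (t / p ^ b) = t := Nat.ordProj_mul_ordCompl_eq_self t p
  have h3 : ¬ p ∣ t / p ^ b := Nat.not_dvd_ordCompl hM.1 ht
  have h4 : ((p ^ b * n' : ℕ) : ℂ) / (t : ℂ) = (n' : ℂ) / ((t / p ^ b : ℕ) : ℂ) := by
    have h5 : (t : ℂ) = ((p ^ b * (t / p ^ b) : ℕ) : ℂ) := by rw [h2]
    rw [h5]
    push_cast
    rw [mul_div_mul_left _ _ (pow_ne_zero _ hp0)]
  rw [h4]
  apply memLocalRing_div hM (memLocalRing_natCast hM _) (memLocalRing_natCast hM _)
  rw [memLocalIdeal_natCast_iff hM]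
  exact h3

end Cfsg.Agent.Lib.Helper21
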