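import Cfsg.Agent.Lib.Helper21.MatLoc
import Cfsg.Agent.Lib.Helper21.IndPart
import Cfsg.Agent.Lib.Helper21.MinMax
import Cfsg.Agent.Lib.Helper21.AvgChar
import Cfsg.Agent.Lib.Helper20.CharColumn
import Cfsg.Agent.Lib.Helper82.Codegree

set_option autoImplicit false
open Cfsg
open scoped ComplexConjugate
open Cfsg.Agent.Lib.Helper20 Cfsg.Agent.Lib.Helper81

namespace Cfsg.Agent.Lib.Helper21

variable {p : ℕ} {M : Ideal AlgInt}
variable {G : Type*} [Group G] [Fintype G]

/-- The multiplicity of the trivial character in the restriction to `S`. -/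
noncomputable def fixMult (S : Subgroup G) [Fintype S] (χ : G → ℂ) : ℂ :=
  (Nat.card S : ℂ)⁻¹ * ∑ u : S, χ ((u : G) * 1)

theorem fixMult_memLocalRing (hM : IsPModular p M) (S : Subgroup G) [Fintype S]
    (χ : IrrCharacter G) : MemLocalRing M (fixMult S (χ : G → ℂ)) :=
  memLocalRing_of_isIntegral hM
    (isIntegral_avg_char (isCharacter_of_isIrrCharacter χ.2) S 1 (fun u _ => by simp))

omit [Fintype G] in
theorem card_centralizer_conj (g t : G) :
    Nat.card (Subgroup.centralizer ({t * g * t⁻¹} : Set G))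
      = Nat.card (Subgroup.centralizer ({g} : Set G)) := by
  rw [centralizer_singleton_conj, card_map_conj]

/-- Counting formula: `∑_χ ω_χ(K_y) [χ_S, 1_S] conj χ(x)` counts the pairs `(s, y')` with
`s ∈ S`, `y' ∼ y`, `s y' ∼ x`. -/
theorem sum_centralChar_fixMult [Fintype (IrrCharacter G)] (S : Subgroup G) [Fintype S]
    (x y : G) :
    (Nat.card (Subgroup.centralizer ({y} : Set G)) : ℂ) * (Nat.card S : ℂ) *
      ∑ χ : IrrCharacter G, centralChar (χ : G → ℂ) y *
        (fixMult S (χ : G → ℂ) * conj ((χ : G → ℂ) x))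
      = ∑ s : S, ∑ t : G, ∑ χ : IrrCharacter G,
          (χ : G → ℂ) ((s : G) * (t * y * t⁻¹)) * conj ((χ : G → ℂ) x) := by
  classical
  have hS : (Nat.card S : ℂ) ≠ 0 := by exact_mod_cast Nat.card_pos.ne'
  have hidx : (Nat.card G : ℂ) = (Nat.card (Subgroup.centralizer ({y} : Set G)) : ℂ)
      * ((Subgroup.centralizer ({y} : Set G)).index : ℂ) := by
    exact_mod_cast (Subgroup.card_mul_index _).symm
  have h1 : ∀ s : S, ∑ t : G, ∑ χ : IrrCharacter G,
      (χ : G → ℂ) ((s : G) * (t * y * t⁻¹)) * conj ((χ : G → ℂ) x)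
      = ∑ χ : IrrCharacter G, ((Nat.card G : ℂ) * (χ : G → ℂ) s * (χ : G → ℂ) y / (χ : G → ℂ) 1)
          * conj ((χ : G → ℂ) x) := by
    intro s
    rw [Finset.sum_comm]
    apply Finset.sum_congr rfl
    intro χ _
    rw [← Finset.sum_mul, sum_char_conj_mul χ.2]
  simp only [h1]
  rw [Finset.sum_comm, Finset.mul_sum]
  apply Finset.sum_congr rfl
  intro χ _
  have h10 := irr_one_ne_zero χ.2
  simp only [fixMult, centralChar, mul_one]
  rw [hidx]
  have h2 : ∑ s : S, (Nat.card (Subgroup.centralizer ({y} : Set G)) : ℂ)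
      * ((Subgroup.centralizer ({y} : Set G)).index : ℂ) * (χ : G → ℂ) s * (χ : G → ℂ) y
        / (χ : G → ℂ) 1 * conj ((χ : G → ℂ) x)
      = (Nat.card (Subgroup.centralizer ({y} : Set G)) : ℂ)
      * ((Subgroup.centralizer ({y} : Set G)).index : ℂ) * (χ : G → ℂ) y
        / (χ : G → ℂ) 1 * conj ((χ : G → ℂ) x) * ∑ s : S, (χ : G → ℂ) s := by
    rw [Finset.mul_sum]
    apply Finset.sum_congr rfl
    intro s _
    ring
  rw [h2]
  field_simp

/-- The orthogonality relation for `p`-separated classes. -/
theorem sum_centralChar_fixMult_separated [Fact p.Prime] [Fintype (IrrCharacter G)] (S : Sylow p G)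
    [Fintype (S : Subgroup G)] {r : ℕ} (x : Fin r → G)
    (hx : ∀ i j : Fin r, IsConj (x i) (x j) → i = j)
    (hsep : ∀ i j : Fin r, ∀ g h : G, IsConj (x i) g → IsConj (x j) h → ∀ k : ℕ, 0 < k →
      orderOf (g * h⁻¹) ≠ p ^ k) (i j : Fin r) :
    ∑ χ : IrrCharacter G, centralChar (χ : G → ℂ) (x j) *
        (fixMult (S : Subgroup G) (χ : G → ℂ) * conj ((χ : G → ℂ) (x i)))
      = if j = i then ((S : Subgroup G).index : ℂ) else 0 := by
  classical
  have hS : (Nat.card (S : Subgroup G) : ℂ) ≠ 0 := by exact_mod_cast Nat.card_pos.ne'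
  have hC : (Nat.card (Subgroup.centralizer ({x j} : Set G)) : ℂ) ≠ 0 := by
    exact_mod_cast Nat.card_pos.ne'
  have key := sum_centralChar_fixMult (S : Subgroup G) (x i) (x j)
  have h1 : ∑ s : (S : Subgroup G), ∑ t : G, ∑ χ : IrrCharacter G,
      (χ : G → ℂ) ((s : G) * (t * x j * t⁻¹)) * conj ((χ : G → ℂ) (x i))
      = if j = i then (Nat.card G : ℂ) * (Nat.card (Subgroup.centralizer ({x j} : Set G)) : ℂ)
        else 0 := by
    simp only [sum_irr_mul_conj]
    rw [Finset.sum_eq_single (1 : (S : Subgroup G))]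
    · by_cases hji : j = i
      · subst hji
        rw [if_pos rfl]
        have : ∀ t : G, (if IsConj (((1 : (S : Subgroup G)) : G) * (t * x j * t⁻¹)) (x j) then
            (Nat.card (Subgroup.centralizer
              ({((1 : (S : Subgroup G)) : G) * (t * x j * t⁻¹)} : Set G)) : ℂ) else 0)
            = (Nat.card (Subgroup.centralizer ({x j} : Set G)) : ℂ) := by
          intro t
          rw [Subgroup.coe_one, one_mul, if_pos (isConj_iff.2 ⟨t, rfl⟩).symm,
            card_centralizer_conj]
        simp only [this]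
        rw [Finset.sum_const, Finset.card_univ, nsmul_eq_mul, ← Nat.card_eq_fintype_card]
      · rw [if_neg hji]
        apply Finset.sum_eq_zero
        intro t _
        rw [if_neg]
        intro hc
        rw [Subgroup.coe_one, one_mul] at hc
        exact hji (hx j i ((isConj_iff.2 ⟨t, rfl⟩).trans hc))
    · intro s _ hs
      apply Finset.sum_eq_zero
      intro t _
      rw [if_neg]
      intro hc
      obtain ⟨k, hk⟩ := (IsPGroup.iff_orderOf.1 S.isPGroup') s
      rw [← Subgroup.orderOf_coe] at hk
      have h2 : ((s : G) * (t * x j * t⁻¹)) * (t * x j * t⁻¹)⁻¹ = (s : G) := by group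
      rcases Nat.eq_zero_or_pos k with h0 | h0
      · rw [h0, pow_zero, orderOf_eq_one_iff] at hk
        exact hs (Subtype.ext hk)
      · apply hsep i j _ _ hc.symm (isConj_iff.2 ⟨t, rfl⟩) k h0
        rw [h2, hk]
    · intro h; exact absurd (Finset.mem_univ _) h
  rw [h1] at key
  have hidx : (Nat.card G : ℂ) = ((S : Subgroup G).index : ℂ) * (Nat.card (S : Subgroup G) : ℂ) := by
    exact_mod_cast ((S : Subgroup G).index_mul_card).symm
  by_cases hji : j = i
  · rw [if_pos hji] at key ⊢
    apply mul_left_cancel₀ (mul_ne_zero hC hS)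
    rw [key, hidx]; ring
  · rw [if_neg hji] at key ⊢
    exact (mul_eq_zero.1 key).resolve_left (mul_ne_zero hC hS)

omit [Fintype G] in
theorem centralizer_singleton_inv (g : G) :
    Subgroup.centralizer ({g⁻¹} : Set G) = Subgroup.centralizer ({g} : Set G) := by
  ext y
  rw [Subgroup.mem_centralizer_singleton_iff, Subgroup.mem_centralizer_singleton_iff]
  exact (Commute.inv_right_iff (a := y) (b := g))

omit [Fintype G] in
theorem sylowIn_card_eq_pow [Finite G] [Fact p.Prime] {K D : Subgroup G} (h : SylowIn p K D) :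
    Nat.card D = p ^ (Nat.card K).factorization p := by
  obtain ⟨S, rfl⟩ := h
  rw [Subgroup.card_map_of_injective (Subgroup.subtype_injective _), S.card_eq_multiplicity]

omit [Fintype G] in
theorem factorization_index_add_card [Finite G] (p : ℕ) (K : Subgroup G) :
    K.index.factorization p + (Nat.card K).factorization p = (Nat.card G).factorization p := by
  rw [← K.index_mul_card, Nat.factorization_mul K.index_ne_zero_of_finite Nat.card_pos.ne']
  rfl

omit [Fintype G] in
theorem factorization_charDegree_le_card [Finite G] (p : ℕ) (χ : IrrCharacter G) :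
    (charDegree (χ : G → ℂ)).factorization p ≤ (Nat.card G).factorization p :=
  (Nat.factorization_le_iff_dvd (charDegree_ne_zero χ) Nat.card_pos.ne').2
    (Cfsg.Agent.Lib.Helper82.isIrr_charDegree_dvd_card χ.2) p

/-- If `χ(g)` is a unit then `ν(|C(g)|) ≤ d(B)`. -/
theorem factorization_centralizer_le_of_unit (hM : IsPModular p M) (χ : IrrCharacter G) (g : G)
    (hg : ¬ MemLocalIdeal M ((χ : G → ℂ) g)) :
    (charDegree (χ : G → ℂ)).factorization p
      ≤ (Subgroup.centralizer ({g} : Set G)).index.factorization p := by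
  have hR : MemLocalRing M ((χ : G → ℂ) g) :=
    memLocalRing_of_isIntegral hM (isCharacter_isIntegral (isCharacter_of_isIrrCharacter χ.2) g)
  have h0 := ne_zero_of_not_memLocalIdeal hM hg
  apply factorization_le_of_eq_mul hM (Subgroup.index_ne_zero_of_finite) (charDegree_ne_zero χ)
    (memLocalRing_div hM (centralChar_memLocalRing hM χ g) hR hg)
  rw [centralChar, ← irr_one_eq_charDegree]
  have h10 := irr_one_ne_zero χ.2
  field_simp

/-- Blocks from `p`-separated classes. -/
theorem separated_classes [Fact p.Prime] (hM : IsPModular p M) (D : Subgroup G) {r : ℕ}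
    (x : Fin r → G) (hx : ∀ i j : Fin r, IsConj (x i) (x j) → i = j)
    (hD : ∀ i : Fin r, SylowIn p (Subgroup.centralizer ({x i} : Set G)) D)
    (hsep : ∀ i j : Fin r, ∀ g h : G, IsConj (x i) g → IsConj (x j) h → ∀ k : ℕ, 0 < k →
      orderOf (g * h⁻¹) ≠ p ^ k) :
    ∃ B : Fin r → Set (IrrCharacter G), Function.Injective B ∧
      (∀ i, IsPBlock M (B i) ∧ IsDefectGroup p M (B i) D) ∧
      ∀ χ : Fin r → IrrCharacter G,
        (∀ i, χ i ∈ B i ∧ blockHeight p (B i) (χ i : G → ℂ) = 0) →
        ¬ MemLocalIdeal M (Matrix.det (Matrix.of fun i j : Fin r => (χ i : G → ℂ) (x j))) := by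
  classical
  haveI : Finite (IrrCharacter G) := finite_irrCharacter
  haveI : Fintype (IrrCharacter G) := Fintype.ofFinite _
  obtain ⟨S⟩ : Nonempty (Sylow p G) := inferInstance
  haveI : Fintype (S : Subgroup G) := Fintype.ofFinite _
  set A : Matrix (Fin r) (IrrCharacter G) ℂ := fun j χ => centralChar (χ : G → ℂ) (x j) with hA
  set C : Matrix (IrrCharacter G) (Fin r) ℂ :=
    fun χ i => fixMult (S : Subgroup G) (χ : G → ℂ) * conj ((χ : G → ℂ) (x i)) with hC
  have hAR : ∀ j χ, MemLocalRing M (A j χ) := fun j χ => centralChar_memLocalRing hM χ _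
  have hconj : ∀ (χ : IrrCharacter G) (g : G), conj ((χ : G → ℂ) g) = (χ : G → ℂ) g⁻¹ :=
    fun χ g => (isCharacter_inv (isCharacter_of_isIrrCharacter χ.2) g).symm
  have hchR : ∀ (χ : IrrCharacter G) (g : G), MemLocalRing M ((χ : G → ℂ) g) := fun χ g =>
    memLocalRing_of_isIntegral hM (isCharacter_isIntegral (isCharacter_of_isIrrCharacter χ.2) g)
  have hCR : ∀ χ i, MemLocalRing M (C χ i) := fun χ i =>
    memLocalRing_mul hM (fixMult_memLocalRing hM _ χ) (by rw [hconj]; exact hchR _ _)
  have hAC : A * C = Matrix.diagonal (fun _ => ((S : Subgroup G).index : ℂ)) := by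
    ext j i
    rw [Matrix.mul_apply, Matrix.diagonal_apply]
    exact sum_centralChar_fixMult_separated S x hx hsep i j
  have hdet : ¬ MemLocalIdeal M (A * C).det := by
    rw [hAC, Matrix.det_diagonal, Finset.prod_const, ← Nat.cast_pow, memLocalIdeal_natCast_iff hM]
    intro hd
    exact S.not_dvd_index (hM.1.dvd_of_dvd_pow hd)
  obtain ⟨f, hf1, hf2⟩ := exists_minor_of_det_mul hM A C hAR hCR hdet
  have hDcard : ∀ i, Nat.card D
      = p ^ (Nat.card (Subgroup.centralizer ({x i} : Set G))).factorization p :=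
    fun i => sylowIn_card_eq_pow (hD i)
  have hBD : ∀ i, IsDefectGroup p M (blockOf M (f i : G → ℂ)) D := by
    intro i
    set B := blockOf M (f i : G → ℂ) with hBdef
    have hB : IsPBlock M B := ⟨f i, rfl⟩
    have hmem : f i ∈ B := mem_blockOf_self hM (f i)
    obtain ⟨j, hj⟩ : ∃ j, ¬ MemLocalIdeal M (centralChar (f i : G → ℂ) (x j)) := by
      by_contra hcon
      push Not at hcon
      exact hf1 (memLocalIdeal_det_of_column hM _ (fun j i => hAR j (f i)) i hcon)
    have hunit : ¬ MemLocalIdeal M ((f i : G → ℂ) (x i)⁻¹) := by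
      intro hc
      apply hf2 i
      show MemLocalIdeal M (fixMult (S : Subgroup G) (f i : G → ℂ) * conj ((f i : G → ℂ) (x i)))
      rw [hconj]
      exact memLocalIdeal_mul_left hM (fixMult_memLocalRing hM _ _) hc
    obtain ⟨P, hP⟩ := exists_isDefectGroup hM B hB
    have hPcard := card_defectGroup hM B hB P hP
    obtain ⟨h, hh, hPS⟩ := isDefectGroup_iff.1 hP
    obtain ⟨y, hy⟩ := minmax_le_conj hM B hB (x j) h
      (fun χ hχ => not_memLocalIdeal_of_sub hM (sameBlock_symm (M := M) hχ (x j)) hj) hh.2.1 D (hD j) P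
      hPS.isPGroup hPS.le
    have e1 := factorization_centralizer_le_of_unit hM (f i) _ hunit
    rw [centralizer_singleton_inv] at e1
    have e2 := factorization_index_add_card p (Subgroup.centralizer ({x i} : Set G))
    have e3 : sInf ((fun χ : IrrCharacter G => (charDegree (χ : G → ℂ)).factorization p) '' B)
        ≤ (charDegree (f i : G → ℂ)).factorization p := Nat.sInf_le ⟨f i, hmem, rfl⟩
    have e4 : (Nat.card (Subgroup.centralizer ({x i} : Set G))).factorization p
        ≤ blockDefect p B := by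
      rw [blockDefect]; omega
    have e5 : P.map (MulAut.conj y).toMonoidHom = D := by
      apply Subgroup.eq_of_le_of_card_ge hy
      rw [card_map_conj, hPcard, hDcard i]
      exact Nat.pow_le_pow_right hM.1.pos e4
    rw [← e5]
    exact isDefectGroup_conj hP y
  refine ⟨fun i => blockOf M (f i : G → ℂ), ?_, fun i => ⟨⟨f i, rfl⟩, hBD i⟩, ?_⟩
  · intro i i' hii
    by_contra hne
    apply hf1
    apply memLocalIdeal_det_of_column_congr hM _ (fun j i => hAR j (f i)) hne
    intro j
    have h1 : f i' ∈ blockOf M (f i : G → ℂ) := by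
      have : blockOf M (f i : G → ℂ) = blockOf M (f i' : G → ℂ) := hii
      rw [this]; exact mem_blockOf_self hM _
    exact h1 (x j)
  · intro χ hχ hcon
    apply hf1
    rw [memLocalIdeal_det_congr hM (Matrix.of fun j i => A j (f i))
      (Matrix.of fun j i => centralChar (χ i : G → ℂ) (x j))
      (fun j i => hAR j (f i)) (fun j i => centralChar_memLocalRing hM _ _)
      (fun j i => (hχ i).1 (x j))]
    have h1 : (Matrix.of fun j i => centralChar (χ i : G → ℂ) (x j))
        = Matrix.of fun j i => ((Subgroup.centralizer ({x j} : Set G)).index : ℂ) *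
          (Matrix.of fun j i => ((χ i : G → ℂ) 1)⁻¹ *
            (Matrix.of fun i j : Fin r => (χ i : G → ℂ) (x j)).transpose j i) j i := by
      ext j i
      simp only [Matrix.of_apply, Matrix.transpose_apply, centralChar]
      ring
    rw [h1, Matrix.det_mul_column, Matrix.det_mul_row, Matrix.det_transpose, ← mul_assoc,
      ← Finset.prod_mul_distrib]
    apply memLocalIdeal_mul_left hM _ hcon
    apply memLocalRing_prod hM
    intro i _
    rw [← div_eq_mul_inv, irr_one_eq_charDegree]
    apply memLocalRing_natCast_div hM Subgroup.index_ne_zero_of_finite (charDegree_ne_zero _)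
    have e0 := card_defectGroup hM _ ⟨f i, rfl⟩ D (hBD i)
    rw [hDcard i] at e0
    have e1 := Nat.pow_right_injective hM.1.two_le e0
    have e2 := factorization_index_add_card p (Subgroup.centralizer ({x i} : Set G))
    have e3 : (charDegree (χ i : G → ℂ)).factorization p - sInf ((fun χ : IrrCharacter G =>
      (charDegree (χ : G → ℂ)).factorization p) '' (blockOf M (f i : G → ℂ))) = 0 := (hχ i).2
    have e4 := factorization_charDegree_le_card p (χ i)
    have e5 : sInf ((fun χ : IrrCharacter G => (charDegree (χ : G → ℂ)).factorization p) ''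
        (blockOf M (f i : G → ℂ))) ≤ (charDegree (χ i : G → ℂ)).factorization p :=
      Nat.sInf_le ⟨χ i, (hχ i).1, rfl⟩
    rw [blockDefect] at e1
    omega

end Cfsg.Agent.Lib.Helper21
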