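import Cfsg.Agent.Lib.Helper21.Fong3
import Cfsg.Agent.Lib.Helper21.Separated
import Cfsg.Agent.Lib.Helper20.FongReynolds
import Cfsg.Agent.Lib.Helper81.BlockProj

set_option autoImplicit false
open Cfsg
open scoped ComplexConjugate
open Cfsg.Agent.Lib.Helper20 Cfsg.Agent.Lib.Helper81 Cfsg.Agent.Lib.Helper5

namespace Cfsg.Agent.Lib.Helper21

variable {G : Type*} [Group G] [Fintype G] {N : Subgroup G} [Fintype N] {p : ℕ} {M : Ideal AlgInt}

/-- The irreducible characters of `N` lying under a member of `B`. -/
def underSet (N : Subgroup G) [Fintype N] (B : Set (IrrCharacter G)) : Set (IrrCharacter N) :=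
  {θ | ∃ χ ∈ B, classInner (fun n : N => (χ : G → ℂ) n) (θ : N → ℂ) ≠ 0}

theorem bS_eq_sum [Fintype (IrrCharacter G)] (X : Set (IrrCharacter G)) [DecidablePred (· ∈ X)]
    (x y : G) : bS X x y
      = ∑ χ : IrrCharacter G, (if χ ∈ X then (1 : ℂ) else 0) * ((χ : G → ℂ) x * conj ((χ : G → ℂ) y)) := by
  rw [bS, finsum_mem_irr]
  apply Finset.sum_congr rfl
  intro χ _
  split_ifs <;> simp

theorem bS_conj (X : Set (IrrCharacter G)) (x y : G) : conj (bS X x y) = bS X y x := by
  classical
  haveI : Finite (IrrCharacter G) := finite_irrCharacter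
  haveI : Fintype (IrrCharacter G) := Fintype.ofFinite _
  rw [bS_eq_sum, bS_eq_sum, map_sum]
  apply Finset.sum_congr rfl
  intro χ _
  split_ifs <;> simp [mul_comm]

theorem blockCoeff_eq_bS (X : Set (IrrCharacter G)) (g : G) :
    blockCoeff X g = (Nat.card G : ℂ)⁻¹ * bS X 1 g := rfl

/-- If the idempotent of `X` is supported on the normal subgroup `N`, the kernel of `X` vanishes
on pairs (outside `N`, inside `N`). -/
theorem bS_eq_zero_of_support (hN : N.Normal) (X : Set (IrrCharacter G))
    (hX : ∀ g, g ∉ N → blockCoeff X g = 0) {y u : G} (hy : y ∉ N) (hu : u ∈ N) : bS X y u = 0 := by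
  classical
  haveI : Finite (IrrCharacter G) := finite_irrCharacter
  haveI : Fintype (IrrCharacter G) := Fintype.ofFinite _
  rw [bS_eq_sum]
  have h1 : ∀ χ : IrrCharacter G, (if χ ∈ X then (1 : ℂ) else 0) * ((χ : G → ℂ) y * conj ((χ : G → ℂ) u))
      = ∑ t : G, blockCoeff X t * ((χ : G → ℂ) (y * t) * conj ((χ : G → ℂ) u)) := by
    intro χ
    rw [← omega_blockCoeff X χ, ← mul_assoc, ← sum_mul_char_mul χ.2 (blockCoeff_classFunction X) y,
      Finset.sum_mul]
    apply Finset.sum_congr rfl
    intro t _
    ring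
  simp only [h1]
  rw [Finset.sum_comm]
  apply Finset.sum_eq_zero
  intro t _
  rw [← Finset.mul_sum, sum_irr_mul_conj]
  by_cases ht : t ∈ N
  · rw [if_neg, mul_zero]
    intro hc
    obtain ⟨c, hc⟩ := isConj_iff.1 hc
    apply hy
    have h2 : y * t ∈ N := by
      have h3 : y * t = c⁻¹ * u * c⁻¹⁻¹ := by rw [← hc]; group
      rw [h3]
      exact hN.conj_mem u hu c⁻¹
    exact (Subgroup.mul_mem_cancel_right N ht).1 h2
  · rw [hX t ht, zero_mul]

theorem classInner_eq_conj_omega (w : G → ℂ) (χ : IrrCharacter G) :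
    classInner w (χ : G → ℂ)
      = conj ((Nat.card G : ℂ)⁻¹ * ((χ : G → ℂ) 1 * omega (χ : G → ℂ) (fun g => conj (w g)))) := by
  have h10 := irr_one_ne_zero χ.2
  rw [classInner, omega, map_mul, map_inv₀, map_natCast]
  congr 1
  rw [Finset.mul_sum, map_sum]
  apply Finset.sum_congr rfl
  intro g _
  rw [mul_div_assoc', mul_div_cancel_left₀ _ h10]
  simp

/-- (K) A class function supported on `N` and orthogonal to `B` is orthogonal to all characters
lying over a character under `B`. -/
theorem classInner_eq_zero_of_under (hN : N.Normal) (B : Set (IrrCharacter G)) {w : G → ℂ}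
    (hw : IsClassFunction G w) (hw0 : ∀ g, g ∉ N → w g = 0)
    (hB : ∀ ψ ∈ B, classInner w (ψ : G → ℂ) = 0) {χ : IrrCharacter G}
    (hχ : χ ∈ overSet N (underSet N B)) : classInner w (χ : G → ℂ) = 0 := by
  obtain ⟨θ, ⟨ψ, hψ, hψθ⟩, hχθ⟩ := hχ
  have hwc : IsClassFunction G (fun g => conj (w g)) := by
    intro g h
    show conj (w _) = conj (w _)
    rw [hw]
  have hwc0 : ∀ g, g ∉ N → (fun g => conj (w g)) g = 0 := by
    intro g hg
    show conj (w g) = 0
    rw [hw0 g hg, map_zero]
  have h1 := hB ψ hψ
  rw [classInner_eq_conj_omega, map_eq_zero] at h1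
  have h2 : omega (ψ : G → ℂ) (fun g => conj (w g)) = 0 := by
    rcases mul_eq_zero.1 h1 with h | h
    · exact absurd h (inv_ne_zero card_ne_zero_complex)
    · rcases mul_eq_zero.1 h with h | h
      · exact absurd h (irr_one_ne_zero ψ.2)
      · exact h
  rw [classInner_eq_conj_omega, omega_eq_omega_res_of_constituent hN χ θ hχθ hwc hwc0,
    ← omega_eq_omega_res_of_constituent hN ψ θ hψθ hwc hwc0, h2]
  simp

theorem subset_overSet_underSet (B : Set (IrrCharacter G)) : B ⊆ overSet N (underSet N B) := by
  intro ψ hψ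
  obtain ⟨θ, hθ⟩ := exists_constituent_res N ψ
  exact ⟨θ, ⟨ψ, hψ, hθ⟩, hθ⟩

theorem underSet_invariant (hN : N.Normal) (B : Set (IrrCharacter G)) (g : G)
    (θ : IrrCharacter N) (hθ : θ ∈ underSet N B) : cjIrr hN g θ ∈ underSet N B := by
  obtain ⟨ψ, hψ, h⟩ := hθ
  exact ⟨ψ, hψ, by rwa [constituent_cjIrr]⟩

theorem ext0_blockCoeff_underSet (hN : N.Normal) (B : Set (IrrCharacter G)) :
    ext0 N (blockCoeff (underSet N B)) = blockCoeff (overSet N (underSet N B)) := by
  have h := ext0_conjClosure_eq_blockCoeff_overSet hN (underSet N B)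
  rwa [conjClosure_eq_of_invariant hN (underSet_invariant hN B)] at h

theorem eq_zero_of_classInner_self {w : G → ℂ} (h : classInner w w = 0) (g : G) : w g = 0 := by
  rw [classInner] at h
  have h1 : ∑ g : G, w g * conj (w g) = 0 := by
    rcases mul_eq_zero.1 h with h | h
    · exact absurd h (inv_ne_zero card_ne_zero_complex)
    · exact h
  have h2 : ∑ g : G, Complex.normSq (w g) = 0 := by
    have h3 : ((∑ g : G, Complex.normSq (w g) : ℝ) : ℂ) = 0 := by
      rw [← h1]
      push_cast
      apply Finset.sum_congr rfl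
      intro g _
      rw [Complex.mul_conj]
    exact_mod_cast h3
  have h4 := (Finset.sum_eq_zero_iff_of_nonneg (fun g _ => Complex.normSq_nonneg (w g))).1 h2 g
    (Finset.mem_univ g)
  exact Complex.normSq_eq_zero.1 h4

/-- Claim A: the kernel of the set of characters over the characters under a block vanishes on
(regular, singular in `N`) pairs. -/
theorem bS_overSet_underSet_eq_zero (hM : IsPModular p M) (hN : N.Normal)
    (B : Set (IrrCharacter G)) (hB : IsPBlock M B) {u y : G} (hu : u ∈ N) (hus : p ∣ orderOf u)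
    (hy : ¬ p ∣ orderOf y) : bS (overSet N (underSet N B)) y u = 0 := by
  classical
  haveI : Finite (IrrCharacter G) := finite_irrCharacter
  haveI : Fintype (IrrCharacter G) := Fintype.ofFinite _
  set X := overSet N (underSet N B) with hX
  have hsupp : ∀ g, g ∉ N → blockCoeff X g = 0 := by
    intro g hg
    rw [hX, ← ext0_blockCoeff_underSet hN B, ext0_of_not_mem N _ hg]
  set c : IrrCharacter G → ℂ := fun χ => if χ ∈ X then conj ((χ : G → ℂ) u) else 0 with hc
  set c' : IrrCharacter G → ℂ := fun χ => if χ ∈ X then 0 else conj ((χ : G → ℂ) u) with hc'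
  set v : G → ℂ := ∑ χ : IrrCharacter G, c χ • (χ : G → ℂ) with hv
  set w : G → ℂ := ∑ χ : IrrCharacter G, c' χ • pRegularPart p (χ : G → ℂ) with hw
  have hvb : ∀ g, v g = bS X g u := by
    intro g
    rw [bS_eq_sum, hv, Finset.sum_apply]
    apply Finset.sum_congr rfl
    intro χ _
    simp only [hc, Pi.smul_apply, smul_eq_mul]
    split_ifs <;> ring
  -- `w` is minus the regular part of `v`
  have hwv : ∀ g, w g = - pRegularPart p v g := by
    intro g
    rw [hw, Finset.sum_apply]
    by_cases hg : IsPRegular p g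
    · have h1 : pRegularPart p v g = v g := by simp [pRegularPart, hg]
      rw [h1, hv, Finset.sum_apply, eq_neg_iff_add_eq_zero, ← Finset.sum_add_distrib]
      have h2 : ∀ χ : IrrCharacter G, (c' χ • pRegularPart p (χ : G → ℂ)) g + (c χ • (χ : G → ℂ)) g
          = (χ : G → ℂ) g * conj ((χ : G → ℂ) u) := by
        intro χ
        simp only [hc, hc', Pi.smul_apply, smul_eq_mul, pRegularPart, if_pos hg]
        split_ifs <;> ring
      simp only [h2]
      rw [sum_irr_mul_conj, if_neg]
      intro hcj
      obtain ⟨t, ht⟩ := isConj_iff.1 hcj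
      apply hg
      have : orderOf u = orderOf g := by
        rw [← ht]
        exact orderOf_injective (MulAut.conj t).toMonoidHom (MulAut.conj t).injective g
      rw [← this]
      exact hus
    · have h1 : pRegularPart p v g = 0 := by simp [pRegularPart, hg]
      rw [h1, neg_zero]
      apply Finset.sum_eq_zero
      intro χ _
      simp [pRegularPart, hg]
  have hvcl : IsClassFunction G v := by
    intro g h
    rw [hv, Finset.sum_apply, Finset.sum_apply]
    apply Finset.sum_congr rfl
    intro χ _
    simp only [Pi.smul_apply]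
    rw [irr_classFunction χ]
  have hwcl : IsClassFunction G w := by
    intro g h
    rw [hwv, hwv]
    have h1 : orderOf (h * g * h⁻¹) = orderOf g :=
      orderOf_injective (MulAut.conj h).toMonoidHom (MulAut.conj h).injective g
    by_cases hg : p ∣ orderOf g
    · simp [pRegularPart, IsPRegular, h1, hg]
    · simp [pRegularPart, IsPRegular, h1, hg, hvcl g h]
  have hw0 : ∀ g, g ∉ N → w g = 0 := by
    intro g hg
    rw [hwv]
    have h1 : v g = 0 := by rw [hvb]; exact bS_eq_zero_of_support hN X hsupp hg hu
    simp [pRegularPart, h1]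
  have hwB : ∀ ψ ∈ B, classInner w (ψ : G → ℂ) = 0 := by
    intro ψ hψ
    rw [hw, classInner_sum_left]
    apply Finset.sum_eq_zero
    intro χ _
    rw [classInner_smul_left]
    by_cases hχ : χ ∈ X
    · simp [hc', hχ]
    · rw [classInner_pRegularPart_eq_zero hM, mul_zero]
      intro hsb
      apply hχ
      apply subset_overSet_underSet B
      rw [isPBlock_eq_blockOf hM hB hψ]
      exact sameBlock_symm hsb
  have hwX : ∀ χ ∈ X, classInner w (χ : G → ℂ) = 0 := fun χ hχ =>
    classInner_eq_zero_of_under hN B hwcl hw0 hwB hχ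
  have hwvi : classInner w v = 0 := by
    rw [hv, classInner_sum_right]
    apply Finset.sum_eq_zero
    intro χ _
    rw [classInner_smul_right]
    by_cases hχ : χ ∈ X
    · rw [hwX χ hχ, mul_zero]
    · simp [hc, hχ]
  have hww : classInner w w = 0 := by
    have h1 : classInner w w = - classInner w v := by
      simp only [classInner]
      rw [← mul_neg, ← Finset.sum_neg_distrib]
      congr 1
      apply Finset.sum_congr rfl
      intro g _
      by_cases hg : IsPRegular p g
      · have h2 : w g = - v g := by rw [hwv]; simp [pRegularPart, hg]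
        rw [h2]; simp
      · have h2 : w g = 0 := by rw [hwv]; simp [pRegularPart, hg]
        rw [h2]; simp
    rw [h1, hwvi, neg_zero]
  have h3 := eq_zero_of_classInner_self hww y
  rw [hwv] at h3
  have h4 : pRegularPart p v y = v y := by
    have : IsPRegular p y := hy
    simp [pRegularPart, this]
  rw [h4, neg_eq_zero, hvb] at h3
  exact h3

/-- The idempotent of the characters over the characters under a block is locally integral. -/
theorem blockCoeff_overSet_underSet_memLocalRing [Fact p.Prime] (hM : IsPModular p M)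
    (hN : N.Normal) (B : Set (IrrCharacter G)) (hB : IsPBlock M B) (g : G) :
    MemLocalRing M (blockCoeff (overSet N (underSet N B)) g) := by
  classical
  haveI : Finite (IrrCharacter G) := finite_irrCharacter
  haveI : Fintype (IrrCharacter G) := Fintype.ofFinite _
  set X := overSet N (underSet N B) with hX
  have hsupp : ∀ g, g ∉ N → blockCoeff X g = 0 := by
    intro g hg
    rw [hX, ← ext0_blockCoeff_underSet hN B, ext0_of_not_mem N _ hg]
  by_cases hgN : g ∈ N
  swap
  · rw [hsupp g hgN]; exact memLocalRing_zero hM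
  by_cases hgs : p ∣ orderOf g
  · rw [blockCoeff_eq_bS, bS_overSet_underSet_eq_zero hM hN B hB hgN hgs
      (by rw [orderOf_one]; exact hM.1.one_lt.ne' ∘ Nat.dvd_one.1), mul_zero]
    exact memLocalRing_zero hM
  obtain ⟨P⟩ : Nonempty (Sylow p G) := inferInstance
  haveI : Fintype (P : Subgroup G) := Fintype.ofFinite _
  have h1 : ∑ s : (P : Subgroup G), bS X (s : G) g = bS X 1 g := by
    rw [Finset.sum_eq_single (1 : (P : Subgroup G))]
    · rfl
    · intro s _ hs
      by_cases hsN : (s : G) ∈ N
      · rw [← bS_conj, bS_overSet_underSet_eq_zero hM hN B hB hsN _ hgs, map_zero]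
        obtain ⟨k, hk⟩ := (IsPGroup.iff_orderOf.1 P.isPGroup') s
        rw [Subgroup.orderOf_coe, hk]
        cases k with
        | zero =>
          exfalso
          rw [pow_zero, orderOf_eq_one_iff] at hk
          exact hs hk
        | succ k => exact dvd_pow_self p (Nat.succ_ne_zero k)
      · exact bS_eq_zero_of_support hN X hsupp hsN hgN
    · intro h; exact absurd (Finset.mem_univ _) h
  have hP0 : (Nat.card (P : Subgroup G) : ℂ) ≠ 0 := by exact_mod_cast Nat.card_pos.ne'
  have h2 : ∑ s : (P : Subgroup G), bS X (s : G) g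
      = (Nat.card (P : Subgroup G) : ℂ) * ∑ χ : IrrCharacter G, (if χ ∈ X then (1 : ℂ) else 0) *
        (fixMult (P : Subgroup G) (χ : G → ℂ) * conj ((χ : G → ℂ) g)) := by
    simp only [bS_eq_sum]
    rw [Finset.sum_comm, Finset.mul_sum]
    apply Finset.sum_congr rfl
    intro χ _
    simp only [fixMult, mul_one]
    rw [← Finset.mul_sum, ← Finset.sum_mul]
    field_simp
  rw [blockCoeff_eq_bS, ← h1, h2, ← mul_assoc]
  apply memLocalRing_mul hM
  · rw [inv_mul_eq_div]
    apply memLocalRing_natCast_div hM Nat.card_pos.ne' Nat.card_pos.ne'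
    rw [P.card_eq_multiplicity, hM.1.factorization_pow]
    simp
  · apply memLocalRing_sum hM
    intro χ _
    apply memLocalRing_mul hM
    · split_ifs
      · exact memLocalRing_one hM
      · exact memLocalRing_zero hM
    · apply memLocalRing_mul hM (fixMult_memLocalRing hM _ χ)
      rw [← isCharacter_inv (isCharacter_of_isIrrCharacter χ.2)]
      exact memLocalRing_of_isIntegral hM
        (isCharacter_isIntegral (isCharacter_of_isIrrCharacter χ.2) _)

/-- The characters of `N ⊴ G` lying under a block of `G` form a union of blocks of `N`. -/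
theorem underSet_union_of_blocks [Fact p.Prime] (hM : IsPModular p M) (hN : N.Normal)
    (B : Set (IrrCharacter G)) (hB : IsPBlock M B) {θ θ' : IrrCharacter N}
    (hθ : θ ∈ underSet N B) (h : SameBlock M (θ : N → ℂ) (θ' : N → ℂ)) : θ' ∈ underSet N B := by
  apply union_of_blocks hM _ _ hθ h
  intro n
  rw [← ext0_coe N (blockCoeff (underSet N B)) n, ext0_blockCoeff_underSet hN B]
  exact blockCoeff_overSet_underSet_memLocalRing hM hN B hB _

/-- S4432: every member of a covered block lies under the covering block. -/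
theorem exists_over_of_covers [Fact p.Prime] (hM : IsPModular p M) (hN : N.Normal)
    {B : Set (IrrCharacter G)} (hB : IsPBlock M B) {b : Set (IrrCharacter N)} (hb : IsPBlock M b)
    (hcov : Covers N B b) {θ : IrrCharacter N} (hθ : θ ∈ b) :
    ∃ χ ∈ B, classInner (fun n : N => (χ : G → ℂ) n) (θ : N → ℂ) ≠ 0 := by
  obtain ⟨χ, hχ, θ₀, hθ₀, hcon⟩ := hcov
  exact underSet_union_of_blocks hM hN B hB ⟨χ, hχ, hcon⟩ (isPBlock_sameBlock hM hb hθ₀ hθ)

end Cfsg.Agent.Lib.Helper21
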