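import Cfsg.Agent.Lib.Helper21.PSolvBlock
import Cfsg.Agent.Lib.Helper21.Under
import Cfsg.Agent.Lib.Helper21.IndPart
import Cfsg.Agent.Lib.Helper80.BlockBasic

set_option autoImplicit false
open Cfsg
open scoped ComplexConjugate
open Cfsg.Agent.Lib.Helper20 Cfsg.Agent.Lib.Helper81 Cfsg.Agent.Lib.Helper5 Cfsg.Agent.Lib.Helper80

namespace Cfsg.Agent.Lib.Helper21

variable {p : ℕ} {M : Ideal AlgInt}

section basic

variable {G : Type*} [Group G] [Fintype G]

/-- The principal block covers the principal block. -/
theorem covers_principal (hM : IsPModular p M) (N : Subgroup G) [Fintype N] :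
    Covers N (principalBlock M G) (principalBlock M N) := by
  refine ⟨trivIrr G, trivIrr_mem_principalBlock hM, trivIrr N, trivIrr_mem_principalBlock hM, ?_⟩
  have h1 : (fun n : N => ((trivIrr G : IrrCharacter G) : G → ℂ) n) = ((trivIrr N : IrrCharacter N) : N → ℂ) := rfl
  rw [h1, classInner_irr_self (trivIrr N).2]
  exact one_ne_zero

theorem irrCongr_mem_principalBlock {K K' : Type*} [Group K] [Group K'] [Finite K] [Finite K']
    (e : K' ≃* K) {θ : IrrCharacter K} (h : θ ∈ principalBlock M K) :
    irrCongr e θ ∈ principalBlock M K' := by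
  intro g
  have h1 := h (e g)
  rw [irrCongr_coe, centralChar_comp_equiv]
  have h2 : (fun _ : K' => (1 : ℂ)) = (fun _ : K => (1 : ℂ)) ∘ e := rfl
  rw [h2, centralChar_comp_equiv]
  exact h1

/-- Over a normal subgroup of `p`-power index, characters over the principal block are principal. -/
theorem mem_principal_of_over_index_pow (hM : IsPModular p M) {N A : Subgroup G} [Fintype N]
    [Fintype A] [Fintype (N.subgroupOf A)] (hNA : N ≤ A) (hnorm : (N.subgroupOf A).Normal)
    (hidx : ∃ k : ℕ, (N.subgroupOf A).index = p ^ k) (θ : IrrCharacter N)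
    (hθ : θ ∈ principalBlock M N) (η : IrrCharacter A)
    (hcon : classInner (resN hNA (η : A → ℂ)) (θ : N → ℂ) ≠ 0) : η ∈ principalBlock M A := by
  have h1 : Covers (N.subgroupOf A) (blockOf M (η : A → ℂ)) (principalBlock M (N.subgroupOf A)) := by
    refine ⟨η, mem_blockOf_self hM η, irrCongr (Subgroup.subgroupOfEquivOfLe hNA) θ,
      irrCongr_mem_principalBlock _ hθ, ?_⟩
    rw [irrCongr_coe, classInner_subgroupOf]
    exact hcon
  have h2 := covers_unique_of_index_pow hM hnorm hidx ⟨η, rfl⟩ (isPBlock_principal M)
    (isPBlock_principal M) h1 (covers_principal hM _)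
  rw [← h2]
  exact mem_blockOf_self hM η

/-- Over a normal subgroup, every member of the principal block lies under the principal block. -/
theorem exists_principal_over [Fact p.Prime] (hM : IsPModular p M) {A H : Subgroup G} [Fintype A]
    [Fintype H] [Fintype (A.subgroupOf H)] (hAH : A ≤ H) (hnorm : (A.subgroupOf H).Normal)
    (η : IrrCharacter A) (hη : η ∈ principalBlock M A) :
    ∃ η' ∈ principalBlock M H, classInner (resN hAH (η' : H → ℂ)) (η : A → ℂ) ≠ 0 ∧
      (charDegree (η' : H → ℂ)).factorization p
        ≤ (charDegree (η : A → ℂ)).factorization p + (A.subgroupOf H).index.factorization p := by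
  obtain ⟨η', h1, h2⟩ := exists_over_of_covers hM hnorm (isPBlock_principal M)
    (isPBlock_principal M) (covers_principal hM (A.subgroupOf H))
    (irrCongr_mem_principalBlock (Subgroup.subgroupOfEquivOfLe hAH) hη)
  refine ⟨η', h1, ?_, ?_⟩
  · rw [irrCongr_coe, classInner_subgroupOf] at h2
    exact h2
  · have h3 := factorization_charDegree_le_of_over p hnorm η' _ h2
    rw [irrCongr_coe, charDegree_comp_equiv] at h3
    exact h3

/-- The principal block of a subgroup containing `P C_G(P)` induces the principal block. -/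
theorem isInducedBlock_principal (hM : IsPModular p M) {P H : Subgroup G} (hP : IsPGroup p P)
    (hPH : P ≤ H) (hCH : Subgroup.centralizer (P : Set G) ≤ H) :
    IsInducedBlock M H (principalBlock M H) (principalBlock M G) := by
  classical
  haveI : Fintype H := Fintype.ofFinite _
  refine ⟨isPBlock_principal M, isPBlock_principal M, fun ξ hξ χ hχ g => ?_⟩
  have h1 := inducedCentralChar_sub_of_sameBlock hM (ξ := ξ) (ξ' := trivIrr H)
    (sameBlock_symm hξ) g
  have h3 := hχ g
  have h2 : MemLocalIdeal M (inducedCentralChar H ((trivIrr H : IrrCharacter H) : H → ℂ) g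
      - centralChar (fun _ : G => (1 : ℂ)) g) := by
    rw [inducedCentralChar_eq_omega, ← omega_classInd (fun _ _ => rfl)]
    have e1 : omega ((trivIrr H : IrrCharacter H) : H → ℂ) (fun h : H => classInd g (h : G))
        = ∑ x : G, if x ∈ H then classInd g x else 0 := by
      rw [← sum_subgroup_eq H (fun x => if x ∈ H then classInd g x else 0)
        (fun x hx => if_neg hx)]
      simp only [omega]
      apply Finset.sum_congr rfl
      intro h _
      rw [if_pos h.2]
      show classInd g (h : G) * 1 / 1 = _
      simp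
    have e2 : omega (fun _ : G => (1 : ℂ)) (classInd g) = ∑ x : G, classInd g x := by
      simp [omega]
    rw [e1, e2, ← Finset.sum_sub_distrib]
    let act : MulAction P G := MulAction.compHom G (MulAut.conj.comp P.subtype)
    refine @sum_memLocalIdeal_of_fixed p M hM P G _ act _ hP _ ?_ ?_ ?_
    · intro u x
      have h2 : (@HSMul.hSMul P G G (@instHSMul P G act.toSMul) u x) = (u : G) * x * (u : G)⁻¹ := rfl
      rw [h2, classInd_classFunction]
      have h4 : (u : G) * x * (u : G)⁻¹ ∈ H ↔ x ∈ H := by
        constructor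
        · intro h
          have := H.mul_mem (H.mul_mem (H.inv_mem (hPH u.2)) h) (hPH u.2)
          simpa [mul_assoc] using this
        · intro h
          exact H.mul_mem (H.mul_mem (hPH u.2) h) (H.inv_mem (hPH u.2))
      by_cases hx : x ∈ H
      · rw [if_pos hx, if_pos (h4.2 hx)]
      · rw [if_neg hx, if_neg (fun h => hx (h4.1 h))]
    · intro x
      apply memLocalRing_sub hM _ (classInd_memLocalRing hM g x)
      split_ifs
      · exact classInd_memLocalRing hM g x
      · exact memLocalRing_zero hM
    · intro x hx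
      have hx' : x ∈ Subgroup.centralizer (P : Set G) := by
        rw [Subgroup.mem_centralizer_iff]
        intro u hu
        have h2 : (u : G) * x * (u : G)⁻¹ = x := hx ⟨u, hu⟩
        calc u * x = (u * x * u⁻¹) * u := by group
          _ = x * u := by rw [h2]
      rw [if_pos (hCH hx'), sub_self]
      exact memLocalIdeal_zero hM
  have := memLocalIdeal_add hM (memLocalIdeal_add hM h1 h2) h3
  rwa [sub_add_sub_cancel, sub_add_sub_cancel] at this

/-- If `b^G = B` then every `ξ ∈ b` lies under some `χ ∈ B` with `ν(χ(1)) ≤ ν(|G:H| ξ(1))`. -/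
theorem exists_over_of_induced (hM : IsPModular p M) {H : Subgroup G} [Fintype H]
    {b : Set (IrrCharacter H)} {B : Set (IrrCharacter G)} (hind : IsInducedBlock M H b B)
    {ξ : IrrCharacter H} (hξ : ξ ∈ b) :
    ∃ χ ∈ B, classInner (fun h : H => (χ : G → ℂ) h) (ξ : H → ℂ) ≠ 0 ∧
      (charDegree (χ : G → ℂ)).factorization p
        ≤ (H.index * charDegree (ξ : H → ℂ)).factorization p := by
  classical
  haveI : Finite (IrrCharacter G) := finite_irrCharacter
  haveI : Fintype (IrrCharacter G) := Fintype.ofFinite _
  have hp : p.Prime := hM.1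
  obtain ⟨n, hn, h1, -⟩ := blockPart_indFun_of_induced hM hind hξ B hind.2.1
  obtain ⟨hn0, hν⟩ := h1 rfl
  rw [charDegree_indFun] at hν
  have hc : IsCharacter G (indFun H (ξ : H → ℂ)) :=
    Cfsg.Agent.Lib.Helper19.isCharacter_indFun H _ (isCharacter_of_isIrrCharacter ξ.2)
  have hm : ∀ χ : IrrCharacter G, ∃ m : ℕ, classInner (indFun H (ξ : H → ℂ)) (χ : G → ℂ) = m :=
    fun χ => isCharacter_classInner_nat hc χ.2
  choose m hm using hm
  rw [blockPart_one_eq_sum B _ m hm] at hn
  have hn' : (∑ χ : IrrCharacter G, if χ ∈ B then m χ * charDegree (χ : G → ℂ) else 0) = n := by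
    exact_mod_cast hn
  by_contra hcon
  push Not at hcon
  have hdvd : p ^ (n.factorization p + 1) ∣ n := by
    conv_rhs => rw [← hn']
    apply Finset.dvd_sum
    intro χ _
    split_ifs with hχ
    · by_cases hmχ : m χ = 0
      · rw [hmχ, zero_mul]; exact dvd_zero _
      · have h2 : classInner (fun h : H => (χ : G → ℂ) h) (ξ : H → ℂ) ≠ 0 := by
          rw [← classInner_conj_symm, ← Cfsg.Agent.Lib.Helper19.frobenius_reciprocity H _ _
            (irr_classFunction χ), hm]
          simpa using hmχ
        have h3 := hcon χ hχ h2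
        rw [← hν] at h3
        apply Dvd.dvd.mul_left
        exact (pow_dvd_pow p h3).trans (Nat.ordProj_dvd _ _)
    · exact dvd_zero _
  exact Nat.pow_succ_factorization_not_dvd hn0 hp hdvd

end basic

end Cfsg.Agent.Lib.Helper21
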