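import Cfsg.Agent.Lib.Helper21.Regular
import Cfsg.Agent.Lib.Helper21.Cover3

set_option autoImplicit false
open Cfsg
open scoped ComplexConjugate
open Cfsg.Agent.Lib.Helper20 Cfsg.Agent.Lib.Helper81

namespace Cfsg.Agent.Lib.Helper21

variable {p : ℕ} {M : Ideal AlgInt}

/-- The preimage in `G` of the centralizer of the image of `g` in `G ⧸ P`. -/
def quotCent {G : Type*} [Group G] (P : Subgroup G) [P.Normal] (g : G) : Subgroup G :=
  (Subgroup.centralizer ({(g : G ⧸ P)} : Set (G ⧸ P))).comap (QuotientGroup.mk' P)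

theorem centralizer_le_quotCent {G : Type*} [Group G] (P : Subgroup G) [P.Normal] (g : G) :
    Subgroup.centralizer ({g} : Set G) ≤ quotCent P g := by
  intro x hx
  rw [Subgroup.mem_centralizer_singleton_iff] at hx
  rw [quotCent, Subgroup.mem_comap, Subgroup.mem_centralizer_singleton_iff]
  show ((x : G ⧸ P)) * (g : G ⧸ P) = (g : G ⧸ P) * (x : G ⧸ P)
  rw [← QuotientGroup.mk_mul, ← QuotientGroup.mk_mul, hx]

/-- The central character of an inflated function. -/
theorem centralChar_inflate {G : Type*} [Group G] [Finite G] (P : Subgroup G) [P.Normal]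
    (ψ : G ⧸ P → ℂ) (g : G) :
    centralChar (ψ ∘ QuotientGroup.mk) g =
      ((Subgroup.centralizer ({g} : Set G)).relIndex (quotCent P g) : ℂ)
        * centralChar ψ (g : G ⧸ P) := by
  have hidx : (quotCent P g).index
      = (Subgroup.centralizer ({(g : G ⧸ P)} : Set (G ⧸ P))).index :=
    Subgroup.index_comap_of_surjective _ (QuotientGroup.mk'_surjective P)
  have hmul := Subgroup.relIndex_mul_index (centralizer_le_quotCent P g)
  simp only [centralChar]
  rw [← hmul, hidx]
  simp only [Function.comp]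
  rw [QuotientGroup.mk_one]
  push_cast
  ring

/-- Inflation preserves `SameBlock`. -/
theorem sameBlock_inflate {G : Type*} [Group G] [Finite G] (hM : IsPModular p M)
    (P : Subgroup G) [P.Normal] {χ ψ : G ⧸ P → ℂ} (h : SameBlock M χ ψ) :
    SameBlock M (χ ∘ QuotientGroup.mk) (ψ ∘ QuotientGroup.mk) := by
  intro g
  rw [centralChar_inflate, centralChar_inflate, ← mul_sub]
  exact memLocalIdeal_mul_left hM (memLocalRing_natCast hM _) (h _)

/-- A `p`-regular element centralizing the normal `p`-subgroup `P`: the centralizer of its image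
in `G ⧸ P` is the image of its centralizer. -/
theorem quotCent_eq_of_regular {G : Type*} [Group G] [Finite G] (hp : p.Prime)
    (P : Subgroup G) [P.Normal] (hP : IsPGroup p P) {g : G} (hg : ¬ p ∣ orderOf g)
    (hc : g ∈ Subgroup.centralizer (P : Set G)) :
    quotCent P g = Subgroup.centralizer ({g} : Set G) := by
  apply le_antisymm _ (centralizer_le_quotCent P g)
  intro x hx
  rw [quotCent, Subgroup.mem_comap, Subgroup.mem_centralizer_singleton_iff] at hx
  have hx' : ((x * g : G) : G ⧸ P) = ((g * x : G) : G ⧸ P) := hx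
  rw [QuotientGroup.eq] at hx'
  -- u = (x g)⁻¹ (g x) ∈ P
  set u := g⁻¹ * (x⁻¹ * g * x) with hu
  have huP : u ∈ P := by
    have : (x * g)⁻¹ * (g * x) = u := by rw [hu]; group
    rwa [this] at hx'
  have hcomm : Commute g u := by
    rw [Subgroup.mem_centralizer_iff] at hc
    exact (hc u huP).symm
  have h1 : x⁻¹ * g * x = g * u := by rw [hu]; group
  have h2 : (x⁻¹ * g * x) ^ orderOf g = 1 := by
    have : x⁻¹ * g * x = x⁻¹ * g * (x⁻¹)⁻¹ := by rw [inv_inv]
    rw [this, conj_pow, pow_orderOf_eq_one]; group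
  rw [h1, hcomm.mul_pow, pow_orderOf_eq_one, one_mul] at h2
  obtain ⟨k, hk⟩ := hP ⟨u, huP⟩
  have hk' : u ^ p ^ k = 1 := by
    have := congrArg Subtype.val hk
    simpa using this
  have hcop : Nat.Coprime (orderOf g) (p ^ k) :=
    Nat.Coprime.pow_right k ((Nat.Prime.coprime_iff_not_dvd hp).2 hg).symm
  have hu1 : u = 1 := by
    have h3 : orderOf u ∣ orderOf g := orderOf_dvd_of_pow_eq_one h2
    have h4 : orderOf u ∣ p ^ k := orderOf_dvd_of_pow_eq_one hk'
    have := Nat.eq_one_of_dvd_coprimes hcop h3 h4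
    exact orderOf_eq_one_iff.1 this
  rw [hu1, mul_one] at h1
  rw [Subgroup.mem_centralizer_singleton_iff]
  calc x * g = x * (x⁻¹ * g * x) := by rw [h1]
    _ = g * x := by group

/-- Lifting a `p`-regular element of `G ⧸ P`, `P` a `p`-group. -/
theorem exists_regular_lift {G : Type*} [Group G] [Finite G] (hp : p.Prime)
    (P : Subgroup G) [P.Normal] (hP : IsPGroup p P) {q : G ⧸ P} (hq : ¬ p ∣ orderOf q) :
    ∃ g : G, (g : G ⧸ P) = q ∧ ¬ p ∣ orderOf g := by
  obtain ⟨g0, rfl⟩ := QuotientGroup.mk_surjective q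
  set o := orderOf (g0 : G ⧸ P) with ho
  have h1 : g0 ^ o ∈ P := by
    rw [← QuotientGroup.eq_one_iff, QuotientGroup.mk_pow, ho, pow_orderOf_eq_one]
  obtain ⟨a, ha⟩ := hP ⟨g0 ^ o, h1⟩
  have ha' : (g0 ^ o) ^ p ^ a = 1 := by
    have := congrArg Subtype.val ha
    simpa using this
  have hcop : IsCoprime ((p : ℤ) ^ a) (o : ℤ) := by
    apply IsCoprime.pow_left
    rw [Nat.isCoprime_iff_coprime]
    exact (Nat.Prime.coprime_iff_not_dvd hp).2 hq
  obtain ⟨u, v, huv⟩ := hcop
  refine ⟨g0 ^ (u * (p : ℤ) ^ a), ?_, ?_⟩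
  · rw [QuotientGroup.mk_zpow]
    have h2 : u * (p : ℤ) ^ a = 1 - v * o := by linarith
    rw [h2, zpow_sub, zpow_one, zpow_mul', zpow_natCast, ho, pow_orderOf_eq_one, one_zpow, inv_one,
      mul_one]
  · intro hd
    apply hq
    apply hd.trans
    apply orderOf_dvd_of_pow_eq_one
    rw [← zpow_natCast, ← zpow_mul]
    have h3 : u * (p : ℤ) ^ a * (o : ℤ) = ((o * p ^ a : ℕ) : ℤ) * u := by push_cast; ring
    rw [h3, zpow_mul, zpow_natCast, pow_mul, ha', one_zpow]

/-- General criterion: blocks of `G ⧸ P` versus blocks of `G`, for a normal `p`-subgroup `P`. -/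
theorem sameBlock_quot_iff {G : Type*} [Group G] [Finite G] (hM : IsPModular p M)
    (P : Subgroup G) [P.Normal] (hP : IsPGroup p P)
    (hreg : ∀ g : G, ¬ p ∣ orderOf g → g ∉ Subgroup.centralizer (P : Set G) →
      ∀ χ : IrrCharacter (G ⧸ P), MemLocalIdeal M (centralChar (χ : G ⧸ P → ℂ) (g : G ⧸ P)))
    (χ ψ : IrrCharacter (G ⧸ P)) :
    SameBlock M (χ : G ⧸ P → ℂ) (ψ : G ⧸ P → ℂ) ↔
      SameBlock M ((χ : G ⧸ P → ℂ) ∘ QuotientGroup.mk) ((ψ : G ⧸ P → ℂ) ∘ QuotientGroup.mk) := by
  classical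
  haveI : Fintype (G ⧸ P) := Fintype.ofFinite _
  refine ⟨sameBlock_inflate hM P, fun h => ?_⟩
  apply sameBlock_of_agree_on_regular hM
  intro q hq
  obtain ⟨g, rfl, hg⟩ := exists_regular_lift hM.1 P hP hq
  by_cases hc : g ∈ Subgroup.centralizer (P : Set G)
  · have h1 := h g
    rw [centralChar_inflate, centralChar_inflate, quotCent_eq_of_regular hM.1 P hP hg hc,
      Subgroup.relIndex_self, Nat.cast_one, one_mul, one_mul] at h1
    have := memLocalIdeal_neg h1
    rwa [neg_sub] at this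
  · exact memLocalIdeal_sub hM (hreg g hg hc ψ) (hreg g hg hc χ)

/-- Every block contains a character with a given normal `p`-subgroup in its kernel. -/
theorem exists_inflation_mem_block {G : Type*} [Group G] [Finite G] (hM : IsPModular p M)
    (P : Subgroup G) [hPn : P.Normal] (hP : IsPGroup p P)
    (b : Set (IrrCharacter G)) (hbB : IsPBlock M b) :
    ∃ χ : IrrCharacter (G ⧸ P), ∃ θ ∈ b, (θ : G → ℂ) = (χ : G ⧸ P → ℂ) ∘ QuotientGroup.mk := by
  classical
  haveI : Fintype G := Fintype.ofFinite _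
  haveI : Fact p.Prime := ⟨hM.1⟩
  haveI : Finite (IrrCharacter G) := finite_irrCharacter
  haveI : Fintype (IrrCharacter G) := Fintype.ofFinite _
  obtain ⟨ξ, rfl⟩ := hbB
  set b := blockOf M (ξ : G → ℂ) with hb
  have hbB : IsPBlock M b := ⟨ξ, rfl⟩
  have hex : ∃ ξ0 ∈ b, ∑ u : P, (ξ0 : G → ℂ) u ≠ 0 := by
    by_contra hcon
    push Not at hcon
    have h1 : ∑ u : P, blockCoeff b (u : G) = blockCoeff b 1 := by
      rw [Finset.sum_eq_single (1 : P)]
      · rfl
      · intro u _ hu
        apply blockCoeff_eq_zero_of_singular hM b hbB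
        obtain ⟨k, hk⟩ := (IsPGroup.iff_orderOf.1 hP) u
        rw [← Subgroup.orderOf_coe] at hk
        rw [hk]
        apply dvd_pow_self
        rintro rfl
        rw [pow_zero, orderOf_eq_one_iff] at hk
        exact hu (Subtype.ext hk)
      · intro h; exact absurd (Finset.mem_univ _) h
    have h2 : ∑ u : P, blockCoeff b (u : G) = 0 := by
      simp only [blockCoeff, finsum_mem_irr]
      rw [← Finset.mul_sum, Finset.sum_comm]
      rw [Finset.sum_eq_zero, mul_zero]
      intro χ _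
      by_cases hχ : χ ∈ b
      · simp only [if_pos hχ]
        rw [← Finset.mul_sum, ← map_sum, hcon χ hχ, map_zero, mul_zero]
      · simp [if_neg hχ]
    have h3 : blockCoeff b 1 ≠ 0 := by
      simp only [blockCoeff, finsum_mem_irr]
      apply mul_ne_zero (inv_ne_zero card_ne_zero_complex)
      have h4 : ∀ χ : IrrCharacter G, ∃ n : ℕ, (χ : G → ℂ) 1 = n :=
        fun χ => isCharacter_apply_one (isCharacter_of_isIrrCharacter χ.2)
      choose n hn using h4
      have h5 : (∑ χ : IrrCharacter G, if χ ∈ b then (χ : G → ℂ) 1 * conj ((χ : G → ℂ) 1) else 0)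
          = ((∑ χ : IrrCharacter G, if χ ∈ b then n χ * n χ else 0 : ℕ) : ℂ) := by
        push_cast
        apply Finset.sum_congr rfl
        intro χ _
        split_ifs
        · rw [hn χ]; simp
        · rfl
      rw [h5, Nat.cast_ne_zero]
      intro h6
      rw [Finset.sum_eq_zero_iff] at h6
      have h7 := h6 ξ (Finset.mem_univ _)
      rw [if_pos (mem_blockOf_self hM ξ)] at h7
      have h8 : n ξ = 0 := by
        rcases Nat.mul_eq_zero.1 h7 with h | h <;> exact h
      have h9 := irr_one_ne_zero ξ.2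
      rw [hn ξ, h8] at h9
      exact h9 (by simp)
    exact h3 (h1.symm.trans h2)
  obtain ⟨ξ0, hξ0b, hξ0s⟩ := hex
  have hker := irr_ker_of_sum_ne_zero P ξ0.2 hξ0s
  obtain ⟨ψ, hψirr, hψ⟩ := Cfsg.Agent.Lib.Helper82.isIrr_deflate ξ0.2 P hker
  exact ⟨⟨ψ, hψirr⟩, ξ0, hξ0b, funext fun g => (hψ g).symm⟩

end Cfsg.Agent.Lib.Helper21
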