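import Cfsg.Agent.Lib.Helper21.Quot
import Cfsg.Agent.Lib.Helper21.MinMax
import Cfsg.Agent.Lib.Helper21.DefectCard
import Cfsg.Agent.Lib.Helper21.Induced
import Cfsg.Agent.Lib.Helper20.HeightZero
import Cfsg.Agent.Lib.Helper81.Subsections

set_option autoImplicit false
open Cfsg
open scoped ComplexConjugate
open Cfsg.Agent.Lib.Helper20 Cfsg.Agent.Lib.Helper81

namespace Cfsg.Agent.Lib.Helper21

variable {p : ℕ} {M : Ideal AlgInt}

section Sylow

variable {G : Type*} [Group G]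

theorem sylowIn_iff_relIndex [Finite G] [Fact p.Prime] {K P : Subgroup G} :
    SylowIn p K P ↔ P ≤ K ∧ IsPGroup p P ∧ ¬ p ∣ P.relIndex K := by
  constructor
  · intro h
    refine ⟨h.le, h.isPGroup, ?_⟩
    obtain ⟨S, rfl⟩ := h
    have h1 : ((S : Subgroup K).map K.subtype).subgroupOf K = (S : Subgroup K) := by
      ext x
      simp [Subgroup.mem_subgroupOf]
    rw [Subgroup.relIndex, h1]
    exact S.not_dvd_index
  · rintro ⟨h1, h2, h3⟩
    exact ⟨(h2.comap_subtype (K := K)).toSylow h3, Subgroup.map_subgroupOf_eq_of_le h1⟩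

theorem sylowIn_of_relIndex [Finite G] [Fact p.Prime] {A C Q : Subgroup G} (hQ : SylowIn p A Q)
    (hAC : A ≤ C) (h : ¬ p ∣ A.relIndex C) : SylowIn p C Q := by
  rw [sylowIn_iff_relIndex] at hQ ⊢
  refine ⟨hQ.1.trans hAC, hQ.2.1, ?_⟩
  have h1 := Subgroup.relIndex_mul_relIndex (H := Q) (K := A) (L := C) hQ.1 hAC
  rw [← h1]
  exact (Fact.out : p.Prime).not_dvd_mul hQ.2.2 h

theorem sylowIn_map_of_comap [Finite G] [Fact p.Prime] {G' : Type*} [Group G'] [Finite G']
    {f : G →* G'} (hf : Function.Surjective f) {K' : Subgroup G'} {Q : Subgroup G}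
    (hQ : SylowIn p (K'.comap f) Q) : SylowIn p K' (Q.map f) := by
  rw [sylowIn_iff_relIndex] at hQ ⊢
  refine ⟨Subgroup.map_le_iff_le_comap.2 hQ.1, hQ.2.1.map f, fun hd => hQ.2.2 (hd.trans ?_)⟩
  have h1 : K' = (K'.comap f).map f := (Subgroup.map_comap_eq_self_of_surjective hf K').symm
  have h2 : f.ker ≤ K'.comap f := by
    intro x hx
    rw [Subgroup.mem_comap, MonoidHom.mem_ker.1 hx]
    exact K'.one_mem
  conv_lhs => rw [h1]
  rw [Subgroup.relIndex_map_map, sup_eq_left.2 h2]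
  exact Subgroup.relIndex_dvd_of_le_left _ le_sup_left

theorem exists_sylowIn [Fact p.Prime] (K : Subgroup G) : ∃ Q, SylowIn p K Q := by
  obtain ⟨S⟩ : Nonempty (Sylow p K) := inferInstance
  exact ⟨_, S, rfl⟩

end Sylow

/-- Any two defect groups of a block are conjugate. -/
theorem isDefectGroup_exists_conj {G : Type*} [Group G] [Fintype G] [Fact p.Prime]
    (hM : IsPModular p M) (B : Set (IrrCharacter G)) (hB : IsPBlock M B) {D₁ D₂ : Subgroup G}
    (h₁ : IsDefectGroup p M B D₁) (h₂ : IsDefectGroup p M B D₂) :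
    ∃ x : G, D₁.map (MulAut.conj x).toMonoidHom = D₂ := by
  obtain ⟨g₁, hg₁, hS₁⟩ := isDefectGroup_iff.1 h₁
  obtain ⟨g₂, hg₂, hS₂⟩ := isDefectGroup_iff.1 h₂
  obtain ⟨x, hx⟩ := minmax_le_conj hM B hB g₂ g₁ hg₂.2.2 hg₁.2.1 D₂ hS₂ D₁ hS₁.isPGroup hS₁.le
  refine ⟨x, Subgroup.eq_of_le_of_card_ge hx ?_⟩
  rw [card_map_conj, card_defectGroup hM B hB D₁ h₁, card_defectGroup hM B hB D₂ h₂]

section Push

variable {G : Type*} [Group G] [Fintype G]

/-- Push-forward of a function to the quotient group (image in the group algebra). -/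
noncomputable def pushQ (N : Subgroup G) (z : G → ℂ) : G ⧸ N → ℂ := fun q => by
  classical exact ∑ g : G, if (g : G ⧸ N) = q then z g else 0

theorem omega_inflate_eq_omega_pushQ (N : Subgroup G) [N.Normal] [Fintype (G ⧸ N)]
    (χ : G ⧸ N → ℂ) (z : G → ℂ) :
    omega (χ ∘ QuotientGroup.mk) z = omega χ (pushQ N z) := by
  classical
  simp only [omega, pushQ, Function.comp]
  have h1 : ∀ q : G ⧸ N, (∑ g : G, if (g : G ⧸ N) = q then z g else 0) * χ q / χ 1
      = ∑ g : G, if (g : G ⧸ N) = q then z g * χ (g : G ⧸ N) / χ ((1 : G) : G ⧸ N) else 0 := by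
    intro q
    rw [Finset.sum_mul, Finset.sum_div]
    apply Finset.sum_congr rfl
    intro g _
    split_ifs with h
    · rw [h]; rfl
    · simp
  simp only [h1]
  rw [Finset.sum_comm]
  apply Finset.sum_congr rfl
  intro g _
  rw [Finset.sum_ite_eq]
  simp

theorem pushQ_classFunction (N : Subgroup G) [N.Normal] {z : G → ℂ} (hz : IsClassFunction G z) :
    IsClassFunction (G ⧸ N) (pushQ N z) := by
  classical
  intro q t
  obtain ⟨t, rfl⟩ := QuotientGroup.mk_surjective t
  simp only [pushQ]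
  apply Fintype.sum_equiv (MulAut.conj t⁻¹).toEquiv
  intro g
  simp only [MulEquiv.toEquiv_eq_coe, MulEquiv.coe_toEquiv, MulAut.conj_apply, inv_inv]
  have h1 : z (t⁻¹ * g * t) = z g := by
    have := hz g t⁻¹
    rwa [inv_inv] at this
  rw [h1]
  have h2 : ((g : G ⧸ N) = (t : G ⧸ N) * q * (t : G ⧸ N)⁻¹)
      ↔ (((t⁻¹ * g * t : G) : G ⧸ N) = q) := by
    rw [QuotientGroup.mk_mul, QuotientGroup.mk_mul, QuotientGroup.mk_inv]
    constructor
    · intro h; rw [h]; group
    · intro h; rw [← h]; group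
  simp only [h2]

theorem pushQ_apply_mk (N : Subgroup G) [N.Normal] [Fintype N] (z : G → ℂ) (x : G) :
    pushQ N z (x : G ⧸ N) = ∑ n : N, z (x * n) := by
  classical
  simp only [pushQ]
  rw [← Finset.sum_filter]
  symm
  apply Finset.sum_bij (fun (n : N) _ => x * (n : G))
  · intro n _
    rw [Finset.mem_filter]
    refine ⟨Finset.mem_univ _, ?_⟩
    rw [QuotientGroup.mk_mul, (QuotientGroup.eq_one_iff (n : G)).2 n.2, mul_one]
  · intro a _ b _ h
    exact Subtype.ext (mul_left_cancel h)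
  · intro g hg
    rw [Finset.mem_filter] at hg
    have h1 : x⁻¹ * g ∈ N := QuotientGroup.eq.1 hg.2.symm
    exact ⟨⟨x⁻¹ * g, h1⟩, Finset.mem_univ _, by simp⟩
  · intro n _; rfl

end Push

section Main

variable {G : Type*} [Group G] [Fintype G]

omit [Fintype G] in
/-- Inflation of an irreducible character of a quotient. -/
noncomputable def inflIrr (N : Subgroup G) [N.Normal] (χ : IrrCharacter (G ⧸ N)) :
    IrrCharacter G :=
  ⟨(χ : G ⧸ N → ℂ) ∘ QuotientGroup.mk, Cfsg.Agent.Lib.Helper82.isIrr_inflate χ.2⟩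

omit [Fintype G] in
theorem inflIrr_coe (N : Subgroup G) [N.Normal] (χ : IrrCharacter (G ⧸ N)) :
    (inflIrr N χ : G → ℂ) = (χ : G ⧸ N → ℂ) ∘ QuotientGroup.mk := rfl

omit [Fintype G] in
theorem map_conj_map_mk' (N : Subgroup G) [N.Normal] (P : Subgroup G) (w : G) :
    (P.map (MulAut.conj w).toMonoidHom).map (QuotientGroup.mk' N)
      = (P.map (QuotientGroup.mk' N)).map (MulAut.conj (w : G ⧸ N)).toMonoidHom := by
  rw [Subgroup.map_map, Subgroup.map_map]
  congr 1

/-- There is a class on which both the block idempotent and a given member of the block are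
units. -/
theorem exists_unit_coeff_unit_centralChar (hM : IsPModular p M) (B : Set (IrrCharacter G))
    (hB : IsPBlock M B) (χ : IrrCharacter G) (hχ : χ ∈ B) :
    ∃ y : G, ¬ MemLocalIdeal M (blockCoeff B y) ∧
      ¬ MemLocalIdeal M (centralChar (χ : G → ℂ) y) := by
  classical
  haveI : Fintype (ConjClasses G) := Fintype.ofFinite _
  by_contra hcon
  push Not at hcon
  apply not_memLocalIdeal_one hM
  have h1 : omega (χ : G → ℂ) (blockCoeff B) = 1 := by rw [omega_blockCoeff, if_pos hχ]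
  rw [← h1, omega_eq_sum_classes (irr_classFunction χ) (blockCoeff_classFunction B)]
  apply memLocalIdeal_sum hM
  intro C _
  by_cases h : MemLocalIdeal M (blockCoeff B (Quotient.out C))
  · exact memLocalIdeal_mul_right hM h (centralChar_memLocalRing hM χ _)
  · exact memLocalIdeal_mul_left hM (osima hM B hB _) (hcon _ h)

/-- Defect groups of a block of `G ⧸ N` contained in the block `B` of `G`. -/
theorem defectGroup_quotient_le [Fact p.Prime] (hM : IsPModular p M) (N : Subgroup G) [N.Normal]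
    [Fintype (G ⧸ N)]
    (Bbar : Set (IrrCharacter (G ⧸ N))) (hBbar : IsPBlock M Bbar) (B : Set (IrrCharacter G))
    (hB : IsPBlock M B) (hsub : ∀ χ ∈ Bbar, inflIrr N χ ∈ B) (Dbar : Subgroup (G ⧸ N))
    (hDbar : IsDefectGroup p M Bbar Dbar) :
    ∃ P : Subgroup G, IsDefectGroup p M B P ∧ Dbar ≤ P.map (QuotientGroup.mk' N) := by
  classical
  obtain ⟨χb, hχb⟩ := isPBlock_nonempty hM hBbar
  obtain ⟨y, hy1, hy2⟩ := exists_unit_coeff_unit_centralChar hM B hB _ (hsub χb hχb)
  rw [inflIrr_coe, centralChar_inflate] at hy2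
  have hrel : ¬ p ∣ (Subgroup.centralizer ({y} : Set G)).relIndex (quotCent N y) := by
    intro hd
    exact hy2 (memLocalIdeal_mul_right hM ((memLocalIdeal_natCast_iff hM _).2 hd)
      (centralChar_memLocalRing hM χb _))
  have hcc : ¬ MemLocalIdeal M (centralChar (χb : G ⧸ N → ℂ) (y : G ⧸ N)) := fun hc =>
    hy2 (memLocalIdeal_mul_left hM (memLocalRing_natCast hM _) hc)
  obtain ⟨Q, hQ⟩ := exists_sylowIn (p := p) (Subgroup.centralizer ({y} : Set G))
  obtain ⟨P₀, hP₀⟩ := exists_isDefectGroup hM B hB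
  obtain ⟨g₀, hg₀, hS₀⟩ := isDefectGroup_iff.1 hP₀
  obtain ⟨x, hx⟩ := minmax_le_conj hM B hB g₀ y hg₀.2.2 hy1 P₀ hS₀ Q hQ.isPGroup hQ.le
  have hQ' : SylowIn p (Subgroup.centralizer ({(y : G ⧸ N)} : Set (G ⧸ N)))
      (Q.map (QuotientGroup.mk' N)) :=
    sylowIn_map_of_comap (QuotientGroup.mk'_surjective N)
      (sylowIn_of_relIndex hQ (centralizer_le_quotCent N y) hrel)
  obtain ⟨h, hh, hSh⟩ := isDefectGroup_iff.1 hDbar
  obtain ⟨xb, hxb⟩ := minmax_le_conj hM Bbar hBbar (y : G ⧸ N) h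
    (fun χ hχ => not_memLocalIdeal_of_sub hM
      (isPBlock_sameBlock hM hBbar hχ hχb (y : G ⧸ N)) hcc) hh.2.1 _ hQ' Dbar hSh.isPGroup hSh.le
  obtain ⟨w, rfl⟩ := QuotientGroup.mk_surjective xb
  refine ⟨P₀.map (MulAut.conj (w⁻¹ * x⁻¹)).toMonoidHom, isDefectGroup_conj hP₀ _, ?_⟩
  intro d hd
  have h1 : (w : G ⧸ N) * d * (w : G ⧸ N)⁻¹ ∈ Q.map (QuotientGroup.mk' N) :=
    hxb (Subgroup.mem_map.2 ⟨d, hd, rfl⟩)
  obtain ⟨q, hq, hqd⟩ := Subgroup.mem_map.1 h1
  have h2 : x * q * x⁻¹ ∈ P₀ := hx (Subgroup.mem_map.2 ⟨q, hq, rfl⟩)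
  refine Subgroup.mem_map.2 ⟨w⁻¹ * q * w, ?_, ?_⟩
  · rw [mem_map_conj]
    have : (w⁻¹ * x⁻¹)⁻¹ * (w⁻¹ * q * w) * (w⁻¹ * x⁻¹) = x * q * x⁻¹ := by group
    rw [this]; exact h2
  · have h3 : QuotientGroup.mk' N (w⁻¹ * q * w)
        = (w : G ⧸ N)⁻¹ * QuotientGroup.mk' N q * (w : G ⧸ N) := rfl
    rw [h3, hqd]; group

/-- The image of a block idempotent in the group algebra of a quotient. -/
theorem pushQ_blockCoeff (N : Subgroup G) [N.Normal] [Fintype (G ⧸ N)]
    (B : Set (IrrCharacter G)) :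
    pushQ N (blockCoeff B) = blockCoeff {χ : IrrCharacter (G ⧸ N) | inflIrr N χ ∈ B} := by
  classical
  apply eq_of_omega_eq (pushQ_classFunction N (blockCoeff_classFunction B))
    (blockCoeff_classFunction _)
  intro χ
  rw [← omega_inflate_eq_omega_pushQ, ← inflIrr_coe, omega_blockCoeff, omega_blockCoeff]
  rfl

/-- The idempotent of a union of blocks is the sum of the block idempotents; in particular if it
is a unit somewhere, so is one of the block idempotents. -/
theorem exists_block_unit_coeff_of_union' {K : Type*} [Group K] [Fintype K] (hM : IsPModular p M)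
    (X : Set (IrrCharacter K))
    (hX : ∀ χ ∈ X, ∀ ψ : IrrCharacter K, SameBlock M (χ : K → ℂ) (ψ : K → ℂ) → ψ ∈ X) (x : K)
    (hx : ¬ MemLocalIdeal M (blockCoeff X x)) :
    ∃ b : Set (IrrCharacter K), IsPBlock M b ∧ b ⊆ X ∧ ¬ MemLocalIdeal M (blockCoeff b x) := by
  classical
  haveI : Finite (IrrCharacter K) := finite_irrCharacter
  haveI : Fintype (IrrCharacter K) := Fintype.ofFinite _
  by_contra hcon
  push Not at hcon
  apply hx
  simp only [blockCoeff, finsum_mem_irr]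
  rw [sum_irr_eq_sum_blocks hM, Finset.mul_sum]
  apply memLocalIdeal_sum hM
  intro b _
  split_ifs with hb
  · by_cases hbX : b ⊆ X
    · have h1 := hcon b hb hbX
      simp only [blockCoeff, finsum_mem_irr] at h1
      convert h1 using 3
      rename_i ψ _
      by_cases hψ : ψ ∈ b
      · rw [if_pos hψ, if_pos hψ, if_pos (hbX hψ)]
      · rw [if_neg hψ, if_neg hψ]
    · have h2 : ∀ ψ ∈ b, ψ ∉ X := by
        intro ψ hψ hψX
        apply hbX
        intro ψ' hψ'
        exact hX ψ hψX ψ' (isPBlock_sameBlock hM hb hψ hψ')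
      rw [Finset.sum_eq_zero, mul_zero]
      · exact memLocalIdeal_zero hM
      · intro ψ _
        by_cases hψ : ψ ∈ b
        · rw [if_pos hψ, if_neg (h2 ψ hψ)]
        · rw [if_neg hψ]
  · rw [mul_zero]; exact memLocalIdeal_zero hM

/-- For a normal `p`-subgroup `N`, every block of `G` contains a block of `G ⧸ N` whose defect
groups are the images of the defect groups of `B`. -/
theorem exists_quotient_block_defect [Fact p.Prime] (hM : IsPModular p M) (N : Subgroup G)
    [N.Normal] [Fintype (G ⧸ N)] (hN : IsPGroup p N) (B : Set (IrrCharacter G))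
    (hB : IsPBlock M B) :
    ∃ Bbar : Set (IrrCharacter (G ⧸ N)), IsPBlock M Bbar ∧ (∀ χ ∈ Bbar, inflIrr N χ ∈ B) ∧
      ∀ Dbar : Subgroup (G ⧸ N), IsDefectGroup p M Bbar Dbar ↔
        ∃ P : Subgroup G, IsDefectGroup p M B P ∧ Dbar = P.map (QuotientGroup.mk' N) := by
  classical
  haveI : Fintype N := Fintype.ofFinite _
  obtain ⟨x, hx⟩ := exists_defectClass hM B hB
  have hreg : ¬ p ∣ orderOf x := by
    intro hd
    apply hx.2.1
    rw [blockCoeff_eq_zero_of_singular hM B hB hd]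
    exact memLocalIdeal_zero hM
  have hcent : x ∈ Subgroup.centralizer (N : Set G) := by
    by_contra hc
    obtain ⟨χ, hχ⟩ := isPBlock_nonempty hM hB
    exact hx.2.2 χ hχ (centralChar_memLocalIdeal_of_not_mem_centralizer hM N hN χ x hc)
  set X : Set (IrrCharacter (G ⧸ N)) := {χ | inflIrr N χ ∈ B} with hXdef
  have hval : blockCoeff X (x : G ⧸ N) = blockCoeff B x := by
    rw [hXdef, ← pushQ_blockCoeff, pushQ_apply_mk, Finset.sum_eq_single (1 : N)]
    · simp
    · intro n _ hn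
      apply blockCoeff_eq_zero_of_singular hM B hB
      have hc : (n : G) * x = x * n := by
        rw [Subgroup.mem_centralizer_iff] at hcent
        exact hcent n n.2
      rw [← hc]
      apply dvd_orderOf_mul_of_pGroup hM.1 _ _ hreg hc
      · obtain ⟨k, hk⟩ := (IsPGroup.iff_orderOf.1 hN) n
        exact ⟨k, by rw [Subgroup.orderOf_coe]; exact hk⟩
      · intro h1
        exact hn (Subtype.ext h1)
    · intro h; exact absurd (Finset.mem_univ _) h
  have hXu : ∀ χ ∈ X, ∀ ψ : IrrCharacter (G ⧸ N),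
      SameBlock M (χ : G ⧸ N → ℂ) (ψ : G ⧸ N → ℂ) → ψ ∈ X := by
    intro χ hχ ψ hs
    have h1 : SameBlock M (inflIrr N χ : G → ℂ) (inflIrr N ψ : G → ℂ) := sameBlock_inflate hM N hs
    show inflIrr N ψ ∈ B
    rw [isPBlock_eq_blockOf hM hB hχ]
    exact h1
  obtain ⟨Bbar, hBbar, hsub, hunit⟩ := exists_block_unit_coeff_of_union' hM X hXu (x : G ⧸ N)
    (by rw [hval]; exact hx.2.1)
  have hq := quotCent_eq_of_regular hM.1 N hN hreg hcent
  have hdc : IsDefectClass M Bbar (x : G ⧸ N) := by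
    refine ⟨osima hM Bbar hBbar _, hunit, fun χ hχ => ?_⟩
    have h1 := hx.2.2 _ (hsub hχ)
    rwa [inflIrr_coe, centralChar_inflate, hq, Subgroup.relIndex_self, Nat.cast_one, one_mul] at h1
  obtain ⟨P₀, hP₀⟩ := exists_sylowIn (p := p) (Subgroup.centralizer ({x} : Set G))
  have hP₀B : IsDefectGroup p M B P₀ := isDefectGroup_iff.2 ⟨x, hx, hP₀⟩
  have hP₀' : IsDefectGroup p M Bbar (P₀.map (QuotientGroup.mk' N)) := by
    refine isDefectGroup_iff.2 ⟨_, hdc, sylowIn_map_of_comap (QuotientGroup.mk'_surjective N) ?_⟩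
    have : (Subgroup.centralizer ({(x : G ⧸ N)} : Set (G ⧸ N))).comap (QuotientGroup.mk' N)
        = Subgroup.centralizer ({x} : Set G) := hq
    rw [this]; exact hP₀
  refine ⟨Bbar, hBbar, fun χ hχ => hsub hχ, fun Dbar => ⟨fun hD => ?_, ?_⟩⟩
  · obtain ⟨xb, hxb⟩ := isDefectGroup_exists_conj hM Bbar hBbar hP₀' hD
    obtain ⟨w, rfl⟩ := QuotientGroup.mk_surjective xb
    exact ⟨_, isDefectGroup_conj hP₀B w, by rw [map_conj_map_mk', hxb]⟩
  · rintro ⟨P, hP, rfl⟩
    obtain ⟨w, hw⟩ := isDefectGroup_exists_conj hM B hB hP₀B hP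
    rw [← hw, map_conj_map_mk']
    exact isDefectGroup_conj hP₀' _

end Main

end Cfsg.Agent.Lib.Helper21
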