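import Mathlib

set_option autoImplicit false

namespace Cfsg.Agent.Lib.Helper21

open Matrix

/-- the rank of the normal form. -/
theorem rank_normalForm {L : Type*} [Field L] {m : Type*} [Fintype m] [DecidableEq m] (r s : ℕ)
    (e : m ≃ Fin r ⊕ Fin s) :
    (((fromBlocks 1 0 0 0 : Matrix (Fin r ⊕ Fin s) (Fin r ⊕ Fin s) L)).submatrix e e).rank = r := by
  classical
  rw [rank_submatrix]
  have h1 : (fromBlocks 1 0 0 0 : Matrix (Fin r ⊕ Fin s) (Fin r ⊕ Fin s) L)
      = diagonal (Sum.elim (fun _ => 1) (fun _ => 0)) := by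
    rw [← diagonal_one, ← diagonal_zero, fromBlocks_diagonal]
  rw [h1, rank_diagonal]
  have h2 : Fintype.card {i : Fin r ⊕ Fin s // Sum.elim (fun _ => (1 : L)) (fun _ => 0) i ≠ 0}
      = Fintype.card (Fin r) := by
    apply Fintype.card_congr
    refine ⟨fun i => match i with
      | ⟨Sum.inl a, _⟩ => a
      | ⟨Sum.inr b, h⟩ => absurd rfl h, fun a => ⟨Sum.inl a, by simp⟩, ?_, ?_⟩
    · rintro ⟨a | b, h⟩
      · rfl
      · exact absurd rfl h
    · intro a
      rfl
  rw [h2, Fintype.card_fin]

/-- The rank of a square matrix over a field does not change under field extension. -/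
theorem rank_map_field {K L : Type*} [Field K] [Field L] (f : K →+* L) {m : Type*} [Fintype m]
    [DecidableEq m] (A : Matrix m m K) : (A.map f).rank = A.rank := by
  obtain ⟨V, U, e, hV, hU, h⟩ := exists_rank_normal_form A
  have hV' : IsUnit (V.map f).det := by
    have := (isUnit_iff_isUnit_det V).1 hV
    have h1 : (V.map f).det = f V.det := by
      rw [RingHom.map_det]; rfl
    rw [h1]
    exact this.map f
  have hU' : IsUnit (U.map f).det := by
    have := (isUnit_iff_isUnit_det U).1 hU
    have h1 : (U.map f).det = f U.det := by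
      rw [RingHom.map_det]; rfl
    rw [h1]
    exact this.map f
  have h2 : V.map f * A.map f * U.map f
      = ((fromBlocks 1 0 0 0 : Matrix (Fin A.rank ⊕ Fin (Fintype.card m - A.rank))
          (Fin A.rank ⊕ Fin (Fintype.card m - A.rank)) L)).submatrix e e := by
    rw [← Matrix.map_mul, ← Matrix.map_mul, h]
    ext i j
    simp only [map_apply, submatrix_apply]
    rcases e i with a | a <;> rcases e j with b | b <;>
      simp [fromBlocks, Matrix.one_apply, apply_ite f]
  rw [← rank_mul_eq_right_of_isUnit_det (V.map f) (A.map f) hV',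
    ← rank_mul_eq_left_of_isUnit_det (U.map f) (V.map f * A.map f) hU', h2, rank_normalForm]

end Cfsg.Agent.Lib.Helper21
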