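import Mathlib
import Cfsg.Prelude.Def_Characters
import Cfsg.Prelude.Def_Blocks
import Cfsg.Agent.Lib.Helper82.CharKer
import Cfsg.Agent.Lib.Helper83.OddReal
import Cfsg.Agent.S0160

set_option autoImplicit false

/-!
Real-valued irreducible characters not containing a normal subgroup in their kernel, by counting
real characters and real classes.
-/

namespace Cfsg.Agent.Lib.Helper21.RealP

open Cfsg Cfsg.Agent.Lib.Helper20

theorem isConj_inv_inv {G : Type*} [Group G] {a b : G} (h : IsConj a b) : IsConj a⁻¹ b⁻¹ := by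
  obtain ⟨c, hc⟩ := isConj_iff.mp h
  exact isConj_iff.mpr ⟨c, by rw [← hc, conj_inv]⟩

theorem real_of_isConj {G : Type*} [Group G] {a b : G} (h : IsConj a b) (ha : IsConj a a⁻¹) :
    IsConj b b⁻¹ := (h.symm.trans ha).trans (isConj_inv_inv h)

theorem isConj_map {G H : Type*} [Group G] [Group H] (f : G →* H) {a b : G} (h : IsConj a b) :
    IsConj (f a) (f b) := by
  obtain ⟨c, hc⟩ := isConj_iff.mp h
  exact isConj_iff.mpr ⟨f c, by rw [← hc]; simp⟩

/-- If real classes of `G ⧸ N` lift to real classes of `G` and `N` contains a nontrivial real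
element, then some real-valued irreducible character of `G` does not have `N` in its kernel. -/
theorem exists_real_not_ker {G : Type*} [Group G] [Finite G] (N : Subgroup G) [N.Normal]
    (hlift : ∀ x : G ⧸ N, IsConj x x⁻¹ → ∃ y : G, (y : G ⧸ N) = x ∧ IsConj y y⁻¹)
    (hreal : ∃ n ∈ N, n ≠ 1 ∧ IsConj n n⁻¹) :
    ∃ χ : IrrCharacter G, (∀ g, ((χ : G → ℂ) g).im = 0) ∧
      ∃ n ∈ N, (χ : G → ℂ) n ≠ (χ : G → ℂ) 1 := by
  classical
  have := Fintype.ofFinite G
  have := Fintype.ofFinite (G ⧸ N)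
  have := finite_irrCharacter (G := G)
  have := finite_irrCharacter (G := G ⧸ N)
  by_contra hcon
  push Not at hcon
  have h1 : Nat.card {χ : IrrCharacter G // ∀ g : G, ((χ : G → ℂ) g).im = 0}
      ≤ Nat.card {χ : IrrCharacter (G ⧸ N) // ∀ g : G ⧸ N, ((χ : G ⧸ N → ℂ) g).im = 0} := by
    refine Nat.card_le_card_of_injective (fun χ =>
      ⟨(Cfsg.Agent.Lib.Helper82.irrQuotEquiv N).symm ⟨χ.1, hcon χ.1 χ.2⟩, ?_⟩) ?_
    · intro x
      obtain ⟨g, rfl⟩ := QuotientGroup.mk_surjective x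
      rw [Cfsg.Agent.Lib.Helper82.irrQuotEquiv_symm_apply]
      exact χ.2 g
    · intro χ χ' h
      have h2 := congrArg Subtype.val h
      have h3 := (Cfsg.Agent.Lib.Helper82.irrQuotEquiv N).symm.injective h2
      exact Subtype.ext (congrArg (fun z => z.1) h3)
  rw [Cfsg.Agent.S0160.result, Cfsg.Agent.S0160.result] at h1
  let f : {C : ConjClasses G // ∀ g : G, ConjClasses.mk g = C → IsConj g g⁻¹} →
      {C : ConjClasses (G ⧸ N) // ∀ g : G ⧸ N, ConjClasses.mk g = C → IsConj g g⁻¹} := fun C =>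
    ⟨ConjClasses.map (QuotientGroup.mk' N) C.1, by
      intro x hx
      obtain ⟨y, hy⟩ := ConjClasses.mk_surjective C.1
      have h2 := C.2 y hy
      rw [← hy] at hx
      have h3 : IsConj x (QuotientGroup.mk' N y) := ConjClasses.mk_eq_mk_iff_isConj.mp hx
      have h4 := isConj_map (QuotientGroup.mk' N) h2
      rw [map_inv] at h4
      exact real_of_isConj h3.symm h4⟩
  have hf : Function.Surjective f := by
    rintro ⟨C, hC⟩
    obtain ⟨x, rfl⟩ := ConjClasses.mk_surjective C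
    obtain ⟨y, hy, hyr⟩ := hlift x (hC x rfl)
    refine ⟨⟨ConjClasses.mk y, ?_⟩, ?_⟩
    · intro g hg
      exact real_of_isConj (ConjClasses.mk_eq_mk_iff_isConj.mp hg).symm hyr
    · apply Subtype.ext
      show ConjClasses.mk (QuotientGroup.mk' N y) = ConjClasses.mk x
      rw [← hy]
      rfl
  have hbij := hf.bijective_of_nat_card_le h1
  obtain ⟨n, hnN, hn1, hnr⟩ := hreal
  have h5 : f ⟨ConjClasses.mk n, fun g hg =>
      real_of_isConj (ConjClasses.mk_eq_mk_iff_isConj.mp hg).symm hnr⟩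
      = f ⟨ConjClasses.mk 1, fun g hg =>
        real_of_isConj (ConjClasses.mk_eq_mk_iff_isConj.mp hg).symm (by simp)⟩ := by
    apply Subtype.ext
    show ConjClasses.mk (QuotientGroup.mk' N n) = ConjClasses.mk (QuotientGroup.mk' N 1)
    rw [map_one]
    congr 1
    exact (QuotientGroup.eq_one_iff n).mpr hnN
  have h6 := congrArg Subtype.val (hbij.1 h5)
  have h7 : IsConj n 1 := ConjClasses.mk_eq_mk_iff_isConj.mp h6
  exact hn1 (isConj_one_right.mp h7.symm)

/-- Real classes lift through a normal subgroup of odd order. -/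
theorem lift_real_of_odd {G : Type*} [Group G] [Finite G] (N : Subgroup G) [N.Normal]
    (hodd : Odd (Nat.card N)) (x : G ⧸ N) (hx : IsConj x x⁻¹) :
    ∃ y : G, (y : G ⧸ N) = x ∧ IsConj y y⁻¹ := by
  classical
  obtain ⟨c, hc⟩ := isConj_iff.mp hx
  obtain ⟨g, rfl⟩ := QuotientGroup.mk_surjective c
  obtain ⟨y₀, rfl⟩ := QuotientGroup.mk_surjective x
  obtain ⟨a, m, hm, ho⟩ := Nat.exists_eq_two_pow_mul_odd (orderOf_pos g).ne'
  obtain ⟨k, rfl⟩ := hm
  have ht : (g ^ (2 * k + 1)) ^ 2 ^ (a + 1) = 1 := by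
    rw [← pow_mul, pow_succ, mul_comm, mul_assoc, mul_comm 2, ← mul_assoc, ← ho, pow_mul,
      pow_orderOf_eq_one, one_pow]
  have hinv := Cfsg.Agent.Lib.Helper83.semiconj_odd_pow hc k
  set t := g ^ (2 * k + 1) with htdef
  have hinv' : ((t : G) : G ⧸ N) * (y₀ : G ⧸ N) * ((t : G) : G ⧸ N)⁻¹ = (y₀ : G ⧸ N)⁻¹ := by
    rw [htdef, QuotientGroup.mk_pow]; exact hinv
  let X := {y : G // (y : G ⧸ N) = (y₀ : G ⧸ N)}
  have hXcard : Nat.card X = Nat.card N := by
    apply Nat.card_congr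
    refine ⟨fun y => ⟨y₀⁻¹ * y.1, QuotientGroup.eq.mp y.2.symm⟩,
      fun n => ⟨y₀ * n, by
        rw [QuotientGroup.mk_mul, (QuotientGroup.eq_one_iff (n : G)).mpr n.2, mul_one]⟩, ?_, ?_⟩
    · intro y; apply Subtype.ext; simp
    · intro n; apply Subtype.ext; simp
  have := Fintype.ofFinite X
  let f : Function.End X := fun y => ⟨t * y.1⁻¹ * t⁻¹, by
    rw [QuotientGroup.mk_mul, QuotientGroup.mk_mul, QuotientGroup.mk_inv, QuotientGroup.mk_inv,
      y.2, ← conj_inv, hinv', inv_inv]⟩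
  have hf2 : ∀ (j : ℕ) (y : X), ((f ^ (2 * j)) y).1 = t ^ (2 * j) * y.1 * (t ^ (2 * j))⁻¹ := by
    intro j
    induction j with
    | zero => intro y; simp only [mul_zero, pow_zero, one_mul, inv_one, mul_one]; rfl
    | succ j ih =>
      intro y
      have e1 : 2 * (j + 1) = 2 * j + 1 + 1 := by ring
      rw [e1, pow_succ, pow_succ]
      show ((f ^ (2 * j)) (f (f y))).1 = _
      rw [ih]
      show t ^ (2 * j) * (t * (t * y.1⁻¹ * t⁻¹)⁻¹ * t⁻¹) * (t ^ (2 * j))⁻¹ = _
      rw [pow_succ, pow_succ]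
      group
  have hf1 : f ^ 2 ^ (a + 1) = 1 := by
    funext y
    apply Subtype.ext
    have e2 : 2 ^ (a + 1) = 2 * 2 ^ a := by rw [pow_succ, mul_comm]
    rw [e2, hf2, ← e2, ht]
    simp only [one_mul, inv_one, mul_one]
    rfl
  have hmod := Equiv.Perm.card_fixedPoints_modEq (p := 2) hf1
  have hfix : 0 < Fintype.card (Function.fixedPoints f) := by
    by_contra h0
    have h5 : Fintype.card (Function.fixedPoints f) = 0 := by omega
    rw [h5, ← Nat.card_eq_fintype_card, hXcard] at hmod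
    have h6 := Nat.odd_iff.mp hodd
    unfold Nat.ModEq at hmod
    omega
  obtain ⟨⟨y, hy⟩⟩ := Fintype.card_pos_iff.mp hfix
  refine ⟨y.1, y.2, ?_⟩
  have h7 : t * y.1⁻¹ * t⁻¹ = y.1 := congrArg Subtype.val hy
  apply isConj_iff.mpr
  refine ⟨t, ?_⟩
  rw [← inv_inj, conj_inv, h7, inv_inv]

/-- A `2`-element acting nontrivially on a normal subgroup inverts (a power of it does) some
nontrivial element. -/
theorem exists_inverted {G : Type*} [Group G] (M : Subgroup G) (hM : M.Normal) (t : G) (j : ℕ)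
    (ht : orderOf t = 2 ^ j) (m : G) (hm : m ∈ M) (hne : t * m * t⁻¹ ≠ m) :
    ∃ l ∈ M, l ≠ 1 ∧ IsConj l l⁻¹ := by
  classical
  have hex : ∃ i : ℕ, ∀ x ∈ M, t ^ 2 ^ i * x * (t ^ 2 ^ i)⁻¹ = x := by
    refine ⟨j, fun x _ => ?_⟩
    rw [← ht, pow_orderOf_eq_one]; simp
  have hspec := Nat.find_spec hex
  have hpos : Nat.find hex ≠ 0 := by
    intro h0
    rw [h0] at hspec
    apply hne
    have := hspec m hm
    simpa using this
  obtain ⟨i, hi⟩ := Nat.exists_eq_succ_of_ne_zero hpos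
  have hmin := Nat.find_min hex (m := i) (by omega)
  push Not at hmin
  obtain ⟨x, hxM, hx⟩ := hmin
  set s := t ^ 2 ^ i with hs
  have hs2 : s * s = t ^ 2 ^ (Nat.find hex) := by
    rw [hi, hs, ← pow_add, Nat.succ_eq_add_one, pow_succ, mul_two]
  have hss : s * s * x * (s * s)⁻¹ = x := by rw [hs2]; exact hspec x hxM
  refine ⟨x⁻¹ * (s * x * s⁻¹), M.mul_mem (M.inv_mem hxM) (hM.conj_mem x hxM s), ?_, ?_⟩
  · intro h
    apply hx
    exact (inv_mul_eq_one.mp h).symm
  · apply isConj_iff.mpr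
    refine ⟨s, ?_⟩
    have h1 : s * (x⁻¹ * (s * x * s⁻¹)) * s⁻¹ = (s * x * s⁻¹)⁻¹ * (s * s * x * (s * s)⁻¹) := by
      group
    rw [h1, hss]
    group

/-- the subgroup generated by the `p`-elements -/
def gen (p : ℕ) (G : Type*) [Group G] : Subgroup G :=
  Subgroup.closure {g : G | ∃ k : ℕ, orderOf g = p ^ k}

/-- every real-valued irreducible character has degree prime to `p` -/
def RealPrime (p : ℕ) (G : Type*) [Group G] : Prop :=
  ∀ χ : IrrCharacter G, (∀ g : G, ((χ : G → ℂ) g).im = 0) → ¬ p ∣ charDegree (χ : G → ℂ)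

/-- if the subgroup generated by the `2`-elements does not centralize the normal subgroup `M`,
then `M` contains a nontrivial real element -/
theorem exists_real_of_not_centralize {G : Type*} [Group G] (M : Subgroup G) (hM : M.Normal)
    (h : ¬ gen 2 G ≤ Subgroup.centralizer (M : Set G)) : ∃ l ∈ M, l ≠ 1 ∧ IsConj l l⁻¹ := by
  unfold gen at h
  rw [Subgroup.closure_le] at h
  obtain ⟨t, ⟨j, hj⟩, ht⟩ := Set.not_subset.mp h
  rw [SetLike.mem_coe, Subgroup.mem_centralizer_iff] at ht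
  push Not at ht
  obtain ⟨m, hm, hne⟩ := ht
  refine exists_inverted M hM t j hj m hm ?_
  intro h2
  apply hne
  conv_lhs => rw [← h2]
  group

end Cfsg.Agent.Lib.Helper21.RealP
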