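import Mathlib
import Cfsg.Prelude.Def_Characters
import Cfsg.Prelude.Def_Blocks
import Cfsg.Agent.Lib.Helper21.RealPA
import Cfsg.Agent.Lib.Helper21.GalOddA
import Cfsg.Agent.Lib.Helper21.DegSq
import Cfsg.Agent.Lib.Helper82.Linear
import Cfsg.Agent.Lib.Helper82.Codegree

set_option autoImplicit false

namespace Cfsg.Agent.Lib.Helper21.RealP

open Cfsg Cfsg.Agent.Lib.Helper20 Cfsg.Agent.Lib.Helper5

/-- a character of degree prime to `p` has a linear constituent on every `p`-subgroup -/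
theorem exists_linear_constituent {G : Type*} [Group G] [Fintype G] (p : ℕ) [Fact p.Prime]
    (P : Subgroup G) [Fintype P] (hP : IsPGroup p P) (χ : IrrCharacter G)
    (hpd : ¬ p ∣ charDegree (χ : G → ℂ)) :
    ∃ ψ : IrrCharacter P, classInner (fun x : P => (χ : G → ℂ) x) (ψ : P → ℂ) ≠ 0 ∧
      (ψ : P → ℂ) 1 = 1 := by
  classical
  have := finite_irrCharacter (G := P)
  have := Fintype.ofFinite (IrrCharacter P)
  have hm : ∀ θ : IrrCharacter P, ∃ k : ℕ,
      classInner (fun x : P => (χ : G → ℂ) x) (θ : P → ℂ) = k := fun θ =>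
    isCharacter_classInner_nat (isCharacter_restrict (isCharacter_of_isIrrCharacter χ.2) P) θ.2
  choose m hm using hm
  have hsum := charDegree_eq_sum_mult χ m hm
  by_contra hcon
  push Not at hcon
  apply hpd
  rw [hsum]
  apply Finset.dvd_sum
  intro θ _
  by_cases h0 : m θ = 0
  · rw [h0, zero_mul]; exact dvd_zero _
  · have h1 : (θ : P → ℂ) 1 ≠ 1 := hcon θ (by rw [hm]; exact_mod_cast h0)
    obtain ⟨k, hk⟩ := IsPGroup.iff_card.mp hP
    have h2 := Cfsg.Agent.Lib.Helper82.isIrr_charDegree_dvd_card θ.2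
    rw [hk] at h2
    obtain ⟨i, -, hi⟩ := (Nat.dvd_prime_pow (Fact.out : p.Prime)).mp h2
    have hi0 : i ≠ 0 := by
      intro h
      apply h1
      rw [irr_one_eq_charDegree, hi, h]
      simp
    apply Dvd.dvd.mul_left
    rw [hi]
    exact dvd_pow_self p hi0

/-- an irreducible character of degree prime to `p` has in its kernel every normal subgroup
contained in the derived subgroup of a `p`-subgroup -/
theorem ker_of_not_dvd {G : Type*} [Group G] [Fintype G] (p : ℕ) [Fact p.Prime]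
    (P : Subgroup G) (hP : IsPGroup p P) (M : Subgroup G) (hM : M.Normal) (hMP : M ≤ ⁅P, P⁆)
    (χ : IrrCharacter G) (hpd : ¬ p ∣ charDegree (χ : G → ℂ)) :
    ∀ x ∈ M, (χ : G → ℂ) x = (χ : G → ℂ) 1 := by
  classical
  have := Fintype.ofFinite P
  have := Fintype.ofFinite M
  obtain ⟨ψ, hψ, hψ1⟩ := exists_linear_constituent p P hP χ hpd
  have hχc := isCharacter_of_isIrrCharacter χ.2
  have hψc := isCharacter_of_isIrrCharacter ψ.2
  obtain ⟨Δ, hΔ, hsum⟩ := exists_add_of_constituent (isCharacter_restrict hχc P) ψ.2 hψ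
  have hle : M ≤ P := hMP.trans (by
    rw [← Subgroup.map_subtype_commutator]
    exact Subgroup.map_subtype_le _)
  apply GalOdd.ker_of_inner_one hM χ.2
  have h1 : (fun n : M => (χ : G → ℂ) n)
      = (fun _ => 1) + (fun n : M => Δ ⟨n, hle n.2⟩) := by
    funext n
    have h2 := congrFun hsum ⟨n, hle n.2⟩
    rw [Pi.add_apply] at h2 ⊢
    have h3 : (ψ : P → ℂ) ⟨n, hle n.2⟩ = 1 := by
      apply Cfsg.Agent.Lib.Helper82.isChar_linear_commutator hψc hψ1
      have h4 := hMP n.2
      rw [← Subgroup.map_subtype_commutator] at h4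
      obtain ⟨z, hz, hzn⟩ := h4
      have : z = ⟨n, hle n.2⟩ := Subtype.ext hzn
      rw [← this]
      exact hz
    rw [h3] at h2
    exact h2
  have hΔM : IsCharacter M (fun n : M => Δ ⟨n, hle n.2⟩) :=
    isCharacter_comp_hom hΔ (Subgroup.inclusion hle)
  obtain ⟨k, hk⟩ := isCharacter_classInner_nat hΔM
    (Cfsg.Agent.Lib.Helper4.isIrrCharacter_one (G := M))
  rw [h1, classInner_add_left, hk,
    classInner_irr_self (Cfsg.Agent.Lib.Helper4.isIrrCharacter_one (G := M))]
  exact_mod_cast (by omega : 1 + k ≠ 0)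

end Cfsg.Agent.Lib.Helper21.RealP
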