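import Mathlib
import Cfsg.Prelude.Def_Characters
import Cfsg.Prelude.Def_Blocks
import Cfsg.Agent.Lib.Helper21.RealPB
import Cfsg.Agent.Lib.Helper5.DegHyp
import Cfsg.Agent.Lib.Helper83.Basic2

set_option autoImplicit false

namespace Cfsg.Agent.Lib.Helper21.RealP

open Cfsg Cfsg.Agent.Lib.Helper20 Cfsg.Agent.Lib.Helper5
open scoped IsMulCommutative

/-- an invariant linear character of an abelian normal `p'`-subgroup on which a `p`-group acts
without fixed points is trivial -/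
theorem linear_eq_one_of_inv {G : Type*} [Group G] [Finite G] (p : ℕ) [Fact p.Prime]
    (N : Subgroup G) (hN : N.Normal) [IsMulCommutative N] (hpN : ¬ p ∣ Nat.card N)
    (R : Subgroup G) (hR : IsPGroup p R)
    (hfpf : ∀ n ∈ N, (∀ r ∈ R, r * n * r⁻¹ = n) → n = 1)
    (μ : N → ℂ) (hμ : IsCharacter N μ) (hμ1 : μ 1 = 1) (hinv : ∀ r ∈ R, cjF hN μ r = μ) :
    μ = fun _ => 1 := by
  classical
  have := Fintype.ofFinite R
  funext n
  let c : R → N := fun r => ⟨(r : G) * n * (r : G)⁻¹, hN.conj_mem n n.2 r⟩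
  have hz : ∏ r : R, c r = 1 := by
    apply Subtype.ext
    apply hfpf _ (∏ r : R, c r).2
    intro s hs
    have h1 : (@MulAut.conjNormal G _ N hN s) (∏ r : R, c r) = ∏ r : R, c r := by
      rw [map_prod]
      apply Fintype.prod_equiv (Equiv.mulLeft (⟨s, hs⟩ : R))
      intro r
      apply Subtype.ext
      show s * ((r : G) * n * (r : G)⁻¹) * s⁻¹ = (s * (r : G)) * n * (s * (r : G))⁻¹
      group
    exact congrArg Subtype.val h1
  have h2 : μ (∏ r : R, c r) = μ n ^ Nat.card R := by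
    have h3 := map_prod (Cfsg.Agent.Lib.Helper82.linHom μ hμ hμ1) c Finset.univ
    simp only [Cfsg.Agent.Lib.Helper82.linHom_apply] at h3
    have h3' : ∀ r ∈ (Finset.univ : Finset R), μ (c r) = μ n :=
      fun (r : R) _ => congrFun (hinv (r : G) r.2) n
    rw [h3, Finset.prod_congr rfl h3', Finset.prod_const, Finset.card_univ,
      Nat.card_eq_fintype_card]
  rw [hz, hμ1] at h2
  have h4 : μ n ^ Nat.card N = 1 := by
    rw [← Cfsg.Agent.Lib.Helper82.isChar_linear_pow hμ hμ1, pow_card_eq_one', hμ1]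
  obtain ⟨k, hk⟩ := IsPGroup.iff_card.mp hR
  have h5 : orderOf (μ n) ∣ p ^ k := hk ▸ orderOf_dvd_of_pow_eq_one h2.symm
  have h6 : orderOf (μ n) ∣ Nat.card N := orderOf_dvd_of_pow_eq_one h4
  have h7 : Nat.Coprime (p ^ k) (Nat.card N) :=
    ((Nat.Prime.coprime_iff_not_dvd Fact.out).mpr hpN).pow_left k
  exact orderOf_eq_one_iff.mp (Nat.eq_one_of_dvd_coprimes h7 h5 h6)

/-- a `p`-subgroup is conjugate into every subgroup of index prime to `p` -/
theorem exists_conj_le_of_not_dvd_index {G : Type*} [Group G] [Finite G] (p : ℕ) [Fact p.Prime]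
    (R : Subgroup G) (hR : IsPGroup p R) (T : Subgroup G) (hT : ¬ p ∣ T.index) :
    ∃ g : G, ∀ r ∈ R, g⁻¹ * r * g ∈ T := by
  have hmod := hR.card_modEq_card_fixedPoints (G ⧸ T)
  have h0 : Nat.card (MulAction.fixedPoints R (G ⧸ T)) ≠ 0 := by
    intro h0
    rw [h0, ← Subgroup.index_eq_card] at hmod
    exact hT ((Nat.modEq_zero_iff_dvd).mp hmod)
  obtain ⟨⟨x, hx⟩⟩ := (Nat.card_pos_iff.mp (Nat.pos_of_ne_zero h0)).1
  obtain ⟨g, rfl⟩ := QuotientGroup.mk_surjective x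
  refine ⟨g, fun r hr => ?_⟩
  have h1 : ((r * g : G) : G ⧸ T) = (g : G ⧸ T) := hx ⟨r, hr⟩
  have h2 := QuotientGroup.eq.mp h1.symm
  rw [mul_assoc]
  exact h2

/-- Let `N` be an abelian normal `p'`-subgroup on which the `p`-subgroup `R` acts without fixed
points.  Every irreducible character of degree prime to `p` has `N` in its kernel. -/
theorem ker_of_not_dvd_of_fpf {G : Type*} [Group G] [Fintype G] (p : ℕ) [Fact p.Prime]
    (N : Subgroup G) (hN : N.Normal) [IsMulCommutative N] (hpN : ¬ p ∣ Nat.card N)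
    (R : Subgroup G) (hR : IsPGroup p R)
    (hfpf : ∀ n ∈ N, (∀ r ∈ R, r * n * r⁻¹ = n) → n = 1)
    (χ : IrrCharacter G) (hpd : ¬ p ∣ charDegree (χ : G → ℂ)) :
    ∀ x ∈ N, (χ : G → ℂ) x = (χ : G → ℂ) 1 := by
  classical
  have := Fintype.ofFinite N
  have hχc := isCharacter_of_isIrrCharacter χ.2
  obtain ⟨lam, hlam⟩ := Cfsg.Agent.Lib.Helper82.exists_irr_constituent
    (isCharacter_restrict hχc N) (Cfsg.Agent.Lib.Helper4.irr_apply_one_ne_zero χ.2)
  have hidx : ¬ p ∣ (inertia hN (lam : N → ℂ)).index :=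
    fun h => hpd (h.trans (index_inertia_dvd hN lam.2 χ.2 hlam))
  obtain ⟨g, hg⟩ := exists_conj_le_of_not_dvd_index p R hR _ hidx
  have hμirr := isIrrCharacter_cjF hN lam.2 g⁻¹
  have hμinv : ∀ r ∈ R, cjF hN (cjF hN (lam : N → ℂ) g⁻¹) r = cjF hN (lam : N → ℂ) g⁻¹ := by
    intro r hr
    have h1 := (mem_inertia hN (lam : N → ℂ) _).mp (hg r hr)
    have h2 := congrArg (fun ψ => cjF hN ψ g⁻¹) h1
    simp only [cjF_cjF] at h2
    rw [cjF_cjF, ← h2]
    congr 1
    group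
  have hμone := linear_eq_one_of_inv p N hN hpN R hR hfpf _
    (isCharacter_of_isIrrCharacter hμirr) (Cfsg.Agent.Lib.Helper83.isIrr_one_of_comm hμirr) hμinv
  have hlam1 : (lam : N → ℂ) = fun _ => 1 := by
    have h3 := congrArg (fun ψ => cjF hN ψ g) hμone
    simp only [cjF_cjF, inv_mul_cancel, cjF_one] at h3
    rw [h3]
    rfl
  apply GalOdd.ker_of_inner_one hN χ.2
  rw [← hlam1]
  exact hlam

/-- real classes lift when the normal subgroup has a complement -/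
theorem lift_real_of_complement {G : Type*} [Group G] (N H : Subgroup G) [N.Normal]
    (hsup : H ⊔ N = ⊤) (hinf : N ⊓ H = ⊥) (x : G ⧸ N) (hx : IsConj x x⁻¹) :
    ∃ y : G, (y : G ⧸ N) = x ∧ IsConj y y⁻¹ := by
  have hrep : ∀ z : G ⧸ N, ∃ h ∈ H, (h : G ⧸ N) = z := by
    intro z
    obtain ⟨g, rfl⟩ := QuotientGroup.mk_surjective z
    have hg : g ∈ H ⊔ N := hsup ▸ Subgroup.mem_top g
    rw [← SetLike.mem_coe, Subgroup.mul_normal] at hg
    obtain ⟨h, hh, n, hn, rfl⟩ := Set.mem_mul.mp hg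
    refine ⟨h, hh, ?_⟩
    rw [QuotientGroup.mk_mul, (QuotientGroup.eq_one_iff n).mpr hn, mul_one]
  obtain ⟨c, hc⟩ := isConj_iff.mp hx
  obtain ⟨h, hh, rfl⟩ := hrep x
  obtain ⟨h', hh', rfl⟩ := hrep c
  refine ⟨h, rfl, isConj_iff.mpr ⟨h', ?_⟩⟩
  have h1 : ((h' * h * h'⁻¹ * h : G) : G ⧸ N) = 1 := by
    rw [QuotientGroup.mk_mul, QuotientGroup.mk_mul, QuotientGroup.mk_mul, QuotientGroup.mk_inv,
      hc, inv_mul_cancel]
  have h2 : h' * h * h'⁻¹ * h ∈ N ⊓ H :=
    ⟨(QuotientGroup.eq_one_iff _).mp h1,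
      H.mul_mem (H.mul_mem (H.mul_mem hh' hh) (H.inv_mem hh')) hh⟩
  rw [hinf, Subgroup.mem_bot] at h2
  exact eq_inv_of_mul_eq_one_left h2

end Cfsg.Agent.Lib.Helper21.RealP
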