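import Mathlib
import Cfsg.Agent.Lib.Helper21.RealPF
import Cfsg.Agent.S3863

/-!
# Real classes meet the Sylow normalizer
-/

set_option autoImplicit false

namespace Cfsg.Agent.Lib.Helper21.RealP

open Cfsg Cfsg.Agent.Lib.Helper20 Cfsg.Agent.Lib.Helper5

universe u

theorem real_conj_normalizer {G : Type u} [Group G] [Finite G] (p : ℕ) [Fact p.Prime]
    (hs : Group.IsSolvable ↥(gen p G)) (hreal : RealPrime p G) (P : Sylow p G) (x : G)
    (hx : IsConj x x⁻¹) :
    ∃ y ∈ Subgroup.normalizer ((P : Subgroup G) : Set G), IsConj x y := by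
  classical
  have hp : p.Prime := Fact.out
  have hKn := gen_normal 2 G
  obtain ⟨Q'⟩ : Nonempty (Sylow p ↥(gen 2 G)) := inferInstance
  have hQ'n : (Q' : Subgroup ↥(gen 2 G)).Normal :=
    core_A p _ ↥(gen 2 G) rfl (gen_gen_top 2 G) (solvable_gen_sub p (gen 2 G) hs)
      (realPrime_sub p (gen 2 G) (odd_index_gen_two G) hreal) Q'
  have hQ'c : (Q' : Subgroup ↥(gen 2 G)).Characteristic := Sylow.characteristic_of_normal Q' hQ'n
  obtain ⟨Q, hQ⟩ : ∃ Q : Subgroup G, Q = (Q' : Subgroup ↥(gen 2 G)).map (gen 2 G).subtype :=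
    ⟨_, rfl⟩
  have hQn : Q.Normal := hQ ▸ ConjAct.normal_of_characteristic_of_normal
  have hQp : IsPGroup p Q := hQ ▸ Q'.2.map _
  have hQP : Q ≤ P := Cfsg.Agent.Lib.Helper58.normal_pgroup_le_sylow _ hQp P
  have hQK : Q ≤ gen 2 G := hQ ▸ Subgroup.map_subtype_le _
  have hπ : Function.Surjective (QuotientGroup.mk' Q) := QuotientGroup.mk'_surjective Q
  obtain ⟨Kb, hKb⟩ : ∃ Kb : Subgroup (G ⧸ Q), Kb = (gen 2 G).map (QuotientGroup.mk' Q) :=
    ⟨_, rfl⟩
  have hKbn : Kb.Normal := hKb ▸ Subgroup.Normal.map hKn _ hπ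
  have hidx : Kb.index = (gen 2 G).index := by
    rw [hKb]
    exact Subgroup.index_map_eq _ hπ (by rw [QuotientGroup.ker_mk']; exact hQK)
  have hKbodd : Odd Kb.index := hidx ▸ odd_index_gen_two G
  have hpKb : ¬ p ∣ Nat.card Kb := by
    have h1 : Nat.card Kb * Kb.index = Nat.card (G ⧸ Q) := Subgroup.card_mul_index Kb
    have h3 : Nat.card G = Nat.card (G ⧸ Q) * Nat.card Q :=
      Subgroup.card_eq_card_quotient_mul_card_subgroup Q
    have h4 : Nat.card (gen 2 G) * (gen 2 G).index = Nat.card G := Subgroup.card_mul_index _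
    have h5 : Nat.card (Q' : Subgroup ↥(gen 2 G)) * (Q' : Subgroup ↥(gen 2 G)).index
        = Nat.card (gen 2 G) := Subgroup.card_mul_index _
    have h6 : Nat.card Q = Nat.card (Q' : Subgroup ↥(gen 2 G)) := by
      rw [hQ]
      exact Subgroup.card_map_of_injective (Subgroup.subtype_injective _)
    have h7 : Nat.card Kb = (Q' : Subgroup ↥(gen 2 G)).index := by
      have hpos1 : 0 < (gen 2 G).index := Nat.pos_of_ne_zero (Subgroup.index_ne_zero_of_finite)
      have hpos2 : 0 < Nat.card (Q' : Subgroup ↥(gen 2 G)) := Nat.card_pos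
      have h8 : Nat.card Kb * ((gen 2 G).index * Nat.card (Q' : Subgroup ↥(gen 2 G)))
          = (Q' : Subgroup ↥(gen 2 G)).index
            * ((gen 2 G).index * Nat.card (Q' : Subgroup ↥(gen 2 G))) := by
        calc Nat.card Kb * ((gen 2 G).index * Nat.card (Q' : Subgroup ↥(gen 2 G)))
            = (Nat.card Kb * Kb.index) * Nat.card Q := by rw [hidx, h6]; ring
          _ = Nat.card G := by rw [h1, ← h3]
          _ = (Nat.card (Q' : Subgroup ↥(gen 2 G)) * (Q' : Subgroup ↥(gen 2 G)).index)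
              * (gen 2 G).index := by rw [h5, h4]
          _ = _ := by ring
      exact Nat.eq_of_mul_eq_mul_right (Nat.mul_pos hpos1 hpos2) h8
    rw [h7]
    exact Sylow.not_dvd_index Q'
  obtain ⟨hxK, hxr⟩ := (Cfsg.Agent.S3863.result x hx).2.2 (gen 2 G) (odd_index_gen_two G)
  have hmem : ∀ k : ↥(gen 2 G), QuotientGroup.mk' Q (k : G) ∈ Kb := fun k =>
    hKb ▸ Subgroup.mem_map_of_mem _ k.2
  let f : ↥(gen 2 G) →* ↥Kb :=
    ((QuotientGroup.mk' Q).comp (gen 2 G).subtype).codRestrict Kb hmem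
  have hxb : IsConj (f ⟨x, hxK⟩) (f ⟨x, hxK⟩)⁻¹ := by
    have := isConj_map f hxr
    rwa [map_inv] at this
  obtain ⟨gb, hgb⟩ := core_C p Kb hKbodd hpKb (realPrime_quot p Q hreal) (P.mapSurjective hπ)
    _ hxb
  obtain ⟨g, rfl⟩ := hπ gb
  refine ⟨g * x * g⁻¹, ?_, isConj_iff.mpr ⟨g, rfl⟩⟩
  have hy : QuotientGroup.mk' Q (g * x * g⁻¹)
      ∈ Subgroup.centralizer (((P : Subgroup G).map (QuotientGroup.mk' Q) : Subgroup (G ⧸ Q)) :
        Set (G ⧸ Q)) := by
    rw [map_mul, map_mul, map_inv]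
    exact hgb
  obtain ⟨y, hydef⟩ : ∃ y : G, y = g * x * g⁻¹ := ⟨_, rfl⟩
  rw [← hydef] at hy ⊢
  have hcomm : ∀ u ∈ (P : Subgroup G),
      QuotientGroup.mk' Q u * QuotientGroup.mk' Q y = QuotientGroup.mk' Q y * QuotientGroup.mk' Q u :=
    fun u hu => Subgroup.mem_centralizer_iff.mp hy _ (Subgroup.mem_map_of_mem _ hu)
  have hc1 : ∀ u ∈ (P : Subgroup G), y * u * y⁻¹ ∈ (P : Subgroup G) := by
    intro u hu
    have h1 : QuotientGroup.mk' Q (y * u * y⁻¹ * u⁻¹) = 1 := by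
      rw [map_mul, map_mul, map_mul, map_inv, map_inv, ← hcomm u hu]
      group
    have h2 : y * u * y⁻¹ * u⁻¹ ∈ Q := (QuotientGroup.eq_one_iff _).mp h1
    have h3 := (P : Subgroup G).mul_mem (hQP h2) hu
    rwa [inv_mul_cancel_right] at h3
  have hc2 : ∀ u ∈ (P : Subgroup G), y⁻¹ * u * y ∈ (P : Subgroup G) := by
    intro u hu
    have h1 : QuotientGroup.mk' Q (y⁻¹ * u * y * u⁻¹) = 1 := by
      rw [map_mul, map_mul, map_mul, map_inv, map_inv, mul_assoc (QuotientGroup.mk' Q y)⁻¹,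
        hcomm u hu]
      group
    have h2 : y⁻¹ * u * y * u⁻¹ ∈ Q := (QuotientGroup.eq_one_iff _).mp h1
    have h3 := (P : Subgroup G).mul_mem (hQP h2) hu
    rwa [inv_mul_cancel_right] at h3
  rw [Subgroup.mem_normalizer_iff]
  intro h
  refine ⟨hc1 h, fun hh => ?_⟩
  have h1 := hc2 _ hh
  have e : y⁻¹ * (y * h * y⁻¹) * y = h := by group
  rwa [e] at h1

end Cfsg.Agent.Lib.Helper21.RealP
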