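import Cfsg.Agent.Lib.Helper21.Separated

set_option autoImplicit false
open Cfsg
open scoped ComplexConjugate
open Cfsg.Agent.Lib.Helper20 Cfsg.Agent.Lib.Helper81

namespace Cfsg.Agent.Lib.Helper21

variable {G : Type*} [Group G] [Fintype G]

/-- the fibres of `t ↦ t y t⁻¹`. -/
theorem card_filter_conj_eq (y y' : G) [DecidablePred (fun t : G => t * y * t⁻¹ = y')]
    [Decidable (IsConj y y')] :
    ((Finset.univ.filter (fun t : G => t * y * t⁻¹ = y')).card : ℂ)
      = if IsConj y y' then (Nat.card (Subgroup.centralizer ({y} : Set G)) : ℂ) else 0 := by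
  split_ifs with h
  · obtain ⟨t₀, ht₀⟩ := isConj_iff.1 h
    congr 1
    rw [← Fintype.card_subtype, ← Nat.card_eq_fintype_card]
    apply Nat.card_congr
    refine ⟨fun t => ⟨t₀⁻¹ * t.1, ?_⟩, fun c => ⟨t₀ * c.1, ?_⟩, ?_, ?_⟩
    · rw [Subgroup.mem_centralizer_singleton_iff]
      have h1 : t.1 * y * t.1⁻¹ = t₀ * y * t₀⁻¹ := t.2.trans ht₀.symm
      calc t₀⁻¹ * t.1 * y = t₀⁻¹ * (t.1 * y * t.1⁻¹) * t.1 := by group
        _ = t₀⁻¹ * (t₀ * y * t₀⁻¹) * t.1 := by rw [h1]
        _ = y * (t₀⁻¹ * t.1) := by group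
    · have h1 := c.2
      rw [Subgroup.mem_centralizer_singleton_iff] at h1
      calc t₀ * c.1 * y * (t₀ * c.1)⁻¹ = t₀ * (c.1 * y) * c.1⁻¹ * t₀⁻¹ := by group
        _ = t₀ * (y * c.1) * c.1⁻¹ * t₀⁻¹ := by rw [h1]
        _ = t₀ * y * t₀⁻¹ := by group
        _ = y' := ht₀
    · intro t
      apply Subtype.ext
      simp
    · intro c
      apply Subtype.ext
      simp
  · rw [Finset.filter_false_of_mem]
    · simp
    · intro t _ ht
      exact h (isConj_iff.2 ⟨t, ht⟩)

open Classical in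
theorem sum_conj_eq (y : G) (g : G → ℂ) :
    ∑ t : G, g (t * y * t⁻¹) = (Nat.card (Subgroup.centralizer ({y} : Set G)) : ℂ) *
      ∑ y' : G, if IsConj y y' then g y' else 0 := by
  rw [← Finset.sum_fiberwise Finset.univ (fun t : G => t * y * t⁻¹) (fun t => g (t * y * t⁻¹)),
    Finset.mul_sum]
  apply Finset.sum_congr rfl
  intro y' _
  have h1 : ∀ t ∈ Finset.univ.filter (fun t : G => t * y * t⁻¹ = y'), g (t * y * t⁻¹) = g y' := by
    intro t ht
    rw [(Finset.mem_filter.1 ht).2]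
  rw [Finset.sum_congr rfl h1, Finset.sum_const, nsmul_eq_mul, card_filter_conj_eq]
  split_ifs <;> simp

open Classical in
theorem sum_ite_mem_subgroup (S : Subgroup G) [Fintype S] (h : G → ℂ) :
    ∑ w : G, (if w ∈ S then h w else 0) = ∑ s : S, h s := by
  rw [← Finset.sum_filter]
  exact Finset.sum_subtype _ (fun x => by simp) h

open Classical in
theorem card_pairs_eq (S : Subgroup G) [Fintype S] (x y : G) :
    (Nat.card {yz : G × G // yz.1 ∈ (ConjClasses.mk y).carrier ∧
        yz.2 ∈ (ConjClasses.mk x).carrier ∧ yz.2 * yz.1⁻¹ ∈ S} : ℂ)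
      = ∑ y' : G, if IsConj y y' then
          ∑ s : S, (if IsConj ((s : G) * y') x then (1 : ℂ) else 0) else 0 := by
  rw [Nat.card_eq_fintype_card, Fintype.card_subtype, Finset.card_filter]
  push_cast
  rw [Fintype.sum_prod_type]
  apply Finset.sum_congr rfl
  intro y' _
  simp only [ConjClasses.mem_carrier_iff_mk_eq, ConjClasses.mk_eq_mk_iff_isConj]
  by_cases hy : IsConj y y'
  · rw [if_pos hy, ← sum_ite_mem_subgroup S (fun w => if IsConj (w * y') x then (1 : ℂ) else 0),
      ← Equiv.sum_comp (Equiv.mulRight y')]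
    apply Finset.sum_congr rfl
    intro w _
    simp only [Equiv.coe_mulRight, mul_inv_cancel_right]
    by_cases h1 : w ∈ S
    · by_cases h2 : IsConj (w * y') x
      · rw [if_pos ⟨hy.symm, h2, h1⟩, if_pos h1, if_pos h2]
      · rw [if_neg (fun h => h2 h.2.1), if_pos h1, if_neg h2]
    · rw [if_neg (fun h => h1 h.2.2), if_neg h1]
  · rw [if_neg hy]
    apply Finset.sum_eq_zero
    intro z _
    rw [if_neg]
    rintro ⟨h, -⟩
    exact hy h.symm

open Classical in
/-- The counting formula. -/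
theorem card_mul_sum_centralChar_fixMult [Fintype (IrrCharacter G)] (S : Subgroup G) [Fintype S]
    (x y : G) :
    (Nat.card S : ℂ) * ∑ χ : IrrCharacter G, centralChar (χ : G → ℂ) y *
        (fixMult S (χ : G → ℂ) * conj ((χ : G → ℂ) x))
      = (Nat.card (Subgroup.centralizer ({x} : Set G)) : ℂ) *
        (Nat.card {yz : G × G // yz.1 ∈ (ConjClasses.mk y).carrier ∧
          yz.2 ∈ (ConjClasses.mk x).carrier ∧ yz.2 * yz.1⁻¹ ∈ S} : ℂ) := by
  have hC : (Nat.card (Subgroup.centralizer ({y} : Set G)) : ℂ) ≠ 0 := by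
    exact_mod_cast Nat.card_pos.ne'
  have key := sum_centralChar_fixMult S x y
  have h1 : ∀ (s : S) (t : G), ∑ χ : IrrCharacter G,
      (χ : G → ℂ) ((s : G) * (t * y * t⁻¹)) * conj ((χ : G → ℂ) x)
      = (Nat.card (Subgroup.centralizer ({x} : Set G)) : ℂ) *
        (fun y' => if IsConj ((s : G) * y') x then (1 : ℂ) else 0) (t * y * t⁻¹) := by
    intro s t
    rw [sum_irr_mul_conj]
    by_cases h : IsConj ((s : G) * (t * y * t⁻¹)) x
    · simp only [if_pos h, mul_one]
      obtain ⟨c, hc⟩ := isConj_iff.1 h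
      rw [← hc, card_centralizer_conj]
    · simp only [if_neg h, mul_zero]
  simp only [h1] at key
  simp only [← Finset.mul_sum] at key
  have h3 : ∀ s : S, ∑ t : G, (if IsConj ((s : G) * (t * y * t⁻¹)) x then (1 : ℂ) else 0)
      = (Nat.card (Subgroup.centralizer ({y} : Set G)) : ℂ) *
        ∑ y' : G, if IsConj y y' then (if IsConj ((s : G) * y') x then (1 : ℂ) else 0) else 0 :=
    fun s => sum_conj_eq y (fun y' => if IsConj ((s : G) * y') x then (1 : ℂ) else 0)
  simp only [h3] at key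
  rw [card_pairs_eq]
  apply mul_left_cancel₀ hC
  rw [← mul_assoc, key, ← Finset.mul_sum, Finset.sum_comm]
  have h2 : ∀ y' : G, ∑ s : S, (if IsConj y y' then
      (if IsConj ((s : G) * y') x then (1 : ℂ) else 0) else 0)
      = if IsConj y y' then ∑ s : S, (if IsConj ((s : G) * y') x then (1 : ℂ) else 0) else 0 := by
    intro y'
    split_ifs <;> simp
  simp only [h2]
  ring

end Cfsg.Agent.Lib.Helper21
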