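import Cfsg.Agent.Lib.Helper21.Robinson1
import Cfsg.Agent.Lib.Helper21.Under
import Cfsg.Agent.Lib.Helper21.QuotDefect
import Cfsg.Agent.Lib.Helper81.Subsections

set_option autoImplicit false
open Cfsg
open scoped ComplexConjugate
open Cfsg.Agent.Lib.Helper20 Cfsg.Agent.Lib.Helper81

namespace Cfsg.Agent.Lib.Helper21

variable {G : Type*} [Group G] [Fintype G] {p : ℕ} {M : Ideal AlgInt}

/-- the central character of a block (via a chosen member). -/
noncomputable def lam (b : Set (IrrCharacter G)) (x : G) : ℂ := by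
  classical exact if h : b.Nonempty then centralChar (h.choose : G → ℂ) x else 0

omit [Fintype G] in
theorem lam_sub [Finite G] (hM : IsPModular p M) {b : Set (IrrCharacter G)} (hb : IsPBlock M b)
    {χ : IrrCharacter G} (hχ : χ ∈ b) (x : G) :
    MemLocalIdeal M (centralChar (χ : G → ℂ) x - lam b x) := by
  have hne : b.Nonempty := ⟨χ, hχ⟩
  rw [lam, dif_pos hne]
  exact isPBlock_sameBlock hM hb hχ hne.choose_spec x

theorem lam_memLocalRing (hM : IsPModular p M) (b : Set (IrrCharacter G)) (x : G) :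
    MemLocalRing M (lam b x) := by
  rw [lam]
  split_ifs with h
  · exact centralChar_memLocalRing hM _ _
  · exact memLocalRing_zero hM

theorem not_memLocalIdeal_centralChar_of_lam (hM : IsPModular p M) {b : Set (IrrCharacter G)}
    (hb : IsPBlock M b) {x : G} (h : ¬ MemLocalIdeal M (lam b x)) :
    ∀ χ ∈ b, ¬ MemLocalIdeal M (centralChar (χ : G → ℂ) x) := by
  intro χ hχ hc
  apply h
  have := memLocalIdeal_sub hM hc (lam_sub hM hb hχ x)
  rwa [sub_sub_cancel] at this

/-- `∑_{ψ ∈ b} [ψ_S, 1] conj ψ(y) = |G:S| e_b(y)` for `p`-regular `y`. -/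
theorem sum_fixMult_block [Fact p.Prime] [Fintype (IrrCharacter G)] (hM : IsPModular p M)
    (S : Sylow p G) [Fintype (S : Subgroup G)] (b : Set (IrrCharacter G)) [DecidablePred (· ∈ b)]
    (hb : IsPBlock M b) {y : G} (hy : ¬ p ∣ orderOf y) :
    ∑ ψ : IrrCharacter G, (if ψ ∈ b then
        fixMult (S : Subgroup G) (ψ : G → ℂ) * conj ((ψ : G → ℂ) y) else 0)
      = ((S : Subgroup G).index : ℂ) * blockCoeff b y := by
  have h1 : ∑ s : (S : Subgroup G), bS b (s : G) y = bS b 1 y := by
    rw [Finset.sum_eq_single (1 : (S : Subgroup G))]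
    · rfl
    · intro s _ hs
      apply (bS_regular_singular hM b hb hy _).2
      obtain ⟨k, hk⟩ := (IsPGroup.iff_orderOf.1 S.isPGroup') s
      rw [Subgroup.orderOf_coe, hk]
      cases k with
      | zero =>
        exfalso
        rw [pow_zero, orderOf_eq_one_iff] at hk
        exact hs hk
      | succ k => exact dvd_pow_self p (Nat.succ_ne_zero k)
    · intro h; exact absurd (Finset.mem_univ _) h
  have hP0 : (Nat.card (S : Subgroup G) : ℂ) ≠ 0 := by exact_mod_cast Nat.card_pos.ne'
  have hG0 : (Nat.card G : ℂ) ≠ 0 := card_ne_zero_complex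
  have h2 : ∑ s : (S : Subgroup G), bS b (s : G) y
      = (Nat.card (S : Subgroup G) : ℂ) * ∑ ψ : IrrCharacter G, (if ψ ∈ b then
        fixMult (S : Subgroup G) (ψ : G → ℂ) * conj ((ψ : G → ℂ) y) else 0) := by
    simp only [bS_eq_sum]
    rw [Finset.sum_comm, Finset.mul_sum]
    apply Finset.sum_congr rfl
    intro χ _
    by_cases hχ : χ ∈ b
    · simp only [if_pos hχ, one_mul, fixMult, mul_one]
      rw [← Finset.sum_mul]
      field_simp
    · simp [if_neg hχ]
  have hidx : (Nat.card G : ℂ) = ((S : Subgroup G).index : ℂ) * (Nat.card (S : Subgroup G) : ℂ) := by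
    exact_mod_cast ((S : Subgroup G).index_mul_card).symm
  have hI0 : ((S : Subgroup G).index : ℂ) ≠ 0 := by
    exact_mod_cast (S : Subgroup G).index_ne_zero_of_finite
  rw [blockCoeff_eq_bS, ← h1, h2, hidx]
  field_simp

open Classical in
/-- The matrix `T` modulo the local ideal. -/
theorem sum_centralChar_fixMult_congr [Fact p.Prime] [Fintype (IrrCharacter G)]
    [Fintype (Set (IrrCharacter G))] (hM : IsPModular p M) (S : Sylow p G)
    [Fintype (S : Subgroup G)] (x : G) {y : G} (hy : ¬ p ∣ orderOf y) :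
    MemLocalIdeal M (∑ χ : IrrCharacter G, centralChar (χ : G → ℂ) x *
        (fixMult (S : Subgroup G) (χ : G → ℂ) * conj ((χ : G → ℂ) y))
      - ((S : Subgroup G).index : ℂ) * ∑ b : Set (IrrCharacter G),
          if IsPBlock M b then lam b x * blockCoeff b y else 0) := by
  rw [sum_irr_eq_sum_blocks hM, Finset.mul_sum, ← Finset.sum_sub_distrib]
  apply memLocalIdeal_sum hM
  intro b _
  by_cases hb : IsPBlock M b
  · rw [if_pos hb, if_pos hb]
    have h1 : ((S : Subgroup G).index : ℂ) * (lam b x * blockCoeff b y)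
        = ∑ ψ : IrrCharacter G, (if ψ ∈ b then
          lam b x * (fixMult (S : Subgroup G) (ψ : G → ℂ) * conj ((ψ : G → ℂ) y)) else 0) := by
      rw [mul_left_comm, ← sum_fixMult_block hM S b hb hy, Finset.mul_sum]
      apply Finset.sum_congr rfl
      intro ψ _
      split_ifs <;> simp
    rw [h1, ← Finset.sum_sub_distrib]
    apply memLocalIdeal_sum hM
    intro ψ _
    by_cases hψ : ψ ∈ b
    · rw [if_pos hψ, if_pos hψ, ← sub_mul]
      apply memLocalIdeal_mul_right hM (lam_sub hM hb hψ x)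
      apply memLocalRing_mul hM (fixMult_memLocalRing hM _ ψ)
      rw [← isCharacter_inv (isCharacter_of_isIrrCharacter ψ.2)]
      exact memLocalRing_of_isIntegral hM
        (isCharacter_isIntegral (isCharacter_of_isIrrCharacter ψ.2) _)
    · rw [if_neg hψ, if_neg hψ, sub_zero]
      exact memLocalIdeal_zero hM
  · rw [if_neg hb, if_neg hb, mul_zero, sub_zero]
    exact memLocalIdeal_zero hM

/-- If the central character of `b` is a unit at `x`, the idempotent coefficient a unit at `y`,
and `D` is a Sylow subgroup of both centralisers, then `D` is a defect group of `b`. -/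
theorem isDefectGroup_of_units [Fact p.Prime] (hM : IsPModular p M) {b : Set (IrrCharacter G)}
    (hb : IsPBlock M b) {D : Subgroup G} {x y : G}
    (hx : SylowIn p (Subgroup.centralizer ({x} : Set G)) D)
    (hy : SylowIn p (Subgroup.centralizer ({y} : Set G)) D)
    (h1 : ¬ MemLocalIdeal M (lam b x)) (h2 : ¬ MemLocalIdeal M (blockCoeff b y)) :
    IsDefectGroup p M b D := by
  obtain ⟨P, hP⟩ := exists_isDefectGroup hM b hb
  obtain ⟨g₀, hg₀, hPS⟩ := isDefectGroup_iff.1 hP
  obtain ⟨u, hu⟩ := minmax_le_conj hM b hb x g₀ (not_memLocalIdeal_centralChar_of_lam hM hb h1)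
    hg₀.2.1 D hx P hPS.isPGroup hPS.le
  obtain ⟨v, hv⟩ := minmax_le_conj hM b hb g₀ y hg₀.2.2 h2 P hPS D hy.isPGroup hy.le
  have h3 : P.map (MulAut.conj u).toMonoidHom = D := by
    apply Subgroup.eq_of_le_of_card_ge hu
    rw [card_map_conj, ← card_map_conj D v]
    exact Subgroup.card_le_of_le hv
  rw [← h3]
  exact isDefectGroup_conj hP u

/-- If `b`, `b'` have the normal defect group `D`, the coefficient of `b` and the central character
of `b'` are units at `g`, then `D` is a Sylow subgroup of `C(g)`. -/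
theorem sylowIn_of_units [Fact p.Prime] (hM : IsPModular p M) {b b' : Set (IrrCharacter G)}
    (hb : IsPBlock M b) (hb' : IsPBlock M b') {D : Subgroup G} (hDn : D.Normal)
    (hD : IsDefectGroup p M b D) (hD' : IsDefectGroup p M b' D) {g : G}
    (h1 : ¬ MemLocalIdeal M (blockCoeff b g)) (h2 : ¬ MemLocalIdeal M (lam b' g)) :
    SylowIn p (Subgroup.centralizer ({g} : Set G)) D := by
  obtain ⟨g₁, hg₁, hS₁⟩ := isDefectGroup_iff.1 hD
  obtain ⟨g₂, hg₂, hS₂⟩ := isDefectGroup_iff.1 hD'
  obtain ⟨Q, hQ⟩ := exists_sylowIn (p := p) (Subgroup.centralizer ({g} : Set G))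
  obtain ⟨u, hu⟩ := minmax_le_conj hM b hb g₁ g hg₁.2.2 h1 D hS₁ Q hQ.isPGroup hQ.le
  obtain ⟨v, hv⟩ := minmax_le_conj hM b' hb' g g₂ (not_memLocalIdeal_centralChar_of_lam hM hb' h2)
    hg₂.2.1 Q hQ D hS₂.isPGroup hS₂.le
  have h3 : D.map (MulAut.conj v).toMonoidHom = D := by
    apply Subgroup.eq_of_le_of_card_ge
    · rintro _ ⟨d, hd, rfl⟩
      exact hDn.conj_mem d hd v
    · rw [card_map_conj]
  rw [h3] at hv
  have h4 : D = Q := by
    apply Subgroup.eq_of_le_of_card_ge hv
    rw [← card_map_conj Q u]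
    exact Subgroup.card_le_of_le hu
  rw [h4]
  exact hQ

end Cfsg.Agent.Lib.Helper21
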