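import Cfsg.Agent.Lib.Helper21.Robinson2
import Cfsg.Agent.Lib.Helper21.RankMap
import Cfsg.Agent.Lib.Helper80.GARes
import Cfsg.Agent.Lib.Helper81.Vanish

set_option autoImplicit false
open Cfsg
open scoped ComplexConjugate
open Cfsg.Agent.Lib.Helper20 Cfsg.Agent.Lib.Helper81 Cfsg.Agent.Lib.Helper80

namespace Cfsg.Agent.Lib.Helper21

section linalg

open Matrix

/-- rank of `X Y diag(v)` when `Y X = 1`. -/
theorem rank_of_factorization {F : Type*} [Field F] {ι β : Type*} [Fintype ι] [DecidableEq ι]
    [Fintype β] [DecidableEq β] (X : Matrix ι β F) (Y : Matrix β ι F) (hYX : Y * X = 1)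
    (v : ι → F) (hv : ∀ j, v j ≠ 0) (W : Matrix ι ι F)
    (hW : ∀ i j, W i j = (X * Y) i j * v j) : W.rank = Fintype.card β := by
  have h1 : W = (X * Y) * diagonal v := by
    ext i j
    rw [hW, mul_diagonal]
  have hdet : IsUnit (diagonal v).det := by
    rw [det_diagonal]
    exact IsUnit.mk0 _ (Finset.prod_ne_zero_iff.2 (fun j _ => hv j))
  rw [h1, rank_mul_eq_left_of_isUnit_det _ _ hdet]
  apply le_antisymm
  · exact (rank_mul_le_left X Y).trans (rank_le_card_width X)
  · have h2 : Y * (X * Y) * X = 1 := by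
      rw [← Matrix.mul_assoc, hYX, Matrix.one_mul, hYX]
    have h3 : (1 : Matrix β β F).rank = Fintype.card β := rank_one
    rw [← h3, ← h2]
    exact (rank_mul_le_left _ _).trans (rank_mul_le_right _ _)

theorem rank_natCast_zmod {F : Type*} [Field F] (p : ℕ) [Fact p.Prime] [CharP F p] {ι : Type*}
    [Fintype ι] [DecidableEq ι] (W : ι → ι → ℕ) :
    (Matrix.of fun i j => ((W i j : ℕ) : ZMod p)).rank
      = (Matrix.of fun i j => ((W i j : ℕ) : F)).rank := by
  rw [← rank_map_field (ZMod.castHom (dvd_refl p) F)]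
  congr 1
  ext i j
  simp

end linalg

variable {G : Type*} [Group G] [Fintype G] {p : ℕ} {M : Ideal AlgInt}

theorem resC_natCast' (hM : IsPModular p M) (n : ℕ) : resC hM (n : ℂ) = (n : Kr hM) := by
  rw [resC_of_mem hM (memLocalRing_natCast hM n)]
  have h1 : (⟨(n : ℂ), memLocalRing_natCast hM n⟩ : locRing hM) = (n : locRing hM) := by
    apply Subtype.ext
    simp
  rw [h1, map_natCast]

theorem natCast_Kr_ne_zero (hM : IsPModular p M) {n : ℕ} (hn : ¬ p ∣ n) : (n : Kr hM) ≠ 0 := by
  rw [← resC_natCast' hM, Ne, resC_eq_zero_iff hM (memLocalRing_natCast hM n),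
    memLocalIdeal_natCast_iff hM]
  exact hn

/-- The orthogonality `Y X = 1`. -/
theorem sum_resC_blockCoeff_mul_lam [Fact p.Prime] (hM : IsPModular p M) {D : Subgroup G}
    (hDn : D.Normal) {ι : Type*} [Fintype ι] (x : ι → G)
    (hxinj : ∀ i j, IsConj (x i) (x j) → i = j)
    (hcomplete : ∀ g : G, ¬ p ∣ orderOf g → SylowIn p (Subgroup.centralizer ({g} : Set G)) D →
      ∃ i, IsConj (x i) g)
    {B B' : Set (IrrCharacter G)} (hB : IsPBlock M B) (hB' : IsPBlock M B')
    (hBD : IsDefectGroup p M B D) (hBD' : IsDefectGroup p M B' D) [Decidable (B = B')] :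
    ∑ i, resC hM (blockCoeff B (x i)) * resC hM (lam B' (x i)) = if B = B' then 1 else 0 := by
  classical
  haveI : Fintype (ConjClasses G) := Fintype.ofFinite _
  obtain ⟨χ', hχ'⟩ := isPBlock_nonempty hM hB'
  have e1 := omega_blockCoeff B χ'
  rw [omega_eq_sum_classes (irr_classFunction χ') (blockCoeff_classFunction B)] at e1
  have e2 := congrArg (resC hM) e1
  rw [resC_sum hM Finset.univ (fun C : ConjClasses G => blockCoeff B (Quotient.out C) *
    centralChar (χ' : G → ℂ) (Quotient.out C)) (fun C _ => memLocalRing_mul hM (osima hM B hB _)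
    (centralChar_memLocalRing hM χ' _))] at e2
  have e3 : resC hM (if χ' ∈ B then (1 : ℂ) else 0) = if B = B' then 1 else 0 := by
    by_cases h : B = B'
    · rw [if_pos h, if_pos (h ▸ hχ'), resC_one]
    · rw [if_neg h, if_neg, resC_zero]
      intro hc
      apply h
      rw [isPBlock_eq_blockOf hM hB hc, isPBlock_eq_blockOf hM hB' hχ']
  rw [← e3, ← e2]
  apply Fintype.sum_of_injective (fun i => ConjClasses.mk (x i))
  · intro i j hij
    exact hxinj i j (ConjClasses.mk_eq_mk_iff_isConj.1 hij)
  · intro C hC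
    set g₀ := Quotient.out C with hg₀
    have hmk : ConjClasses.mk g₀ = C := Quotient.out_eq C
    rw [resC_eq_zero_iff hM (memLocalRing_mul hM (osima hM B hB _)
      (centralChar_memLocalRing hM χ' _))]
    by_cases h1 : MemLocalIdeal M (blockCoeff B g₀)
    · exact memLocalIdeal_mul_right hM h1 (centralChar_memLocalRing hM χ' _)
    by_cases h2 : MemLocalIdeal M (centralChar (χ' : G → ℂ) g₀)
    · exact memLocalIdeal_mul_left hM (osima hM B hB _) h2
    exfalso
    have hreg : ¬ p ∣ orderOf g₀ := by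
      intro hs
      apply h1
      rw [blockCoeff_eq_zero_of_singular hM B hB hs]
      exact memLocalIdeal_zero hM
    have h3 : ¬ MemLocalIdeal M (lam B' g₀) := by
      intro hc
      apply h2
      have := memLocalIdeal_add hM (lam_sub hM hB' hχ' g₀) hc
      rwa [sub_add_cancel] at this
    obtain ⟨i, hi⟩ := hcomplete g₀ hreg (sylowIn_of_units hM hB hB' hDn hBD hBD' h1 h3)
    apply hC
    exact ⟨i, by
      show ConjClasses.mk (x i) = C
      rw [← hmk]; exact ConjClasses.mk_eq_mk_iff_isConj.2 hi⟩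
  · intro i
    have hc : IsConj (Quotient.out (ConjClasses.mk (x i))) (x i) := isConj_out (x i)
    rw [resC_mul hM (osima hM B hB _) (centralChar_memLocalRing hM χ' _),
      classFunction_isConj (blockCoeff_classFunction B) hc,
      Cfsg.Agent.Lib.Helper81.centralChar_conj χ' hc]
    congr 1
    rw [resC_eq_iff hM (lam_memLocalRing hM _ _) (centralChar_memLocalRing hM χ' _)]
    have := memLocalIdeal_neg (lam_sub hM hB' hχ' (x i))
    rwa [neg_sub] at this

end Cfsg.Agent.Lib.Helper21
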