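import Cfsg.Agent.Lib.Helper21.Robinson3

set_option autoImplicit false
open Cfsg
open scoped ComplexConjugate
open Cfsg.Agent.Lib.Helper20 Cfsg.Agent.Lib.Helper81 Cfsg.Agent.Lib.Helper80

namespace Cfsg.Agent.Lib.Helper21

variable {G : Type*} [Group G] [Fintype G] {p : ℕ} {M : Ideal AlgInt}

theorem sum_centralChar_fixMult_memLocalRing [Fintype (IrrCharacter G)] (hM : IsPModular p M)
    (S : Subgroup G) [Fintype S] (x y : G) :
    MemLocalRing M (∑ χ : IrrCharacter G, centralChar (χ : G → ℂ) x *
        (fixMult S (χ : G → ℂ) * conj ((χ : G → ℂ) y))) := by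
  apply memLocalRing_sum hM
  intro χ _
  apply memLocalRing_mul hM (centralChar_memLocalRing hM χ _)
  apply memLocalRing_mul hM (fixMult_memLocalRing hM _ χ)
  rw [← isCharacter_inv (isCharacter_of_isIrrCharacter χ.2)]
  exact memLocalRing_of_isIntegral hM (isCharacter_isIntegral (isCharacter_of_isIrrCharacter χ.2) _)

/-- The integer matrix entry in terms of characters. -/
theorem sum_centralChar_fixMult_eq_natCast [Fact p.Prime] [Fintype (IrrCharacter G)]
    (hM : IsPModular p M) (S : Sylow p G) [Fintype (S : Subgroup G)] {D : Subgroup G} (x y : G)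
    (hy : SylowIn p (Subgroup.centralizer ({y} : Set G)) D) :
    ∑ χ : IrrCharacter G, centralChar (χ : G → ℂ) x *
        (fixMult (S : Subgroup G) (χ : G → ℂ) * conj ((χ : G → ℂ) y))
      = ((Nat.card (Subgroup.centralizer ({y} : Set G)) /
          p ^ (Nat.card (Subgroup.centralizer ({y} : Set G))).factorization p : ℕ) : ℂ) *
        ((Nat.card {yz : G × G // yz.1 ∈ (ConjClasses.mk x).carrier ∧
          yz.2 ∈ (ConjClasses.mk y).carrier ∧ yz.2 * yz.1⁻¹ ∈ (S : Subgroup G)} /
          p ^ ((Nat.card G).factorization p - (Nat.card D).factorization p) : ℕ) : ℂ) := by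
  have hp := hM.1
  set T := ∑ χ : IrrCharacter G, centralChar (χ : G → ℂ) x *
        (fixMult (S : Subgroup G) (χ : G → ℂ) * conj ((χ : G → ℂ) y)) with hT
  set n := Nat.card {yz : G × G // yz.1 ∈ (ConjClasses.mk x).carrier ∧
          yz.2 ∈ (ConjClasses.mk y).carrier ∧ yz.2 * yz.1⁻¹ ∈ (S : Subgroup G)} with hn
  set Cy := Nat.card (Subgroup.centralizer ({y} : Set G)) with hCy
  set k := Cy.factorization p with hk
  set c := Cy / p ^ k with hc
  set a := (Nat.card G).factorization p with ha
  have hCy0 : Cy ≠ 0 := Nat.card_pos.ne'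
  have hDk : Nat.card D = p ^ k := sylowIn_card_eq_pow hy
  have hDfac : (Nat.card D).factorization p = k := by
    rw [hDk, hp.factorization_pow]; simp
  have hS : Nat.card (S : Subgroup G) = p ^ a := S.card_eq_multiplicity
  have hka : k ≤ a :=
    (Nat.factorization_le_iff_dvd hCy0 Nat.card_pos.ne').2 (Subgroup.card_subgroup_dvd_card _) p
  have hcount : (Nat.card (S : Subgroup G) : ℂ) * T = (Cy : ℂ) * (n : ℂ) :=
    card_mul_sum_centralChar_fixMult (S : Subgroup G) y x
  have hCc : p ^ k * c = Cy := Nat.ordProj_mul_ordCompl_eq_self Cy p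
  have hcp : ¬ p ∣ c := Nat.not_dvd_ordCompl hp hCy0
  have hc0 : c ≠ 0 := fun h => hcp (h ▸ dvd_zero p)
  have hp0 : (p : ℂ) ≠ 0 := by exact_mod_cast hp.ne_zero
  have h1 : ((p ^ (a - k) : ℕ) : ℂ) * T = ((c * n : ℕ) : ℂ) := by
    have h2 : (p : ℂ) ^ a = (p : ℂ) ^ k * (p : ℂ) ^ (a - k) := by
      rw [← pow_add, Nat.add_sub_cancel' hka]
    rw [hS, ← hCc] at hcount
    push_cast at hcount ⊢
    rw [h2] at hcount
    apply mul_left_cancel₀ (pow_ne_zero k hp0)
    rw [← mul_assoc, hcount]
    ring
  have hTR : MemLocalRing M T := sum_centralChar_fixMult_memLocalRing hM _ x y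
  have hdiv : p ^ (a - k) ∣ n := by
    by_cases hn0 : n = 0
    · rw [hn0]; exact dvd_zero _
    · have h3 := factorization_le_of_eq_mul hM (mul_ne_zero hc0 hn0)
        (pow_ne_zero (a - k) hp.ne_zero) hTR h1.symm
      rw [hp.factorization_pow, Nat.factorization_mul hc0 hn0,
        Finsupp.add_apply, Nat.factorization_eq_zero_of_not_dvd hcp, zero_add] at h3
      simp only [Finsupp.single_eq_same] at h3
      exact (hp.pow_dvd_iff_le_factorization hn0).2 h3
  obtain ⟨w, hw⟩ := hdiv
  have hw' : n / p ^ (a - k) = w := by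
    rw [hw, Nat.mul_div_cancel_left _ (pow_pos hp.pos _)]
  rw [hDfac, hw']
  apply mul_left_cancel₀ (show ((p ^ (a - k) : ℕ) : ℂ) ≠ 0 by
    exact_mod_cast pow_ne_zero (a - k) hp.ne_zero)
  rw [h1, hw]
  push_cast
  ring

open Classical in
/-- The character matrix over the residue field. -/
theorem resC_sum_centralChar_fixMult [Fact p.Prime] [Fintype (IrrCharacter G)]
    (hM : IsPModular p M) (S : Sylow p G) [Fintype (S : Subgroup G)] {D : Subgroup G} (x y : G)
    (hx : SylowIn p (Subgroup.centralizer ({x} : Set G)) D)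
    (hy : SylowIn p (Subgroup.centralizer ({y} : Set G)) D) (hyreg : ¬ p ∣ orderOf y)
    [Fintype {B : Set (IrrCharacter G) // IsPBlock M B ∧ IsDefectGroup p M B D}] :
    resC hM (∑ χ : IrrCharacter G, centralChar (χ : G → ℂ) x *
        (fixMult (S : Subgroup G) (χ : G → ℂ) * conj ((χ : G → ℂ) y)))
      = ((S : Subgroup G).index : Kr hM) *
        ∑ B : {B : Set (IrrCharacter G) // IsPBlock M B ∧ IsDefectGroup p M B D},
          resC hM (lam B.1 x) * resC hM (blockCoeff B.1 y) := by
  haveI : Fintype (Set (IrrCharacter G)) := Fintype.ofFinite _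
  have hterm : ∀ b : Set (IrrCharacter G), MemLocalRing M
      (if IsPBlock M b then lam b x * blockCoeff b y else 0) := by
    intro b
    split_ifs with hb
    · exact memLocalRing_mul hM (lam_memLocalRing hM b x) (osima hM b hb y)
    · exact memLocalRing_zero hM
  have hsum : MemLocalRing M (∑ b : Set (IrrCharacter G),
      if IsPBlock M b then lam b x * blockCoeff b y else 0) :=
    memLocalRing_sum hM _ _ (fun b _ => hterm b)
  have h1 := sum_centralChar_fixMult_congr hM S x hyreg
  rw [← resC_eq_iff hM (sum_centralChar_fixMult_memLocalRing hM _ x y)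
    (memLocalRing_mul hM (memLocalRing_natCast hM _) hsum)] at h1
  rw [h1, resC_mul hM (memLocalRing_natCast hM _) hsum, resC_natCast',
    resC_sum hM _ _ (fun b _ => hterm b)]
  congr 1
  symm
  apply Fintype.sum_of_injective Subtype.val Subtype.val_injective
  · intro b hb
    by_cases hblk : IsPBlock M b
    · rw [if_pos hblk, resC_eq_zero_iff hM
        (memLocalRing_mul hM (lam_memLocalRing hM b x) (osima hM b hblk y))]
      by_cases h2 : MemLocalIdeal M (lam b x)
      · exact memLocalIdeal_mul_right hM h2 (osima hM b hblk y)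
      by_cases h3 : MemLocalIdeal M (blockCoeff b y)
      · exact memLocalIdeal_mul_left hM (lam_memLocalRing hM b x) h3
      exfalso
      apply hb
      exact ⟨⟨b, hblk, isDefectGroup_of_units hM hblk hx hy h2 h3⟩, rfl⟩
    · rw [if_neg hblk, resC_zero]
  · intro B
    rw [if_pos B.2.1, resC_mul hM (lam_memLocalRing hM _ x) (osima hM _ B.2.1 y)]

/-- Robinson: the number of blocks with the normal defect group `D` as a rank. -/
theorem robinson_rank [Fact p.Prime] (hM : IsPModular p M) (D : Subgroup G) (hDn : D.Normal)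
    (S : Sylow p G) {ι : Type*} [Fintype ι] [DecidableEq ι] (K : ι → ConjClasses G)
    (hKinj : Function.Injective K)
    (hK : ∀ C : ConjClasses G, (∃ i, K i = C) ↔ ∃ x ∈ C.carrier, ¬ p ∣ orderOf x ∧
      SylowIn p (Subgroup.centralizer ({x} : Set G)) D) :
    Nat.card {B : Set (IrrCharacter G) // IsPBlock M B ∧ IsDefectGroup p M B D}
      = (Matrix.of fun i j : ι => ((Nat.card {yz : G × G // yz.1 ∈ (K i).carrier ∧
          yz.2 ∈ (K j).carrier ∧ yz.2 * yz.1⁻¹ ∈ (S : Subgroup G)} /
          p ^ ((Nat.card G).factorization p - (Nat.card D).factorization p) : ℕ) : ZMod p)).rank := by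
  classical
  haveI : Finite (IrrCharacter G) := finite_irrCharacter
  haveI : Fintype (IrrCharacter G) := Fintype.ofFinite _
  haveI : Fintype (S : Subgroup G) := Fintype.ofFinite _
  haveI : Fintype {B : Set (IrrCharacter G) // IsPBlock M B ∧ IsDefectGroup p M B D} :=
    Fintype.ofFinite _
  have hp := hM.1
  have hex : ∀ i, ∃ x ∈ (K i).carrier, ¬ p ∣ orderOf x ∧
      SylowIn p (Subgroup.centralizer ({x} : Set G)) D := fun i => (hK (K i)).1 ⟨i, rfl⟩
  choose x hx1 hx2 hx3 using hex
  have hx1' : ∀ i, ConjClasses.mk (x i) = K i := fun i => ConjClasses.mem_carrier_iff_mk_eq.1 (hx1 i)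
  have hxinj : ∀ i j, IsConj (x i) (x j) → i = j := by
    intro i j h
    apply hKinj
    rw [← hx1', ← hx1']
    exact ConjClasses.mk_eq_mk_iff_isConj.2 h
  have hcomplete : ∀ g : G, ¬ p ∣ orderOf g →
      SylowIn p (Subgroup.centralizer ({g} : Set G)) D → ∃ i, IsConj (x i) g := by
    intro g hg hgS
    obtain ⟨i, hi⟩ := (hK (ConjClasses.mk g)).2 ⟨g, ConjClasses.mem_carrier_mk, hg, hgS⟩
    refine ⟨i, ?_⟩
    rw [← ConjClasses.mk_eq_mk_iff_isConj, hx1', hi]
  rw [rank_natCast_zmod (F := Kr hM) p, Nat.card_eq_fintype_card]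
  symm
  set c : ι → ℕ := fun j => Nat.card (Subgroup.centralizer ({x j} : Set G)) /
      p ^ (Nat.card (Subgroup.centralizer ({x j} : Set G))).factorization p with hc
  have hcp : ∀ j, ¬ p ∣ c j := fun j => Nat.not_dvd_ordCompl hp Nat.card_pos.ne'
  apply rank_of_factorization
    (Matrix.of fun (i : ι) (B : {B : Set (IrrCharacter G) // IsPBlock M B ∧ IsDefectGroup p M B D}) =>
      resC hM (lam B.1 (x i)))
    (Matrix.of fun (B : {B : Set (IrrCharacter G) // IsPBlock M B ∧ IsDefectGroup p M B D}) (j : ι) =>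
      resC hM (blockCoeff B.1 (x j)))
    ?_ (fun j => ((S : Subgroup G).index : Kr hM) / (c j : Kr hM)) ?_ _ ?_
  · ext B B'
    rw [Matrix.mul_apply, Matrix.one_apply]
    simp only [Matrix.of_apply]
    rw [sum_resC_blockCoeff_mul_lam hM hDn x hxinj hcomplete B.2.1 B'.2.1 B.2.2 B'.2.2]
    by_cases h : B = B'
    · rw [if_pos h, if_pos (congrArg Subtype.val h)]
    · rw [if_neg h, if_neg (fun h' => h (Subtype.ext h'))]
  · intro j
    exact div_ne_zero (natCast_Kr_ne_zero hM S.not_dvd_index) (natCast_Kr_ne_zero hM (hcp j))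
  · intro i j
    have e1 := sum_centralChar_fixMult_eq_natCast hM S (x i) (x j) (hx3 j)
    have e2 := resC_sum_centralChar_fixMult hM S (x i) (x j) (hx3 i) (hx3 j) (hx2 j)
    rw [e1, resC_mul hM (memLocalRing_natCast hM _) (memLocalRing_natCast hM _), resC_natCast',
      resC_natCast', hx1', hx1'] at e2
    rw [Matrix.of_apply, Matrix.mul_apply]
    simp only [Matrix.of_apply]
    have hc0 : (c j : Kr hM) ≠ 0 := natCast_Kr_ne_zero hM (hcp j)
    field_simp
    rw [mul_comm, e2]
    ring

end Cfsg.Agent.Lib.Helper21
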