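import Cfsg.Agent.Lib.Helper21.Robinson4
import Cfsg.Agent.Lib.Helper21.StabDefect
import Cfsg.Agent.S0919
import Cfsg.Agent.Lib.Helper20.HeightZero

set_option autoImplicit false
open Cfsg
open scoped ComplexConjugate
open Cfsg.Agent.Lib.Helper20 Cfsg.Agent.Lib.Helper81

namespace Cfsg.Agent.Lib.Helper21

variable {G : Type*} [Group G] [Fintype G] {p : ℕ} {M : Ideal AlgInt}

/-- Brauer's first main theorem as an equality of cardinalities. -/
theorem card_blocks_defect_eq_normalizer [Fact p.Prime] (hM : IsPModular p M) (D : Subgroup G)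
    (hD : IsPGroup p D) :
    Nat.card {B : Set (IrrCharacter G) // IsPBlock M B ∧ IsDefectGroup p M B D}
      = Nat.card {b : Set (IrrCharacter (Subgroup.normalizer (D : Set G))) // IsPBlock M b ∧
          IsDefectGroup p M b (D.subgroupOf (Subgroup.normalizer (D : Set G)))} := by
  have hex : ∀ b : {b : Set (IrrCharacter (Subgroup.normalizer (D : Set G))) // IsPBlock M b ∧
      IsDefectGroup p M b (D.subgroupOf (Subgroup.normalizer (D : Set G)))},
      ∃ B : Set (IrrCharacter G), IsInducedBlock M (Subgroup.normalizer (D : Set G)) b.1 B :=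
    fun b => Cfsg.Agent.S0919.result p M hM D _ hD Subgroup.le_normalizer
      (Subgroup.centralizer_le_normalizer _) le_rfl b.1 b.2.1
  choose f hf using hex
  symm
  apply Nat.card_congr
  apply Equiv.ofBijective (fun b => (⟨f b, (hf b).2.1,
    isDefectGroup_of_induced_normalizer hM D hD (hf b) b.2.2⟩ :
      {B : Set (IrrCharacter G) // IsPBlock M B ∧ IsDefectGroup p M B D}))
  constructor
  · intro b₁ b₂ h
    have h1 : f b₁ = f b₂ := congrArg Subtype.val h
    apply Subtype.ext
    have h2 := hf b₂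
    rw [← h1] at h2
    exact block_normalizer_unique hM D hD (hf b₁) h2 b₁.2.2
  · intro B
    obtain ⟨b, hb, hbD, hind⟩ := exists_block_normalizer hM D hD B.1 B.2.1 B.2.2
    refine ⟨⟨b, hb, hbD⟩, ?_⟩
    apply Subtype.ext
    exact isInducedBlock_unique hM (hf ⟨b, hb, hbD⟩) hind

/-- Blocks of a group with a normal Sylow `p`-subgroup `S`: their number is the number of
`p`-regular classes contained in `C(S)`. -/
theorem card_blocks_normal_sylow [Fact p.Prime] (hM : IsPModular p M) (S : Sylow p G)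
    (hSn : (S : Subgroup G).Normal) :
    Nat.card {B : Set (IrrCharacter G) // IsPBlock M B ∧ IsDefectGroup p M B (S : Subgroup G)}
      = Nat.card {C : ConjClasses G // ∀ n : G, ConjClasses.mk n = C →
          ¬ p ∣ orderOf n ∧ n ∈ Subgroup.centralizer ((S : Subgroup G) : Set G)} := by
  classical
  have hp := hM.1
  haveI := hSn
  haveI : Fintype {C : ConjClasses G // ∀ n : G, ConjClasses.mk n = C →
      ¬ p ∣ orderOf n ∧ n ∈ Subgroup.centralizer ((S : Subgroup G) : Set G)} := Fintype.ofFinite _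
  have hK : ∀ C : ConjClasses G, (∃ i : {C : ConjClasses G // ∀ n : G, ConjClasses.mk n = C →
      ¬ p ∣ orderOf n ∧ n ∈ Subgroup.centralizer ((S : Subgroup G) : Set G)}, i.1 = C) ↔
      ∃ x ∈ C.carrier, ¬ p ∣ orderOf x ∧
        SylowIn p (Subgroup.centralizer ({x} : Set G)) (S : Subgroup G) := by
    intro C
    constructor
    · rintro ⟨i, rfl⟩
      obtain ⟨x, hx⟩ := ConjClasses.exists_rep i.1
      obtain ⟨h1, h2⟩ := i.2 x hx
      refine ⟨x, ConjClasses.mem_carrier_iff_mk_eq.2 hx, h1, ?_⟩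
      rw [sylowIn_iff]
      exact ⟨le_centralizer_singleton_iff.2 h2, S.isPGroup', fun Q hQ hSQ _ => S.is_maximal' hQ hSQ⟩
    · rintro ⟨x, hx, hreg, hS⟩
      refine ⟨⟨C, ?_⟩, rfl⟩
      intro n hn
      have hx' : ConjClasses.mk x = C := ConjClasses.mem_carrier_iff_mk_eq.1 hx
      rw [← hx', ConjClasses.mk_eq_mk_iff_isConj] at hn
      obtain ⟨t, ht⟩ := isConj_iff.1 hn.symm
      have hxc : x ∈ Subgroup.centralizer ((S : Subgroup G) : Set G) :=
        le_centralizer_singleton_iff.1 hS.le
      rw [← ht]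
      refine ⟨?_, (inferInstance : (Subgroup.centralizer ((S : Subgroup G) : Set G)).Normal).conj_mem
        x hxc t⟩
      have : orderOf (t * x * t⁻¹) = orderOf x :=
        orderOf_injective (MulAut.conj t).toMonoidHom (MulAut.conj t).injective x
      rw [this]
      exact hreg
  rw [robinson_rank hM (S : Subgroup G) hSn S Subtype.val Subtype.val_injective hK]
  -- the key fact
  have key : ∀ (i j : {C : ConjClasses G // ∀ n : G, ConjClasses.mk n = C →
      ¬ p ∣ orderOf n ∧ n ∈ Subgroup.centralizer ((S : Subgroup G) : Set G)}) (y z : G),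
      y ∈ i.1.carrier → z ∈ j.1.carrier → z * y⁻¹ ∈ (S : Subgroup G) → z = y := by
    intro i j y z hy hz hs
    obtain ⟨hy1, hy2⟩ := i.2 y (ConjClasses.mem_carrier_iff_mk_eq.1 hy)
    obtain ⟨hz1, -⟩ := j.2 z (ConjClasses.mem_carrier_iff_mk_eq.1 hz)
    by_contra hne
    apply hz1
    have h1 : z = (z * y⁻¹) * y := by group
    rw [h1]
    apply dvd_orderOf_mul_of_pGroup hp _ _ hy1
    · exact ((Subgroup.mem_centralizer_iff.1 hy2) _ hs)
    · obtain ⟨k, hk⟩ := (IsPGroup.iff_orderOf.1 S.isPGroup') ⟨z * y⁻¹, hs⟩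
      rw [← Subgroup.orderOf_coe] at hk
      exact ⟨k, hk⟩
    · intro h2
      apply hne
      rw [mul_inv_eq_one] at h2
      exact h2
  have hexp : (Nat.card G).factorization p - (Nat.card (S : Subgroup G)).factorization p = 0 := by
    rw [S.card_eq_multiplicity, hp.factorization_pow]
    simp
  rw [hexp, pow_zero]
  simp only [Nat.div_one]
  have hdiag : (Matrix.of fun i j : {C : ConjClasses G // ∀ n : G, ConjClasses.mk n = C →
      ¬ p ∣ orderOf n ∧ n ∈ Subgroup.centralizer ((S : Subgroup G) : Set G)} =>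
      ((Nat.card {yz : G × G // yz.1 ∈ i.1.carrier ∧ yz.2 ∈ j.1.carrier ∧
        yz.2 * yz.1⁻¹ ∈ (S : Subgroup G)} : ℕ) : ZMod p))
      = Matrix.diagonal (fun i => ((Nat.card i.1.carrier : ℕ) : ZMod p)) := by
    ext i j
    rw [Matrix.of_apply, Matrix.diagonal_apply]
    by_cases hij : i = j
    · subst hij
      rw [if_pos rfl]
      congr 1
      apply Nat.card_congr
      refine ⟨fun yz => ⟨yz.1.1, yz.2.1⟩, fun y => ⟨(y.1, y.1), y.2, y.2, by simp⟩, ?_, ?_⟩
      · rintro ⟨⟨y, z⟩, h1, h2, h3⟩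
        apply Subtype.ext
        have := key i i y z h1 h2 h3
        simp [this]
      · intro y
        rfl
    · rw [if_neg hij]
      have hempty : IsEmpty {yz : G × G // yz.1 ∈ i.1.carrier ∧ yz.2 ∈ j.1.carrier ∧
          yz.2 * yz.1⁻¹ ∈ (S : Subgroup G)} := by
        constructor
        rintro ⟨⟨y, z⟩, h1, h2, h3⟩
        have h4 := key i j y z h1 h2 h3
        apply hij
        apply Subtype.ext
        have h5 : z ∈ j.1.carrier := h2
        have h6 : y ∈ i.1.carrier := h1
        rw [h4] at h5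
        rw [← ConjClasses.mem_carrier_iff_mk_eq.1 h6, ← ConjClasses.mem_carrier_iff_mk_eq.1 h5]
      rw [Nat.card_of_isEmpty, Nat.cast_zero]
  rw [hdiag, Matrix.rank_diagonal, Nat.card_eq_fintype_card]
  apply Fintype.card_congr
  apply Equiv.subtypeUnivEquiv
  intro i
  rw [Ne, ZMod.natCast_eq_zero_iff]
  obtain ⟨x, hx⟩ := ConjClasses.exists_rep i.1
  obtain ⟨-, h2⟩ := i.2 x hx
  have h3 : Nat.card i.1.carrier = (Subgroup.centralizer ({x} : Set G)).index := by
    rw [← Cfsg.Agent.Lib.Helper81.card_isConj_eq_index]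
    apply Nat.card_congr
    apply Equiv.subtypeEquivRight
    intro y
    rw [ConjClasses.mem_carrier_iff_mk_eq, ← hx, ConjClasses.mk_eq_mk_iff_isConj]
    exact ⟨fun h => h.symm, fun h => h.symm⟩
  rw [h3]
  intro hd
  exact S.not_dvd_index (hd.trans (Subgroup.index_dvd_of_le (le_centralizer_singleton_iff.2 h2)))

end Cfsg.Agent.Lib.Helper21
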