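import Cfsg.Agent.Lib.Helper21.Cover3
import Cfsg.Agent.Lib.Helper21.FirstMain

set_option autoImplicit false
open Cfsg
open scoped ComplexConjugate
open Cfsg.Agent.Lib.Helper20 Cfsg.Agent.Lib.Helper81 Cfsg.Agent.Lib.Helper5

namespace Cfsg.Agent.Lib.Helper21

section transport

variable {K K' : Type*} [Group K] [Group K'] {p : ℕ} {M : Ideal AlgInt}

/-- transport of irreducible characters along an isomorphism. -/
noncomputable def irrCongr [Finite K] [Finite K'] (e : K' ≃* K) : IrrCharacter K ≃ IrrCharacter K' where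
  toFun θ := ⟨(θ : K → ℂ) ∘ e, isIrrCharacter_comp_equiv e θ.2⟩
  invFun θ := ⟨(θ : K' → ℂ) ∘ e.symm, isIrrCharacter_comp_equiv e.symm θ.2⟩
  left_inv θ := by
    apply Subtype.ext
    funext x
    simp
  right_inv θ := by
    apply Subtype.ext
    funext x
    simp

theorem irrCongr_coe [Finite K] [Finite K'] (e : K' ≃* K) (θ : IrrCharacter K) :
    ((irrCongr e θ : IrrCharacter K') : K' → ℂ) = (θ : K → ℂ) ∘ e := rfl

theorem sameBlock_comp_equiv (e : K' ≃* K) {θ ψ : K → ℂ} (h : SameBlock M θ ψ) :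
    SameBlock M (θ ∘ e) (ψ ∘ e) := by
  intro x
  rw [centralChar_comp_equiv, centralChar_comp_equiv]
  exact h _

theorem isPBlock_image_irrCongr [Finite K] [Finite K'] (e : K' ≃* K) {b : Set (IrrCharacter K)}
    (hb : IsPBlock M b) : IsPBlock M (irrCongr e '' b) := by
  obtain ⟨θ₀, rfl⟩ := hb
  refine ⟨irrCongr e θ₀, ?_⟩
  ext ψ
  constructor
  · rintro ⟨θ, hθ, rfl⟩
    exact sameBlock_comp_equiv e hθ
  · intro h
    refine ⟨(irrCongr e).symm ψ, ?_, by simp⟩
    have h1 : SameBlock M ((θ₀ : K → ℂ) ∘ e) (ψ : K' → ℂ) := h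
    have h2 := sameBlock_comp_equiv e.symm h1
    have h3 : ((θ₀ : K → ℂ) ∘ e) ∘ e.symm = (θ₀ : K → ℂ) := by funext x; simp
    rw [h3] at h2
    exact h2

theorem omega_comp_equiv [Fintype K] [Fintype K'] (e : K' ≃* K) (θ w : K → ℂ) :
    omega (θ ∘ e) (w ∘ e) = omega θ w := by
  simp only [omega, Function.comp_apply, map_one]
  exact Equiv.sum_comp e.toEquiv (fun x => w x * θ x / θ 1)

end transport

section tower

variable {G : Type*} [Group G] [Fintype G] {p : ℕ} {M : Ideal AlgInt}

/-- a block of `K ≤ H`, viewed as a block of `K.subgroupOf H`. -/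
noncomputable def downBlock {K H : Subgroup G} (hKH : K ≤ H) (b : Set (IrrCharacter K)) :
    Set (IrrCharacter (K.subgroupOf H)) :=
  irrCongr (Subgroup.subgroupOfEquivOfLe hKH) '' b

theorem isPBlock_downBlock {K H : Subgroup G} (hKH : K ≤ H) {b : Set (IrrCharacter K)}
    (hb : IsPBlock M b) : IsPBlock M (downBlock hKH b) :=
  isPBlock_image_irrCongr _ hb

/-- Transitivity of induced central characters. -/
theorem inducedCentralChar_tower (hM : IsPModular p M) {K H : Subgroup G} (hKH : K ≤ H)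
    {b : Set (IrrCharacter K)} {β : Set (IrrCharacter H)}
    (hind : IsInducedBlock M (K.subgroupOf H) (downBlock hKH b) β)
    {ξ : IrrCharacter K} (hξ : ξ ∈ b) {η : IrrCharacter H} (hη : η ∈ β) (g : G) :
    MemLocalIdeal M (inducedCentralChar K (ξ : K → ℂ) g - inducedCentralChar H (η : H → ℂ) g) := by
  classical
  haveI : Fintype H := Fintype.ofFinite _
  haveI : Fintype K := Fintype.ofFinite _
  haveI : Fintype (K.subgroupOf H) := Fintype.ofFinite _
  have h1 := omega_res_sub_omega_of_induced hM hind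
    (ξ := irrCongr (Subgroup.subgroupOfEquivOfLe hKH) ξ) ⟨ξ, hξ, rfl⟩ hη
    (res_classFunction H (classInd_classFunction g)) (fun h => classInd_memLocalRing hM g h)
  rw [inducedCentralChar_eq_omega, inducedCentralChar_eq_omega]
  have h2 : (fun h : K.subgroupOf H => classInd g ((h : H) : G))
      = (fun k : K => classInd g (k : G)) ∘ (Subgroup.subgroupOfEquivOfLe hKH) := by
    funext h
    rfl
  rw [h2, irrCongr_coe, omega_comp_equiv] at h1
  exact h1

/-- Transitivity of block induction. -/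
theorem isInducedBlock_tower (hM : IsPModular p M) {K H : Subgroup G} (hKH : K ≤ H)
    {b : Set (IrrCharacter K)} {β : Set (IrrCharacter H)} {B : Set (IrrCharacter G)}
    (hind : IsInducedBlock M (K.subgroupOf H) (downBlock hKH b) β)
    (hbB : IsInducedBlock M K b B) : IsInducedBlock M H β B := by
  refine ⟨hind.2.1, hbB.2.1, ?_⟩
  intro η hη χ hχ g
  obtain ⟨ξ, hξ⟩ := isPBlock_nonempty hM hbB.1
  have h1 := inducedCentralChar_tower hM hKH hind hξ hη g
  have h2 := hbB.2.2 ξ hξ χ hχ g
  have := memLocalIdeal_sub hM h2 h1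
  rwa [sub_sub_sub_cancel_left] at this

end tower

end Cfsg.Agent.Lib.Helper21
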